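import Cfsg.Agent.Lib.helper28.GolayCount

set_option autoImplicit false

namespace Cfsg.Agent.Lib.helper28

open Cfsg
open scoped Pointwise

/-! The stabiliser of an octad: order, chain, pointwise stabiliser, orbits on octads. -/

/-- The mask of the base octad `{0, 1, 2, 3, 4, 7, 10, 12}`. -/
def o0 : ℕ := 5279

theorem o0_lt : o0 < 2 ^ 24 := by decide

theorem isOct_o0 : isOct o0 = true := by decide +kernel

theorem isCW_o0 : isCW o0 = true := by decide +kernel

theorem setOf_o0_mem_octads : setOf o0 ∈ octads := setOf_mem_octads isOct_o0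

theorem exists_smul_o0_eq {o : Finset GolayPt} (ho : o ∈ octads) : ∃ g ∈ M24, g • setOf o0 = o :=
  exists_smul_octad_eq setOf_o0_mem_octads ho

/-- The stabiliser of an octad has order 322560. -/
theorem card_stabilizer_octad {o : Finset GolayPt} (ho : o ∈ octads) :
    Nat.card (MulAction.stabilizer M24 o) = 322560 := by
  have horb : MulAction.orbit M24 o = octads := by
    ext o'
    constructor
    · rintro ⟨g, rfl⟩
      exact smul_mem_octads g.2 ho
    · intro ho'
      obtain ⟨g, hg, h⟩ := exists_smul_octad_eq ho ho'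
      exact ⟨⟨g, hg⟩, h⟩
  have h1 := Subgroup.card_mul_index (MulAction.stabilizer M24 o)
  rw [MulAction.index_stabilizer, horb, ncard_octads, card_M24] at h1
  omega

theorem card_stabM_o0 : Nat.card (stabM [o0]) = 322560 := by
  rw [← card_stabilizer_octad setOf_o0_mem_octads]
  symm
  apply card_sub_eq _ _ (stabM_le_M24 _)
  intro g
  rw [MulAction.mem_stabilizer_iff, mem_stabM]
  simp only [List.mem_singleton, forall_eq]
  constructor
  · intro h; exact ⟨g.2, h⟩
  · intro h; exact h.2

theorem stabM_o0_smul : ∀ g ∈ stabM [o0], g • setOf o0 = setOf o0 :=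
  fun _ hg => hg.2 o0 (by simp)

def octChainA : List (ℕ × ℕ × List (List ℕ)) :=
  [(0, 5279,
    [[0, 1, 2, 3, 4, 5, 6, 7, 8, 9, 10, 11, 12, 13, 14, 15, 16, 17, 18, 19, 20, 21, 22, 23],
     [1, 3, 10, 0, 4, 22, 17, 7, 11, 9, 12, 21, 2, 13, 14, 15, 18, 20, 23, 5, 6, 8, 19, 16],
     [2, 10, 1, 12, 7, 19, 11, 4, 6, 9, 3, 17, 0, 13, 15, 14, 23, 21, 16, 22, 8, 20, 5, 18],
     [3, 10, 12, 7, 4, 23, 8, 0, 17, 6, 1, 14, 2, 5, 13, 15, 11, 22, 19, 21, 9, 18, 20, 16],
     [4, 0, 1, 10, 7, 13, 9, 2, 21, 11, 12, 16, 3, 15, 20, 14, 23, 17, 6, 18, 22, 19, 8, 5],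
     [7, 12, 2, 1, 4, 13, 9, 0, 17, 6, 3, 18, 10, 14, 21, 15, 16, 11, 8, 23, 19, 5, 20, 22],
     [10, 12, 1, 0, 4, 19, 18, 7, 8, 9, 3, 13, 2, 21, 5, 15, 17, 23, 20, 14, 6, 11, 22, 16],
     [12, 1, 3, 7, 4, 20, 11, 0, 18, 6, 10, 5, 2, 14, 21, 15, 8, 19, 22, 13, 9, 17, 23, 16]]),
   (1, 5278,
    [[0, 1, 2, 3, 4, 5, 6, 7, 8, 9, 10, 11, 12, 13, 14, 15, 16, 17, 18, 19, 20, 21, 22, 23],
     [0, 2, 7, 4, 3, 8, 9, 12, 14, 6, 10, 15, 1, 17, 19, 13, 21, 11, 18, 5, 20, 23, 16, 22],
     [0, 3, 10, 4, 12, 22, 9, 2, 14, 6, 1, 18, 7, 15, 11, 8, 19, 21, 17, 5, 23, 16, 20, 13],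
     [0, 4, 10, 3, 1, 16, 6, 7, 19, 9, 2, 18, 12, 13, 15, 14, 5, 23, 11, 8, 22, 21, 20, 17],
     [0, 7, 12, 3, 4, 14, 6, 1, 19, 9, 10, 13, 2, 11, 5, 17, 23, 15, 18, 8, 20, 22, 21, 16],
     [0, 10, 2, 12, 4, 14, 6, 7, 11, 9, 1, 8, 3, 21, 5, 15, 16, 18, 17, 22, 23, 13, 19, 20],
     [0, 12, 1, 4, 3, 19, 9, 2, 5, 6, 10, 17, 7, 15, 8, 11, 22, 13, 18, 14, 20, 16, 23, 21]]),
   (2, 5276,
    [[0, 1, 2, 3, 4, 5, 6, 7, 8, 9, 10, 11, 12, 13, 14, 15, 16, 17, 18, 19, 20, 21, 22, 23],
     [0, 1, 3, 2, 10, 23, 9, 4, 21, 6, 12, 11, 7, 16, 17, 18, 20, 5, 8, 13, 19, 15, 22, 14],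
     [0, 1, 4, 12, 2, 5, 6, 7, 20, 9, 10, 23, 3, 21, 14, 16, 15, 22, 19, 18, 8, 13, 17, 11],
     [0, 1, 7, 10, 2, 17, 6, 4, 21, 9, 12, 14, 3, 20, 23, 15, 16, 22, 8, 13, 19, 18, 5, 11],
     [0, 1, 10, 7, 12, 11, 9, 2, 18, 6, 3, 14, 4, 16, 22, 8, 19, 17, 21, 20, 13, 15, 5, 23],
     [0, 1, 12, 4, 10, 11, 9, 2, 13, 6, 3, 23, 7, 15, 22, 19, 8, 5, 20, 21, 18, 16, 17, 14]]),
   (3, 5272,
    [[0, 1, 2, 3, 4, 5, 6, 7, 8, 9, 10, 11, 12, 13, 14, 15, 16, 17, 18, 19, 20, 21, 22, 23],
     [0, 1, 2, 4, 12, 21, 19, 10, 20, 9, 3, 5, 7, 23, 17, 6, 8, 15, 16, 14, 22, 13, 18, 11],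
     [0, 1, 2, 7, 10, 20, 8, 12, 21, 9, 3, 17, 4, 14, 5, 6, 19, 16, 15, 23, 22, 18, 13, 11],
     [0, 1, 2, 10, 7, 13, 15, 4, 18, 9, 3, 23, 12, 5, 14, 6, 16, 19, 8, 17, 22, 21, 20, 11],
     [0, 1, 2, 12, 4, 18, 16, 7, 13, 9, 3, 14, 10, 17, 23, 6, 15, 8, 19, 5, 22, 20, 21, 11]]),
   (4, 5264,
    [[0, 1, 2, 3, 4, 5, 6, 7, 8, 9, 10, 11, 12, 13, 14, 15, 16, 17, 18, 19, 20, 21, 22, 23],
     [0, 1, 2, 3, 7, 17, 6, 4, 19, 9, 12, 11, 10, 18, 23, 16, 15, 5, 13, 8, 21, 20, 22, 14],
     [0, 1, 2, 3, 10, 23, 6, 12, 16, 9, 4, 11, 7, 21, 17, 19, 8, 14, 20, 15, 18, 13, 22, 5],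
     [0, 1, 2, 3, 12, 14, 6, 10, 15, 9, 7, 11, 4, 20, 5, 8, 19, 23, 21, 16, 13, 18, 22, 17]]),
   (7, 5248,
    [[0, 1, 2, 3, 4, 5, 6, 7, 8, 9, 10, 11, 12, 13, 14, 15, 16, 17, 18, 19, 20, 21, 22, 23],
     [0, 1, 2, 3, 4, 18, 22, 10, 23, 9, 12, 6, 7, 15, 13, 14, 17, 20, 19, 5, 16, 8, 11, 21],
     [0, 1, 2, 3, 4, 19, 11, 12, 21, 9, 7, 22, 10, 14, 15, 13, 20, 16, 5, 18, 17, 23, 6, 8]])]

def octChainB : List (ℕ × ℕ × List (List ℕ)) :=
  [(5, 16771936,
    [[0, 1, 2, 3, 4, 5, 6, 7, 8, 9, 10, 11, 12, 13, 14, 15, 16, 17, 18, 19, 20, 21, 22, 23],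
     [0, 1, 2, 3, 4, 6, 5, 7, 18, 14, 10, 23, 12, 15, 9, 13, 21, 22, 8, 20, 19, 16, 17, 11],
     [0, 1, 2, 3, 4, 8, 18, 7, 5, 20, 10, 13, 12, 11, 19, 23, 17, 16, 6, 14, 9, 22, 21, 15],
     [0, 1, 2, 3, 4, 9, 14, 7, 20, 5, 10, 17, 12, 16, 6, 21, 13, 11, 19, 18, 8, 15, 23, 22],
     [0, 1, 2, 3, 4, 11, 23, 7, 13, 17, 10, 5, 12, 8, 22, 18, 20, 9, 15, 21, 16, 19, 14, 6],
     [0, 1, 2, 3, 4, 13, 15, 7, 11, 16, 10, 8, 12, 5, 21, 6, 9, 20, 23, 22, 17, 14, 19, 18],
     [0, 1, 2, 3, 4, 14, 9, 7, 19, 6, 10, 22, 12, 21, 5, 16, 15, 23, 20, 8, 18, 13, 11, 17],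
     [0, 1, 2, 3, 4, 15, 13, 7, 23, 21, 10, 18, 12, 6, 16, 5, 14, 19, 11, 17, 22, 9, 20, 8],
     [0, 1, 2, 3, 4, 16, 21, 7, 17, 13, 10, 20, 12, 9, 15, 14, 5, 8, 22, 23, 11, 6, 18, 19],
     [0, 1, 2, 3, 4, 17, 22, 7, 16, 11, 10, 9, 12, 20, 23, 19, 8, 5, 21, 15, 13, 18, 6, 14],
     [0, 1, 2, 3, 4, 18, 8, 7, 6, 19, 10, 15, 12, 23, 20, 11, 22, 21, 5, 9, 14, 17, 16, 13],
     [0, 1, 2, 3, 4, 19, 20, 7, 14, 18, 10, 21, 12, 22, 8, 17, 23, 15, 9, 5, 6, 11, 13, 16],
     [0, 1, 2, 3, 4, 20, 19, 7, 9, 8, 10, 16, 12, 17, 18, 22, 11, 13, 14, 6, 5, 23, 15, 21],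
     [0, 1, 2, 3, 4, 21, 16, 7, 22, 15, 10, 19, 12, 14, 13, 9, 6, 18, 17, 11, 23, 5, 8, 20],
     [0, 1, 2, 3, 4, 22, 17, 7, 21, 23, 10, 14, 12, 19, 11, 20, 18, 6, 16, 13, 15, 8, 5, 9],
     [0, 1, 2, 3, 4, 23, 11, 7, 15, 22, 10, 6, 12, 18, 17, 8, 19, 14, 13, 16, 21, 20, 9, 5]])]

def octGens : List (List ℕ × ℕ) :=
  [([2, 10, 1, 12, 7, 19, 11, 4, 6, 9, 3, 17, 0, 13, 15, 14, 23, 21, 16, 22, 8, 20, 5, 18], 0xab00202b0020ab00002b00008b00200b00208b00000b0000a90020290020a90000290000890020090020890000090000a30020230020a30000230000830020030020830000030000a10020210020a10000210000810020010020810000010000aa00202a0020aa00002a00008a00200a00208a00000a0000a80020280020a80000280000880020080020880000080000a20020220020a20000220000820020020020820000020000a00020200020a0000020000080002000002080000000000004e80804e80004c80804c80004680804680004480804480004a80804a80004880804880004280804280004080804080000e80800e80000c80800c80000680800680000480800480000a80800a80000880800880000280800280000080800080004e00804e00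004c00804c00004600804600004400804400004a00804a00004800804800004200804200004000804000000e00800e00000c00800c00000600800600000400800400000a00800a000008008008000002008002000000008000000100352100252100342100242000352000252000342000242100152100052100142100042000152000052000142000042100350100250100340100240000350000250000340000240100150100050100140100040000150000050000140000040100312100212100302100202000312000212000302000202100112100012100102100002000112000012000102000002100310100210100300100200000310000210000300000200100110100010100100100000000110000010000100000000401485400485401481400481401484400484401480400480401085400085401081400081401084400084401080400080401405400405401401400401401404400404401400400400401005400005401001400001401004400004401000400000001485000485001481000481001484000484001480000480001085000085001081000081001084000084001080000080001405000405001401000401001404000404001400000400001005000005001001000001001004000004001000000000),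
   ([7, 12, 2, 1, 4, 13, 9, 0, 17, 6, 3, 18, 10, 14, 21, 15, 16, 11, 8, 23, 19, 5, 20, 22], 0xd84800d84000c84800c84000984800984000884800884000d80800d80000c80800c80000980800980000880800880000584800584000484800484000184800184000084800084000580800580000480800480000180800180000080800080000d04800d04000c04800c04000904800904000804800804000d00800d00000c00800c0000090080090000080080080000050480050400040480040400010480010400000480000400050080050000040080040000010080010000000080000000001a12201a12001a10201a10001812201812001810201810001212201212001210201210001012201012001010201010000a12200a12000a10200a10000812200812000810200810000212200212000210200210000012200012000010200010001a02201a02001a00201a00001802201802001800201800001202201202001200201200001002201002001000201000000a02200a02000a00200a0000080220080200080020080000020220020200020020020000000220000200000020000000612410610410612400610400212410210410212400210400612010610010612000610000212010210010212000210000602410600410602400600400202410200410202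4002004006020106000106020006000002020102000102020002000004124104104104124004104000124100104100124000104004120104100104120004100000120100100100120000100004024104004104024004004000024100004100024000004004020104000104020004000000020100000100020000000020049c20041c20049420041420049820041820049020041020009c20001c20009420001420009820001820009020001020048c20040c20048420040420048820040820048020040020008c20000c20008420000420008820000820008020000000049c00041c00049400041400049800041800049000041000009c00001c00009400001400009800001800009000001000048c00040c00048400040400048800040800048000040000008c00000c000084000004000088000008000080000000)]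

/-- The masks fixed after the first six levels: the base octad and six of its points. -/
def octInv6 : List ℕ := chainInv [o0] octChainA

theorem octChainA_ok : chainOK [o0] octChainA = true := by decide +kernel

theorem octChainA_cover : chainCover o0 octChainA = true := by decide +kernel

theorem octChainB_ok : chainOK octInv6 octChainB = true := by decide +kernel

theorem octChainA_prod : chainProd octChainA = 20160 := by decide +kernel

theorem octChainB_prod : chainProd octChainB = 16 := by decide +kernel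

/-- The stabiliser of six points of the base octad in the stabiliser of the octad has order 16. -/
theorem card_stabM_octInv6 : Nat.card (stabM octInv6) = 16 := by
  have h := card_stabM_chain octChainA [o0] octChainA_ok
  rw [card_stabM_o0, octChainA_prod] at h
  unfold octInv6
  omega

theorem oct_final_bot : stabM (chainInv octInv6 octChainB) = ⊥ := by
  apply Subgroup.card_eq_one.mp
  have h := card_stabM_chain octChainB octInv6 octChainB_ok
  rw [card_stabM_octInv6, octChainB_prod] at h
  omega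

theorem fixes_of_table {g : Equiv.Perm GolayPt} {l : List ℕ} {F : ℕ} (h : IsTable g l)
    (hf : fixesTab l F = true) : ∀ p ∈ setOf F, g p = p := by
  intro p hp
  rw [mem_setOf] at hp
  have := allLt_spec hf (idx p) (idx_lt p)
  simp only [hp, Bool.not_true, Bool.false_or, beq_iff_eq] at this
  rw [h p] at this
  rw [← pt_idx (g p), this, pt_idx]

/-- Test that a table is an involution or the identity. -/
def sqOne (l : List ℕ) : Bool := allLt (fun i => l.getD (l.getD i 0) 0 == i) 24

theorem sq_eq_one_of_table {g : Equiv.Perm GolayPt} {l : List ℕ} (h : IsTable g l)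
    (hq : sqOne l = true) : g * g = 1 := by
  apply Equiv.ext
  intro p
  show g (g p) = p
  have := allLt_spec hq (idx p) (idx_lt p)
  rw [beq_iff_eq, h p, h (g p)] at this
  rw [← pt_idx (g (g p)), this, pt_idx]

theorem octChainB_all :
    chainAll (fun l => fixesTab l o0 && sqOne l) octChainB idTab = true := by decide +kernel

theorem octChainA_bases : octChainA.all (fun c => o0.testBit c.1) = true := by decide +kernel

theorem smul_eq_of_fixes {g : Equiv.Perm GolayPt} {s : Finset GolayPt} (h : ∀ p ∈ s, g p = p) :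
    g • s = s := by
  ext p
  rw [mem_smul_iff]
  constructor
  · intro hp
    have := h _ hp
    simp at this
    rw [this]; exact hp
  · intro hp
    have : g⁻¹ p = p := by
      rw [Equiv.Perm.inv_eq_iff_eq]; exact (h p hp).symm
    rw [this]; exact hp

/-- The pointwise stabiliser of the base octad. -/
theorem fixer_o0_eq : fixer (setOf o0) = stabM octInv6 := by
  ext g
  constructor
  · intro hg
    rw [mem_fixer] at hg
    unfold octInv6
    rw [mem_stabM_chainInv octChainA [o0] (chainOK_bases_lt _ _ octChainA_ok)]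
    refine ⟨⟨hg.1, ?_⟩, ?_⟩
    · intro m hm
      rw [List.mem_singleton] at hm
      rw [hm]
      exact smul_eq_of_fixes hg.2
    · intro c hc
      apply hg.2
      rw [mem_setOf, idx_pt (chainOK_bases_lt _ _ octChainA_ok c hc)]
      exact List.all_eq_true.mp octChainA_bases c hc
  · intro hg
    obtain ⟨l, hl, hQ⟩ := chainAll_sound _ octChainB octInv6 idTab 1 isTable_one octChainB_ok
      oct_final_bot octChainB_all g hg
    rw [one_mul] at hl
    rw [Bool.and_eq_true] at hQ
    rw [mem_fixer]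
    exact ⟨stabM_le_M24 _ hg, fixes_of_table hl hQ.1⟩

theorem sq_eq_one_of_mem_fixer_o0 {g : Equiv.Perm GolayPt} (hg : g ∈ fixer (setOf o0)) :
    g * g = 1 := by
  rw [fixer_o0_eq] at hg
  obtain ⟨l, hl, hQ⟩ := chainAll_sound _ octChainB octInv6 idTab 1 isTable_one octChainB_ok
    oct_final_bot octChainB_all g hg
  rw [one_mul] at hl
  rw [Bool.and_eq_true] at hQ
  exact sq_eq_one_of_table hl hQ.2

theorem mem_fixer_smul_iff {a : Equiv.Perm GolayPt} (ha : a ∈ M24) (s : Finset GolayPt)
    (g : Equiv.Perm GolayPt) : g ∈ fixer (a • s) ↔ a⁻¹ * g * a ∈ fixer s := by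
  rw [mem_fixer, mem_fixer]
  constructor
  · rintro ⟨hg, hfix⟩
    refine ⟨M24.mul_mem (M24.mul_mem (M24.inv_mem ha) hg) ha, fun p hp => ?_⟩
    rw [conj_apply_eq_iff]
    exact hfix _ (Finset.smul_mem_smul_finset (a := a) hp)
  · rintro ⟨hg, hfix⟩
    refine ⟨?_, fun p hp => ?_⟩
    · have : g = a * (a⁻¹ * g * a) * a⁻¹ := by group
      rw [this]
      exact M24.mul_mem (M24.mul_mem ha hg) (M24.inv_mem ha)
    · rw [mem_smul_iff] at hp
      have := (conj_apply_eq_iff a g _).mp (hfix _ hp)
      simpa using this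

/-- The pointwise stabiliser of an octad has order 16 and exponent 2. -/
theorem octad_pointwise_stabilizer {o : Finset GolayPt} (ho : o ∈ octads) :
    Nat.card (fixer o) = 16 ∧ ∀ g ∈ fixer o, g * g = 1 := by
  obtain ⟨a, ha, rfl⟩ := exists_smul_o0_eq ho
  constructor
  · rw [← card_stabM_octInv6, ← fixer_o0_eq]
    exact card_conj_eq _ _ a (mem_fixer_smul_iff ha _)
  · intro g hg
    have h1 := sq_eq_one_of_mem_fixer_o0 ((mem_fixer_smul_iff ha _ g).mp hg)
    have h2 : g * g = a * ((a⁻¹ * g * a) * (a⁻¹ * g * a)) * a⁻¹ := by group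
    rw [h2, h1]
    group

end Cfsg.Agent.Lib.helper28
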