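import Cfsg.Agent.Lib.helper28.GolayChain
import Cfsg.Prelude.Def_Spor_Mathieu

set_option autoImplicit false

namespace Cfsg.Agent.Lib.helper28

open Cfsg
open scoped Pointwise

/-! Dodecads: transitivity, the stabiliser of a dodecad (order 95040, sharply 5-transitive on the
dodecad), the stabiliser of a dodecad and a point (order 7920, 3-transitive on the complement). -/

/-- The mask of the dodecad of squares. -/
def d0 : ℕ := 340831

theorem d0_lt : d0 < 2 ^ 24 := by decide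

theorem isCW_d0 : isCW d0 = true := by decide +kernel

theorem squareDodecad_eq : Spor.squareDodecad = setOf d0 := by
  have h1 : maskS (support₂ (qrWord 0)) = d0 := by
    rw [← maskW_eq_maskS, genMasks_qr 0]
    rfl
  unfold Spor.squareDodecad
  rw [← setOf_maskS (support₂ (qrWord 0)), h1]

theorem setOf_d0_mem_dodecads : setOf d0 ∈ dodecads := by
  rw [mem_dodecads_iff, maskS_setOf d0_lt]
  exact ⟨isCW_d0, by decide +kernel⟩

theorem dodecadOrbit_ok :
    (orbitF stdGens 2600 d0 == bitmapOf (fun n => Nat.beq (pcF (cwF n)) 12) 4096) = true := by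
  decide +kernel

/-- Every dodecad is the image of the dodecad of squares under an element of the group. -/
theorem exists_smul_d0_eq {d : Finset GolayPt} (hd : d ∈ dodecads) :
    ∃ g ∈ M24, g • setOf d0 = d := by
  rw [mem_dodecads_iff] at hd
  obtain ⟨n, hn, hcw⟩ := (isCW_iff_exists (maskS_lt d)).mp hd.1
  have hP : (fun n => Nat.beq (pcF (cwF n)) 12) n = true := by
    show Nat.beq (pcF (cwF n)) 12 = true
    rw [cwF_eq hn, pcF_eq (cw_lt hn), ← hcw, hd.2]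
    rfl
  obtain ⟨g, hg, hgd⟩ := orbitF_of_bits stdGens_ok d0_lt isCW_d0 2600 _ dodecadOrbit_ok hn hP
  refine ⟨g, hg.1, ?_⟩
  rw [hgd, ← hcw, setOf_maskS]

/-- The group of the code is transitive on dodecads. -/
theorem exists_smul_dodecad_eq {d d' : Finset GolayPt} (hd : d ∈ dodecads) (hd' : d' ∈ dodecads) :
    ∃ g ∈ M24, g • d = d' := by
  obtain ⟨g1, hg1, h1⟩ := exists_smul_d0_eq hd
  obtain ⟨g2, hg2, h2⟩ := exists_smul_d0_eq hd'
  refine ⟨g2 * g1⁻¹, M24.mul_mem hg2 (M24.inv_mem hg1), ?_⟩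
  rw [mul_smul, ← h1, inv_smul_smul, h2]

/-- The stabiliser of a dodecad has order 95040. -/
theorem card_stabilizer_dodecad {d : Finset GolayPt} (hd : d ∈ dodecads) :
    Nat.card (MulAction.stabilizer M24 d) = 95040 := by
  have horb : MulAction.orbit M24 d = dodecads := by
    ext d'
    constructor
    · rintro ⟨g, rfl⟩
      exact smul_mem_dodecads g.2 hd
    · intro hd'
      obtain ⟨g, hg, h⟩ := exists_smul_dodecad_eq hd hd'
      exact ⟨⟨g, hg⟩, h⟩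
  have h1 := Subgroup.card_mul_index (MulAction.stabilizer M24 d)
  rw [MulAction.index_stabilizer, horb, ncard_dodecads, card_M24] at h1
  omega

theorem card_stabM_d0 : Nat.card (stabM [d0]) = 95040 := by
  rw [← card_stabilizer_dodecad setOf_d0_mem_dodecads]
  symm
  apply card_sub_eq _ _ (stabM_le_M24 _)
  intro g
  rw [MulAction.mem_stabilizer_iff, mem_stabM]
  simp only [List.mem_singleton, forall_eq]
  constructor
  · intro h; exact ⟨g.2, h⟩
  · intro h; exact h.2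

def m12Chain : List (ℕ × ℕ × List (List ℕ)) :=
  [(0, 340831,
    [[0, 1, 2, 3, 4, 5, 6, 7, 8, 9, 10, 11, 12, 13, 14, 15, 16, 17, 18, 19, 20, 21, 22, 23],
     [1, 0, 2, 3, 9, 5, 12, 22, 16, 4, 11, 10, 6, 13, 14, 15, 8, 23, 18, 19, 21, 20, 7, 17],
     [2, 0, 9, 6, 4, 20, 8, 15, 3, 12, 7, 10, 16, 18, 21, 22, 1, 17, 13, 11, 23, 14, 19, 5],
     [3, 1, 4, 18, 9, 14, 8, 21, 6, 0, 11, 22, 12, 16, 7, 23, 2, 5, 13, 15, 19, 10, 17, 20],
     [4, 9, 2, 13, 12, 5, 1, 11, 8, 6, 20, 21, 0, 18, 15, 19, 16, 17, 3, 14, 22, 7, 10, 23],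
     [6, 12, 2, 18, 1, 5, 4, 20, 16, 0, 7, 22, 9, 3, 19, 14, 8, 23, 13, 15, 11, 10, 21, 17],
     [8, 12, 4, 13, 1, 14, 9, 19, 2, 3, 21, 17, 0, 18, 15, 7, 6, 20, 16, 23, 22, 11, 10, 5],
     [9, 0, 4, 16, 12, 14, 1, 22, 6, 8, 19, 10, 3, 13, 23, 15, 2, 5, 18, 7, 17, 21, 11, 20],
     [12, 4, 9, 18, 8, 20, 2, 7, 1, 16, 14, 23, 0, 13, 22, 11, 3, 5, 6, 21, 15, 19, 10, 17],
     [13, 8, 2, 18, 0, 11, 3, 10, 12, 16, 15, 23, 4, 1, 14, 5, 9, 20, 6, 21, 22, 19, 17, 7],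
     [16, 8, 9, 13, 2, 20, 12, 14, 3, 0, 19, 15, 4, 6, 11, 21, 1, 17, 18, 22, 7, 10, 23, 5],
     [18, 12, 1, 13, 0, 19, 16, 10, 4, 6, 22, 21, 9, 8, 20, 17, 2, 5, 3, 14, 15, 7, 23, 11]]),
   (1, 340830,
    [[0, 1, 2, 3, 4, 5, 6, 7, 8, 9, 10, 11, 12, 13, 14, 15, 16, 17, 18, 19, 20, 21, 22, 23],
     [0, 2, 9, 6, 12, 20, 16, 19, 1, 4, 10, 7, 8, 18, 21, 22, 3, 5, 13, 11, 14, 23, 15, 17],
     [0, 3, 4, 6, 8, 7, 2, 15, 9, 13, 11, 19, 12, 1, 23, 10, 18, 14, 16, 20, 21, 5, 17, 22],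
     [0, 4, 12, 3, 1, 21, 6, 7, 9, 8, 10, 11, 2, 18, 17, 22, 16, 14, 13, 19, 23, 5, 15, 20],
     [0, 6, 8, 9, 4, 20, 18, 22, 16, 1, 5, 21, 13, 12, 23, 17, 3, 7, 2, 14, 19, 10, 15, 11],
     [0, 8, 1, 16, 9, 17, 3, 11, 12, 2, 10, 19, 4, 18, 20, 22, 6, 23, 13, 7, 5, 14, 15, 21],
     [0, 9, 4, 16, 8, 14, 3, 11, 2, 12, 10, 19, 1, 13, 23, 15, 6, 20, 18, 7, 21, 17, 22, 5],
     [0, 12, 8, 6, 2, 23, 16, 19, 4, 1, 10, 7, 9, 13, 5, 15, 3, 21, 18, 11, 17, 20, 22, 14],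
     [0, 13, 1, 6, 12, 21, 3, 5, 16, 8, 15, 23, 2, 18, 17, 20, 9, 14, 4, 19, 11, 7, 10, 22],
     [0, 16, 1, 4, 12, 14, 13, 15, 3, 2, 20, 23, 18, 8, 17, 5, 6, 19, 9, 21, 11, 10, 22, 7],
     [0, 18, 8, 3, 4, 14, 16, 17, 6, 12, 22, 21, 1, 13, 23, 5, 2, 20, 9, 7, 19, 11, 10, 15]]),
   (2, 340828,
    [[0, 1, 2, 3, 4, 5, 6, 7, 8, 9, 10, 11, 12, 13, 14, 15, 16, 17, 18, 19, 20, 21, 22, 23],
     [0, 1, 3, 2, 13, 23, 16, 20, 12, 8, 21, 19, 18, 9, 17, 7, 4, 5, 6, 10, 11, 22, 15, 14],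
     [0, 1, 4, 3, 8, 19, 2, 17, 6, 12, 22, 7, 18, 9, 20, 5, 16, 23, 13, 21, 14, 15, 10, 11],
     [0, 1, 6, 3, 2, 15, 8, 11, 4, 13, 22, 23, 9, 18, 20, 21, 16, 7, 12, 5, 14, 19, 10, 17],
     [0, 1, 8, 3, 6, 21, 4, 23, 2, 18, 10, 17, 13, 12, 14, 19, 16, 11, 9, 15, 20, 5, 22, 7],
     [0, 1, 9, 16, 12, 17, 13, 21, 18, 6, 14, 19, 2, 8, 22, 7, 3, 15, 4, 23, 10, 11, 20, 5],
     [0, 1, 12, 16, 18, 23, 9, 15, 13, 2, 20, 21, 4, 6, 10, 17, 3, 5, 8, 11, 22, 7, 14, 19],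
     [0, 1, 13, 16, 9, 7, 18, 19, 12, 8, 20, 5, 6, 4, 10, 11, 3, 21, 2, 17, 22, 23, 14, 15],
     [0, 1, 16, 18, 2, 21, 3, 10, 8, 9, 17, 7, 6, 4, 19, 5, 13, 11, 12, 14, 15, 20, 23, 22],
     [0, 1, 18, 16, 13, 11, 12, 5, 9, 4, 14, 15, 8, 2, 22, 23, 3, 19, 6, 7, 10, 17, 20, 21]]),
   (3, 340824,
    [[0, 1, 2, 3, 4, 5, 6, 7, 8, 9, 10, 11, 12, 13, 14, 15, 16, 17, 18, 19, 20, 21, 22, 23],
     [0, 1, 2, 4, 3, 15, 13, 10, 18, 16, 7, 23, 12, 6, 21, 5, 9, 17, 8, 19, 20, 14, 22, 11],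
     [0, 1, 2, 6, 3, 21, 16, 11, 8, 18, 22, 17, 9, 12, 19, 14, 4, 23, 13, 20, 15, 5, 10, 7],
     [0, 1, 2, 8, 18, 21, 9, 23, 4, 13, 11, 7, 12, 16, 5, 14, 6, 22, 3, 20, 19, 15, 17, 10],
     [0, 1, 2, 9, 13, 15, 3, 17, 18, 6, 7, 11, 8, 16, 20, 19, 4, 10, 12, 5, 21, 14, 22, 23],
     [0, 1, 2, 12, 3, 19, 18, 7, 13, 8, 10, 23, 4, 9, 20, 5, 6, 17, 16, 15, 21, 14, 11, 22],
     [0, 1, 2, 13, 4, 14, 9, 23, 18, 8, 22, 17, 16, 12, 19, 21, 3, 11, 6, 20, 5, 15, 7, 10],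
     [0, 1, 2, 16, 18, 5, 13, 10, 3, 4, 17, 22, 6, 12, 20, 15, 8, 7, 9, 19, 21, 14, 23, 11],
     [0, 1, 2, 18, 8, 14, 16, 11, 3, 6, 23, 10, 12, 9, 15, 21, 13, 22, 4, 20, 19, 5, 17, 7]]),
   (4, 340816,
    [[0, 1, 2, 3, 4, 5, 6, 7, 8, 9, 10, 11, 12, 13, 14, 15, 16, 17, 18, 19, 20, 21, 22, 23],
     [0, 1, 2, 3, 6, 14, 12, 22, 13, 4, 11, 7, 9, 16, 5, 21, 18, 23, 8, 20, 15, 19, 10, 17],
     [0, 1, 2, 3, 8, 17, 18, 15, 12, 13, 19, 21, 16, 6, 23, 10, 4, 5, 9, 7, 11, 22, 20, 14],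
     [0, 1, 2, 3, 9, 14, 4, 11, 18, 12, 22, 10, 6, 8, 5, 20, 13, 23, 16, 21, 19, 15, 7, 17],
     [0, 1, 2, 3, 12, 5, 9, 10, 16, 6, 7, 22, 4, 18, 14, 19, 8, 17, 13, 15, 21, 20, 11, 23],
     [0, 1, 2, 3, 13, 23, 8, 21, 9, 16, 20, 19, 18, 12, 17, 11, 6, 14, 4, 22, 7, 10, 15, 5],
     [0, 1, 2, 3, 16, 17, 13, 19, 4, 18, 15, 20, 8, 9, 23, 7, 12, 5, 6, 10, 22, 11, 21, 14],
     [0, 1, 2, 3, 18, 23, 16, 20, 6, 8, 21, 15, 13, 4, 17, 22, 9, 14, 12, 11, 10, 7, 19, 5]])]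

def m11Chain : List (ℕ × ℕ × List (List ℕ)) :=
  [(5, 16436384,
    [[0, 1, 2, 3, 4, 5, 6, 7, 8, 9, 10, 11, 12, 13, 14, 15, 16, 17, 18, 19, 20, 21, 22, 23],
     [0, 1, 2, 18, 4, 7, 13, 19, 16, 3, 5, 21, 9, 8, 22, 17, 6, 15, 12, 10, 23, 11, 20, 14],
     [0, 1, 2, 13, 12, 10, 18, 15, 8, 3, 5, 20, 6, 16, 11, 17, 9, 19, 4, 7, 23, 22, 21, 14],
     [0, 1, 2, 16, 9, 11, 8, 21, 13, 3, 14, 15, 12, 18, 7, 23, 4, 20, 6, 22, 17, 10, 19, 5],
     [0, 1, 2, 3, 9, 14, 4, 11, 18, 12, 22, 10, 6, 8, 5, 20, 13, 23, 16, 21, 19, 15, 7, 17],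
     [0, 1, 2, 9, 8, 15, 6, 7, 4, 3, 17, 22, 13, 12, 20, 5, 18, 10, 16, 19, 14, 21, 11, 23],
     [0, 1, 2, 3, 16, 17, 13, 19, 4, 18, 15, 20, 8, 9, 23, 7, 12, 5, 6, 10, 22, 11, 21, 14],
     [0, 1, 2, 6, 16, 19, 9, 10, 12, 3, 17, 11, 18, 4, 21, 5, 13, 7, 8, 15, 14, 20, 22, 23],
     [0, 1, 2, 12, 18, 20, 4, 11, 9, 3, 23, 7, 8, 6, 19, 14, 16, 22, 13, 21, 5, 15, 10, 17],
     [0, 1, 2, 4, 13, 21, 12, 22, 6, 3, 23, 10, 16, 9, 15, 14, 8, 11, 18, 20, 5, 19, 7, 17],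
     [0, 1, 2, 8, 6, 22, 16, 20, 18, 3, 14, 19, 4, 13, 10, 23, 12, 21, 9, 11, 17, 7, 15, 5],
     [0, 1, 2, 3, 18, 23, 16, 20, 6, 8, 21, 15, 13, 4, 17, 22, 9, 14, 12, 11, 10, 7, 19, 5]]),
   (7, 16436352,
    [[0, 1, 2, 3, 4, 5, 6, 7, 8, 9, 10, 11, 12, 13, 14, 15, 16, 17, 18, 19, 20, 21, 22, 23],
     [0, 1, 2, 3, 12, 5, 9, 10, 16, 6, 7, 22, 4, 18, 14, 19, 8, 17, 13, 15, 21, 20, 11, 23],
     [0, 1, 6, 18, 13, 5, 16, 11, 9, 2, 7, 17, 4, 3, 20, 21, 8, 22, 12, 15, 19, 14, 10, 23],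
     [0, 9, 1, 13, 4, 5, 8, 14, 16, 2, 15, 7, 3, 12, 11, 20, 6, 21, 18, 19, 10, 22, 17, 23],
     [0, 4, 1, 12, 16, 5, 2, 15, 13, 3, 20, 7, 18, 9, 22, 19, 8, 14, 6, 21, 23, 17, 10, 11],
     [0, 1, 2, 8, 9, 5, 12, 17, 16, 18, 7, 23, 13, 6, 21, 15, 3, 10, 4, 19, 14, 20, 11, 22],
     [0, 12, 1, 4, 8, 5, 2, 19, 18, 3, 21, 10, 13, 6, 11, 15, 16, 14, 9, 20, 23, 17, 7, 22],
     [0, 4, 1, 12, 18, 5, 3, 20, 8, 2, 15, 10, 16, 6, 22, 21, 13, 14, 9, 19, 17, 23, 7, 11],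
     [0, 12, 1, 4, 13, 5, 3, 21, 16, 2, 19, 7, 8, 9, 11, 20, 18, 14, 6, 15, 17, 23, 10, 22],
     [0, 1, 9, 13, 18, 5, 8, 22, 6, 2, 10, 17, 12, 3, 21, 20, 16, 11, 4, 19, 15, 14, 7, 23],
     [0, 1, 12, 4, 6, 5, 3, 23, 18, 2, 17, 10, 9, 8, 14, 20, 16, 11, 13, 15, 19, 21, 7, 22]]),
   (10, 16436224,
    [[0, 1, 2, 3, 4, 5, 6, 7, 8, 9, 10, 11, 12, 13, 14, 15, 16, 17, 18, 19, 20, 21, 22, 23],
     [0, 1, 6, 18, 4, 5, 2, 7, 8, 16, 11, 10, 13, 12, 20, 15, 9, 22, 3, 21, 14, 19, 17, 23],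
     [0, 12, 18, 8, 9, 5, 3, 7, 2, 16, 14, 21, 4, 13, 15, 23, 1, 19, 6, 11, 17, 20, 10, 22],
     [0, 9, 6, 2, 4, 5, 18, 7, 3, 13, 15, 14, 16, 12, 20, 11, 1, 21, 8, 22, 10, 19, 23, 17],
     [0, 1, 2, 8, 13, 5, 18, 7, 3, 12, 17, 11, 9, 4, 21, 19, 16, 10, 6, 15, 20, 14, 23, 22],
     [0, 12, 18, 2, 13, 5, 6, 7, 8, 4, 19, 21, 16, 9, 20, 11, 1, 14, 3, 23, 17, 15, 22, 10],
     [0, 4, 8, 3, 16, 5, 6, 7, 18, 12, 20, 15, 13, 9, 19, 22, 1, 14, 2, 17, 23, 21, 11, 10],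
     [0, 9, 6, 3, 12, 5, 8, 7, 2, 16, 21, 14, 13, 4, 19, 22, 1, 15, 18, 11, 10, 20, 17, 23],
     [0, 1, 6, 8, 12, 5, 3, 7, 18, 13, 22, 10, 16, 4, 19, 21, 9, 11, 2, 15, 14, 20, 23, 17],
     [0, 1, 18, 3, 9, 5, 8, 7, 6, 4, 23, 17, 16, 13, 15, 14, 12, 11, 2, 19, 21, 20, 22, 10]])]

def m12Gens : List (List ℕ × ℕ) :=
  [([6, 12, 2, 18, 1, 5, 4, 20, 16, 0, 7, 22, 9, 3, 19, 14, 8, 23, 13, 15, 11, 10, 21, 17], 0x4248884248804208884208804248084248004208084208000248880248800208880208800248080248000208080208004240884240804200884200804240084240004200084200000240880240800200880200800240080240000200080200004048884048804008884008804048084048004008084008000048880048800008880008800048080048000008080008004040884040804000884000804040084040004000084000000040880040800000880000800040080040000000080000008c81028c81008881028881008c01028c01008801028801008481028481008081028081008401028401008001028001008c80028c80008880028880008c0002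8c00008800028800008480028480008080028080008400028400008000028000000c81020c81000881020881000c01020c01000801020801000481020481000081020081000401020401000001020001000c80020c80000880020880000c00020c0000080002080000048002048000008002008000040002040000000002000000311401311400311001311000301401301400301001301000310401310400310001310000300401300400300001300000111401111400111001111000101401101400101001101000110401110400110001110000100401100400100001100000211401211400211001211000201401201400201001201000210401210400210001210000200401200400200001200000011401011400011001011000001401001400001001001000010401010400010001010000000401000400000001000000002274002074002264002064002270002070002260002060000274000074000264000064000270000070000260000060002234002034002224002024002230002030002220002020000234000034000224000024000230000030000220000020002254002054002244002044002250002050002240002040000254000054000244000044000250000050000240000040002214002014002204002004002210002010002200002000000214000014000204000004000210000010000200000000),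
   ([0, 2, 9, 6, 12, 20, 16, 19, 1, 4, 10, 7, 8, 18, 21, 22, 3, 5, 13, 11, 14, 23, 15, 17], 0x20e0a020c0a020e02020c02020e08020c08020e00020c00020a0a02080a020a02020802020a08020808020a0002080002060a02040a02060202040202060802040802060002040002020a02000a020202020002020208020008020200020000000e0a000c0a000e02000c02000e08000c08000e00000c00000a0a00080a000a02000802000a08000808000a0000080000060a00040a00060200040200060800040800060000040000020a00000a0002020000020002080000080002000000000d40050d40040d00050d00040c40050c40040c00050c00040940050940040900050900040840050840040800050800040d40010d40000d00010d00000c40010c40000c00010c00000940010940000900010900000840010840000800010800000540050540040500050500040440050440040400050400040140050140040100050100040040050040040000050000040540010540000500010500000440010440000400010400000140010140000100010100000040010040000000010000000081c0c081c0408140c081404080c0c080c0408040c080404081c08081c0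0081408081400080c08080c0008040808040008180c08180408100c08100408080c08080408000c080004081808081800081008081000080808080800080008080000001c0c001c0400140c001404000c0c000c0400040c000404001c08001c00001408001400000c08000c0000040800040000180c00180400100c00100400080c00080400000c000004001808001800001008001000000808000800000008000000030303030302030203030202030301030300030201030200020303020302020203020202020301020300020201020200030103030102030003030002030101030100030001030000020103020102020003020002020101020100020001020000010303010302010203010202010301010300010201010200000303000302000203000202000301000300000201000200010103010102010003010002010101010100010001010000000103000102000003000002000101000100000001000000)]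

theorem m12Chain_ok : chainOK [d0] m12Chain = true := by decide +kernel

theorem m12Chain_cover : chainCover d0 m12Chain = true := by decide +kernel

theorem m12Chain_prod : chainProd m12Chain = 95040 := by decide +kernel

theorem m12_final_bot : stabM (chainInv [d0] m12Chain) = ⊥ := by
  apply Subgroup.card_eq_one.mp
  have h := card_stabM_chain m12Chain [d0] m12Chain_ok
  rw [card_stabM_d0, m12Chain_prod] at h
  omega

theorem stabM_d0_smul : ∀ g ∈ stabM [d0], g • setOf d0 = setOf d0 :=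
  fun _ hg => hg.2 d0 (by simp)

/-- The stabiliser of a dodecad is sharply 5-transitive on the dodecad. -/
theorem m12_sharp {d : Finset GolayPt} (hd : d ∈ dodecads) (x y : Fin 5 ↪ GolayPt)
    (hx : ∀ i, x i ∈ d) (hy : ∀ i, y i ∈ d) :
    ∃ g ∈ M24, g • d = d ∧ (∀ i, g (x i) = y i) ∧
      ∀ g' ∈ M24, g' • d = d → (∀ i, g' (x i) = y i) → g' = g := by
  obtain ⟨a, ha, had⟩ := exists_smul_d0_eq hd
  have hmem : ∀ p, p ∈ d → a⁻¹ p ∈ setOf d0 := by
    intro p hp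
    rw [← had, mem_smul_iff] at hp
    exact hp
  obtain ⟨g, hg, hmap, huniq⟩ := chain_sharp m12Chain [d0] d0 m12Chain_ok m12Chain_cover
    stabM_d0_smul m12_final_bot (fun i => a⁻¹ (x i)) (fun i => a⁻¹ (y i))
    (fun i j h => x.injective (a⁻¹.injective h)) (fun i j h => y.injective (a⁻¹.injective h))
    (fun i => hmem _ (hx i)) (fun i => hmem _ (hy i))
  refine ⟨a * g * a⁻¹, M24.mul_mem (M24.mul_mem ha hg.1) (M24.inv_mem ha), ?_, ?_, ?_⟩
  · rw [mul_smul, mul_smul, ← had, inv_smul_smul, stabM_d0_smul g hg]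
  · intro i
    show a (g (a⁻¹ (x i))) = y i
    rw [hmap i]
    simp
  · intro g' hg' hg'd hmap'
    have h1 : a⁻¹ * g' * a ∈ stabM [d0] := by
      refine ⟨M24.mul_mem (M24.mul_mem (M24.inv_mem ha) hg') ha, ?_⟩
      intro m hm
      rw [List.mem_singleton] at hm
      rw [hm, conj_smul_eq_iff, had, hg'd]
    have h2 := huniq _ h1 (by
      intro i
      show a⁻¹ (g' (a (a⁻¹ (x i)))) = a⁻¹ (y i)
      congr 1
      rw [← hmap' i]
      simp)
    rw [← h2]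
    group

/-- Flag transitivity: a dodecad with a point on it is the image of the dodecad of squares with the
residue 0. -/
theorem exists_M24_flag {d : Finset GolayPt} (hd : d ∈ dodecads) {p : GolayPt} (hp : p ∈ d) :
    ∃ a ∈ M24, a • setOf d0 = d ∧ a (pt 0) = p := by
  obtain ⟨a, ha, had⟩ := exists_smul_d0_eq hd
  have hq : a⁻¹ p ∈ setOf d0 := by
    rw [← had, mem_smul_iff] at hp
    exact hp
  obtain ⟨hb, _, hU, _, _⟩ := chainOK_cons (Inv := [d0]) (b := 0) m12Chain_ok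
  obtain ⟨l, _, g, hg, _, hgq⟩ := levOK_sound hb hU _ hq
  refine ⟨a * g, M24.mul_mem ha hg.1, ?_, ?_⟩
  · rw [mul_smul, stabM_d0_smul g hg, had]
  · show a (g (pt 0)) = p
    rw [hgq]
    simp

theorem card_stabM_d0_pt : Nat.card (stabM [2 ^ 0, d0]) = 7920 := by
  obtain ⟨hb, hE, hU, hc, _⟩ := chainOK_cons (Inv := [d0]) (b := 0) m12Chain_ok
  have h := card_stabM_step hb hE hU hc
  rw [card_stabM_d0] at h
  have h12 : pc 340831 = 12 := by decide +kernel
  rw [h12] at h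
  omega

/-- The stabiliser of a dodecad and a point on it has order 7920. -/
theorem card_stabilizer_dodecad_point {d : Finset GolayPt} (hd : d ∈ dodecads) {p : GolayPt}
    (hp : p ∈ d) :
    Nat.card ↥(MulAction.stabilizer M24 d ⊓ MulAction.stabilizer M24 p) = 7920 := by
  obtain ⟨a, ha, had, hap⟩ := exists_M24_flag hd hp
  rw [← card_stabM_d0_pt]
  apply card_sub_conj_eq _ _ (stabM_le_M24 _) a ha
  intro g
  rw [Subgroup.mem_inf, MulAction.mem_stabilizer_iff, MulAction.mem_stabilizer_iff,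
    mem_stabM_cons_pt (by norm_num), mem_stabM, conj_apply_eq_iff, hap]
  simp only [List.mem_singleton, forall_eq]
  rw [conj_smul_eq_iff, had]
  constructor
  · rintro ⟨h1, h2⟩
    exact ⟨⟨M24.mul_mem (M24.mul_mem (M24.inv_mem ha) g.2) ha, h1⟩, h2⟩
  · rintro ⟨⟨_, h1⟩, h2⟩
    exact ⟨h1, h2⟩

theorem m11Chain_ok : chainOK [2 ^ 0, d0] m11Chain = true := by decide +kernel

theorem m11Chain_cover : chainCover ((2 ^ 24 - 1) ^^^ d0) m11Chain = true := by decide +kernel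

/-- The stabiliser of a dodecad and a point on it is 3-transitive on the complement of the
dodecad. -/
theorem m11_three_transitive {d : Finset GolayPt} (hd : d ∈ dodecads) {p : GolayPt} (hp : p ∈ d)
    (x y : Fin 3 ↪ GolayPt) (hx : ∀ i, x i ∉ d) (hy : ∀ i, y i ∉ d) :
    ∃ g ∈ M24, g • d = d ∧ g p = p ∧ ∀ i, g (x i) = y i := by
  obtain ⟨a, ha, had, hap⟩ := exists_M24_flag hd hp
  have hmem : ∀ q, q ∉ d → a⁻¹ q ∈ setOf ((2 ^ 24 - 1) ^^^ d0) := by
    intro q hq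
    rw [mem_setOf_compl]
    intro h
    apply hq
    rw [← had, mem_smul_iff]
    exact h
  have hX : ∀ g ∈ stabM [2 ^ 0, d0], g • setOf ((2 ^ 24 - 1) ^^^ d0) = setOf ((2 ^ 24 - 1) ^^^ d0) := by
    intro g hg
    have h1 := hg.2 d0 (by simp)
    ext q
    rw [mem_smul_iff, mem_setOf_compl, mem_setOf_compl, ← mem_smul_iff, h1]
  obtain ⟨g, hg, hmap⟩ := chain_trans m11Chain [2 ^ 0, d0] ((2 ^ 24 - 1) ^^^ d0) m11Chain_ok
    m11Chain_cover hX (fun i => a⁻¹ (x i)) (fun i => a⁻¹ (y i))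
    (fun i j h => x.injective (a⁻¹.injective h)) (fun i j h => y.injective (a⁻¹.injective h))
    (fun i => hmem _ (hx i)) (fun i => hmem _ (hy i))
  have hg' := (mem_stabM_cons_pt (by norm_num)).mp hg
  refine ⟨a * g * a⁻¹, M24.mul_mem (M24.mul_mem ha hg.1) (M24.inv_mem ha), ?_, ?_, ?_⟩
  · rw [mul_smul, mul_smul, ← had, inv_smul_smul, stabM_d0_smul g hg'.1]
  · show a (g (a⁻¹ p)) = p
    rw [← hap]
    simp [hg'.2]
  · intro i
    show a (g (a⁻¹ (x i))) = y i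
    rw [hmap i]
    simp

end Cfsg.Agent.Lib.helper28
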