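import Cfsg.Agent.Lib.helper28.GolayTriad

set_option autoImplicit false

namespace Cfsg.Agent.Lib.helper28

open Cfsg
open scoped Pointwise

/-! Orbits of the stabiliser of two points and a pair of points on the pairs of points. -/

def oct5 : List ℕ := [5279, 622863, 3416079, 4196943, 8536111]


theorem oct5_ok : (oct5.all fun o => isOct o) = true := by decide +kernel

theorem oct5_complete : allLt (fun n => !(Nat.beq (pcF (cwF n)) 8 &&
    Nat.beq (Nat.land 15 (cwF n)) 15) || oct5.contains (cwF n)) 4096 = true := by decide +kernel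

/-- Test on the mask of a pair of points: it avoids the points `0, 1`, meets `{2, 3}` in `c`
points, and lies in an octad with the points `0, 1, 2, 3` (`b = true`) or not (`b = false`). -/
def duQ (c : ℕ) (b : Bool) (m : ℕ) : Bool :=
  (3 &&& m == 0) && (pc (12 &&& m) == c) &&
    ((oct5.any fun o => (15 ||| m) &&& o == (15 ||| m)) == b)

def duGens : List (List ℕ × ℕ) :=
  [([0, 1, 3, 2, 21, 7, 23, 13, 15, 14, 20, 5, 18, 9, 12, 16, 19, 4, 11, 8, 22, 6, 17, 10], 0x11145011045010145010045011105011005010105010005011144011044010144010044011104011004010104010004001145001045000145000045001105001005000105000005001144001044000144000044001104001004000104000004011141011041010141010041011101011001010101010001011140011040010140010040011100011000010100010000001141001041000141000041001101001001000101000001001140001040000140000040001100001000000100000000040c38040838040c30040830040c18040818040c10040810040c28040828040c20040820040c08040808040c00040800040438040038040430040030040418040018040410040010040428040028040420040020040408040008040400040000000c380008380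00c30000830000c18000818000c10000810000c28000828000c20000820000c08000808000c000008000004380000380004300000300004180000180004100000100004280000280004200000200004080000080004000000000ac20208c2020ac20008c2000a42020842020a42000842000ac00208c0020ac00008c0000a40020840020a400008400002c20200c20202c20000c20002420200420202420000420002c00200c00202c00000c0000240020040020240000040000a82020882020a82000882000a02020802020a02000802000a80020880020a80000880000a00020800020a0000080000028202008202028200008200020202000202020200000200028002008002028000008000020002000002020000000000002080f02080e02080d02080c02080702080602080502080402080b02080a02080902080802080302080202080102080000080f00080e00080d00080c00080700080600080500080400080b00080a00080900080800080300080200080100080002000f02000e02000d02000c02000702000602000502000402000b02000a02000902000802000302000202000102000000000f00000e00000d00000c00000700000600000500000400000b00000a000009000008000003000002000001000000),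
   ([0, 1, 2, 3, 7, 19, 22, 10, 18, 6, 4, 11, 12, 17, 15, 20, 13, 16, 23, 21, 14, 5, 9, 8], 0xc81600c80600c81400c80400c01600c00600c01400c00400481600480600481400480400401600400600401400400400c81200c80200c81000c80000c01200c00200c01000c0000048120048020048100048000040120040020040100040000088160088060088140088040080160080060080140080040008160008060008140008040000160000060000140000040088120088020088100088000080120080020080100080000008120008020008100008000000120000020000100000000137000136000127000126000037000036000027000026000133000132000123000122000033000032000023000022000117000116000107000106000017000016000007000006000113000112000103000102000013000012000003000002000135000134000125000124000035000034000025000024000131000130000121000120000031000030000021000020000115000114000105000104000015000014000005000004000111000110000101000100000011000010000001000000000c00a90c00890c00a80c00880400a90400890400a80400880800a90800890800a80800880000a90000890000a80000880c00a10c00810c00a00c00800400a10400810400a00400800800a10800810800a00800800000a10000810000a00000800c0029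0c00090c00280c00080400290400090400280400080800290800090800280800080000290000090000280000080c00210c00010c00200c0000040021040001040020040000080021080001080020080000000021000001000020000000020040f20040e20040d20040c20040b20040a20040920040820040720040620040520040420040320040220040120040020000f20000e20000d20000c20000b20000a20000920000820000720000620000520000420000320000220000120000000040f00040e00040d00040c00040b00040a00040900040800040700040600040500040400040300040200040100040000000f00000e00000d00000c00000b00000a000009000008000007000006000005000004000003000002000001000000)]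

theorem duGens_ok : gensOKF [12, 2, 1] duGens = true := by decide +kernel

theorem du_count_c0t : subCount (duQ 0 true) 24 2 0 = 30 := by decide +kernel

theorem du_orbit_c0t : forceNat (orbitN duGens (fun m => m) 40 144)
    (fun B => subAll (fun m => !(duQ 0 true m) || B.testBit m) 24 2 0) = true := by decide +kernel

theorem du_count_c0f : subCount (duQ 0 false) 24 2 0 = 160 := by decide +kernel

theorem du_orbit_c0f : forceNat (orbitN duGens (fun m => m) 170 48)
    (fun B => subAll (fun m => !(duQ 0 false m) || B.testBit m) 24 2 0) = true := by decide +kernel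

theorem du_count_c1t : subCount (duQ 1 true) 24 2 0 = 40 := by decide +kernel

theorem du_orbit_c1t : forceNat (orbitN duGens (fun m => m) 50 20)
    (fun B => subAll (fun m => !(duQ 1 true m) || B.testBit m) 24 2 0) = true := by decide +kernel

theorem du_empty : subAll (fun m => !(duQ 1 false m)) 24 2 0 = true := by decide +kernel

theorem du_key {a : Equiv.Perm GolayPt} (ha : a ∈ M24) {p q : GolayPt} {s : Finset GolayPt}
    (hp : a (pt 0) = p) (hq : a (pt 1) = q) (hs : a • setOf 12 = s) (c : ℕ) (b : Bool)
    (t : Finset GolayPt) :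
    ((p ∉ a • t ∧ q ∉ a • t) ∧ (s ∩ a • t).card = c ∧
      ((∃ o ∈ octads, p ∈ o ∧ q ∈ o ∧ s ∪ a • t ⊆ o) ↔ b = true)) ↔
      duQ c b (maskS t) = true := by
  have h1 : (p ∉ a • t ∧ q ∉ a • t) ↔ (3 &&& maskS t) = 0 := by
    rw [← hp, ← hq]
    have e0 : a (pt 0) ∈ a • t ↔ pt 0 ∈ t := Finset.smul_mem_smul_finset_iff a
    have e1 : a (pt 1) ∈ a • t ↔ pt 1 ∈ t := Finset.smul_mem_smul_finset_iff a
    rw [e0, e1, ← maskS_setOf (show (3 : ℕ) < 2 ^ 24 by norm_num), ← disjoint_iff_mask]
    have h3 : setOf 3 = {pt 0, pt 1} := by decide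
    rw [h3, Finset.disjoint_insert_left, Finset.disjoint_singleton_left]
  have h2 : (s ∩ a • t).card = pc (12 &&& maskS t) := by
    rw [← hs, card_smul_inter, card_eq_pc, maskS_inter, maskS_setOf (by norm_num)]
  have h15 : a • setOf 15 = {p} ∪ {q} ∪ s := by
    have e : (15 : ℕ) = 1 ||| 2 ||| 12 := by decide
    rw [e, setOf_or, setOf_or, Finset.smul_finset_union, Finset.smul_finset_union, hs,
      smul_setOf_pt' a (b := 0) (by norm_num) (by norm_num),
      smul_setOf_pt' a (b := 1) (by norm_num) (by norm_num), hp, hq]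
  have h3 : (∃ o ∈ octads, p ∈ o ∧ q ∈ o ∧ s ∪ a • t ⊆ o) ↔
      (∃ o ∈ octads, setOf 15 ∪ t ⊆ o) := by
    have e : ∀ o : Finset GolayPt, (p ∈ o ∧ q ∈ o ∧ s ∪ a • t ⊆ o) ↔ a • (setOf 15 ∪ t) ⊆ o := by
      intro o
      rw [Finset.smul_finset_union, h15, Finset.union_subset_iff, Finset.union_subset_iff,
        Finset.union_subset_iff, Finset.union_subset_iff, Finset.singleton_subset_iff,
        Finset.singleton_subset_iff]
      tauto
    constructor
    · rintro ⟨o, ho, hsub⟩
      exact ⟨a⁻¹ • o, smul_mem_octads (M24.inv_mem ha) ho,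
        (Finset.smul_finset_subset_iff).mp ((e o).mp hsub)⟩
    · rintro ⟨o, ho, hsub⟩
      exact ⟨a • o, smul_mem_octads ha ho,
        (e _).mpr (Finset.smul_finset_subset_smul_finset hsub)⟩
  have h4 := exists_octad_superset_iff oct5 15 oct5_ok oct5_complete (15 ||| maskS t)
    (and_or_absorb 15 _) (setOf 15 ∪ t) (by rw [maskS_union, maskS_setOf (by norm_num)])
  rw [h1, h2, h3, h4]
  unfold duQ
  rw [Bool.and_eq_true, Bool.and_eq_true, beq_iff_eq, beq_iff_eq, beq_iff_eq]
  cases b <;> simp [and_assoc]

/-- S1638. -/
theorem m22_duads_rank_four (p q : GolayPt) (hpq : p ≠ q) (s : Finset GolayPt)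
    (hs : (s.card = 2 ∧ p ∉ s ∧ q ∉ s)) :
    {t : Finset GolayPt | (t.card = 2 ∧ p ∉ t ∧ q ∉ t) ∧ Disjoint s t ∧
      (∃ o ∈ octads, p ∈ o ∧ q ∈ o ∧ s ∪ t ⊆ o)}.ncard = 30 ∧
    {t : Finset GolayPt | (t.card = 2 ∧ p ∉ t ∧ q ∉ t) ∧ Disjoint s t ∧
      ¬ (∃ o ∈ octads, p ∈ o ∧ q ∈ o ∧ s ∪ t ⊆ o)}.ncard = 160 ∧
    ∀ t t' : Finset GolayPt, (t.card = 2 ∧ p ∉ t ∧ q ∉ t) → (t'.card = 2 ∧ p ∉ t' ∧ q ∉ t') →
      t ≠ s → t' ≠ s → (s ∩ t).card = (s ∩ t').card →
      ((∃ o ∈ octads, p ∈ o ∧ q ∈ o ∧ s ∪ t ⊆ o) ↔ (∃ o ∈ octads, p ∈ o ∧ q ∈ o ∧ s ∪ t' ⊆ o)) →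
      ∃ g : Equiv.Perm GolayPt, g ∈ M24 ∧ g p = p ∧ g q = q ∧ g • s = s ∧ g • t = t' := by
  obtain ⟨hs2, hps, hqs⟩ := hs
  obtain ⟨c, d, hcd, rfl⟩ := Finset.card_eq_two.mp hs2
  have hpc : p ≠ c := fun h => hps (by rw [h]; simp)
  have hpd : p ≠ d := fun h => hps (by rw [h]; simp)
  have hqc : q ≠ c := fun h => hqs (by rw [h]; simp)
  have hqd : q ≠ d := fun h => hqs (by rw [h]; simp)
  obtain ⟨a, ha, hmap⟩ := exists_mem_M24_map_list [pt 0, pt 1, pt 2, pt 3] [p, q, c, d] (by decide)
    (by simp [hpq, hpc, hpd, hqc, hqd, hcd]) rfl (by norm_num)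
  simp only [List.map_cons, List.map_nil, List.cons.injEq, and_true] at hmap
  obtain ⟨hap, haq, hac, had⟩ := hmap
  have has : a • setOf 12 = {c, d} := by
    have h12 : (12 : ℕ) = orList ([2, 3].map fun b => 2 ^ b) := by decide
    rw [h12, smul_setOf_orList a [2, 3] (by decide)]
    simp only [List.map_cons, List.map_nil, List.toFinset_cons, List.toFinset_nil,
      insert_empty_eq]
    rw [hac, had]
  have hdisj : ∀ t : Finset GolayPt, Disjoint ({c, d} : Finset GolayPt) t ↔
      (({c, d} : Finset GolayPt) ∩ t).card = 0 := by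
    intro t
    rw [Finset.card_eq_zero, Finset.disjoint_iff_inter_eq_empty]
  refine ⟨?_, ?_, ?_⟩
  · rw [← du_count_c0t]
    have : {t : Finset GolayPt | (t.card = 2 ∧ p ∉ t ∧ q ∉ t) ∧ Disjoint ({c, d} : Finset GolayPt) t ∧
        (∃ o ∈ octads, p ∈ o ∧ q ∈ o ∧ {c, d} ∪ t ⊆ o)} =
        {t : Finset GolayPt | t.card = 2 ∧ ((p ∉ t ∧ q ∉ t) ∧ (({c, d} : Finset GolayPt) ∩ t).card = 0 ∧
        ((∃ o ∈ octads, p ∈ o ∧ q ∈ o ∧ {c, d} ∪ t ⊆ o) ↔ true = true))} := by
      ext t
      simp only [Set.mem_ofPred_eq, hdisj]
      tauto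
    rw [this]
    apply ncard_sub a 2
    intro t _
    exact du_key ha hap haq has 0 true t
  · rw [← du_count_c0f]
    have : {t : Finset GolayPt | (t.card = 2 ∧ p ∉ t ∧ q ∉ t) ∧ Disjoint ({c, d} : Finset GolayPt) t ∧
        ¬ (∃ o ∈ octads, p ∈ o ∧ q ∈ o ∧ {c, d} ∪ t ⊆ o)} =
        {t : Finset GolayPt | t.card = 2 ∧ ((p ∉ t ∧ q ∉ t) ∧ (({c, d} : Finset GolayPt) ∩ t).card = 0 ∧
        ((∃ o ∈ octads, p ∈ o ∧ q ∈ o ∧ {c, d} ∪ t ⊆ o) ↔ false = true))} := by
      ext t
      simp only [Set.mem_ofPred_eq, hdisj]
      simp only [Bool.false_eq_true, iff_false]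
      tauto
    rw [this]
    apply ncard_sub a 2
    intro t _
    exact du_key ha hap haq has 0 false t
  · intro t t' ht ht' hts hts' hcard hiff
    have ht0 : a • (a⁻¹ • t) = t := smul_inv_smul a t
    have ht0' : a • (a⁻¹ • t') = t' := smul_inv_smul a t'
    have fin : ∀ g ∈ M24, (∀ m ∈ [12, 2, 1], g • (a • setOf m) = a • setOf m) → g • t = t' →
        ∃ g : Equiv.Perm GolayPt, g ∈ M24 ∧ g p = p ∧ g q = q ∧
          g • ({c, d} : Finset GolayPt) = {c, d} ∧ g • t = t' := by
      intro g hg hinv hgt
      refine ⟨g, hg, ?_, ?_, ?_, hgt⟩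
      · have := hinv 1 (by simp)
        rw [smul_setOf_pt' a (b := 0) (by norm_num) (by norm_num), hap] at this
        exact apply_eq_of_smul_singleton this
      · have := hinv 2 (by simp)
        rw [smul_setOf_pt' a (b := 1) (by norm_num) (by norm_num), haq] at this
        exact apply_eq_of_smul_singleton this
      · have := hinv 12 (by simp)
        rwa [has] at this
    have hle : (({c, d} : Finset GolayPt) ∩ t).card ≤ 2 := by
      have := Finset.card_le_card (Finset.inter_subset_right (s₁ := ({c, d} : Finset GolayPt)) (s₂ := t))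
      omega
    have hne2 : (({c, d} : Finset GolayPt) ∩ t).card ≠ 2 := by
      intro h
      apply hts
      have h1 : ({c, d} : Finset GolayPt) ∩ t = t :=
        Finset.eq_of_subset_of_card_le Finset.inter_subset_right (by rw [h, ht.1])
      have h2 : ({c, d} : Finset GolayPt) ∩ t = {c, d} :=
        Finset.eq_of_subset_of_card_le Finset.inter_subset_left (by rw [h, hs2])
      rw [← h1, h2]
    have key1 : ∀ b : Bool, ((∃ o ∈ octads, p ∈ o ∧ q ∈ o ∧ {c, d} ∪ t ⊆ o) ↔ b = true) →
        duQ (({c, d} : Finset GolayPt) ∩ t).card b (maskS (a⁻¹ • t)) = true ∧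
        duQ (({c, d} : Finset GolayPt) ∩ t).card b (maskS (a⁻¹ • t')) = true := by
      intro b hb
      constructor
      · rw [← du_key ha hap haq has, ht0]
        exact ⟨ht.2, rfl, hb⟩
      · rw [← du_key ha hap haq has, ht0']
        exact ⟨ht'.2, hcard.symm, hiff.symm.trans hb⟩
    by_cases hin : ∃ o ∈ octads, p ∈ o ∧ q ∈ o ∧ {c, d} ∪ t ⊆ o
    · obtain ⟨h1, h2⟩ := key1 true (by simpa using hin)
      have hc : (({c, d} : Finset GolayPt) ∩ t).card = 0 ∨ (({c, d} : Finset GolayPt) ∩ t).card = 1 := by
        omega
      rcases hc with hc | hc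
      · rw [hc] at h1 h2
        obtain ⟨g, hg, hinv, hgt⟩ := orbit_sub duGens_ok 2 (duQ 0 true) _ _ (by norm_num)
          du_orbit_c0t ha ht.1 ht'.1 h1 h2
        exact fin g hg hinv hgt
      · rw [hc] at h1 h2
        obtain ⟨g, hg, hinv, hgt⟩ := orbit_sub duGens_ok 2 (duQ 1 true) _ _ (by norm_num)
          du_orbit_c1t ha ht.1 ht'.1 h1 h2
        exact fin g hg hinv hgt
    · obtain ⟨h1, h2⟩ := key1 false (by simpa using hin)
      have hc : (({c, d} : Finset GolayPt) ∩ t).card = 0 ∨ (({c, d} : Finset GolayPt) ∩ t).card = 1 := by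
        omega
      rcases hc with hc | hc
      · rw [hc] at h1 h2
        obtain ⟨g, hg, hinv, hgt⟩ := orbit_sub duGens_ok 2 (duQ 0 false) _ _ (by norm_num)
          du_orbit_c0f ha ht.1 ht'.1 h1 h2
        exact fin g hg hinv hgt
      · exfalso
        rw [hc] at h1
        have h3 := forall_card_of_subAll _ 2 du_empty (a⁻¹ • t)
          (by rw [card_smul_finset]; exact ht.1)
        rw [h1] at h3
        exact absurd h3 (by decide)

end Cfsg.Agent.Lib.helper28
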