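import Cfsg.Agent.Lib.helper28.GolayDuad
import Cfsg.Agent.Lib.helper28.MaxCrit

set_option autoImplicit false

namespace Cfsg.Agent.Lib.helper28

open Cfsg
open scoped Pointwise

/-! Maximality of the stabilisers of a pair of points, of three points, of an octad. -/

/-- Test: the set with mask `m` meets the set with mask `X` in `c` points. -/
def capQ (X c m : ℕ) : Bool := pc (X &&& m) == c

theorem capQ_iff (a : Equiv.Perm GolayPt) {X : ℕ} (hX : X < 2 ^ 24) (c : ℕ)
    (x : Finset GolayPt) : (a • setOf X ∩ a • x).card = c ↔ capQ X c (maskS x) = true := by
  rw [card_smul_inter, card_eq_pc, maskS_inter, maskS_setOf hX]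
  unfold capQ
  rw [beq_iff_eq]

def prGens : List (List ℕ × ℕ) :=
  [([0, 1, 10, 20, 12, 3, 8, 11, 17, 7, 21, 18, 6, 23, 14, 13, 5, 22, 2, 4, 15, 9, 19, 16], 0x422c08422408022c08022408422c00422400022c00022400422808422008022808022008422800422000022800022000402c08402408002c08002408402c00402400002c00002400402808402008002808002008402800402000002800002000420c08420408020c08020408420c00420400020c00020400420808420008020808020008420800420000020800020000400c08400408000c08000408400c00400400000c0000040040080840000800080800000840080040000000080000000090c11090c10090411090410090811090810090011090010080c11080c10080411080410080811080810080011080010010c11010c10010411010410010811010810010011010010000c11000c10000411000410000811000810000011000010090c01090c00090401090400090801090800090001090000080c01080c00080401080400080801080800080001080000010c01010c00010401010400010801010800010001010000000c01000c0000040100040000080100080000000100000002012c42002c42010c42000c42012842002842010842000840012c40002c40010c40000c40012840002840010840000842012c02002c02010c02000c02012802002802010802000800012c00002c00010c00000c00012800002800010800000802012442002442010442000442012042002042010042000040012440002440010440000440012040002040010040000042012402002402010402000402012002002002010002000000012400002400010400000400012000002000010000000000d00230d00220d00210d00200900230900220900210900200d00030d00020d00010d00000900030900020900010900000500230500220500210500200100230100220100210100200500030500020500010500000100030100020100010100000c00230c00220c00210c00200800230800220800210800200c00030c00020c00010c0000080003080002080001080000040023040022040021040020000023000022000021000020040003040002040001040000000003000002000001000000),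
   ([1, 0, 12, 11, 4, 21, 15, 5, 16, 19, 14, 7, 22, 23, 20, 3, 17, 10, 8, 13, 18, 2, 9, 6], 0x107220007220107020007020103220003220103020003020107200007200107000007000103200003200103000003000106220006220106020006020102220002220102020002020106200006200106000006000102200002200102000002000105220005220105020005020101220001220101020001020105200005200105000005000101200001200101000001000104220004220104020004020100220000220100020000020104200004200104000004000100200000200100000000000090544090540010544010540090144090140010144010140090504090500010504010500090104090100010104010100090444090440010444010440090044090040010044010040090404090400010404010400090004090000010004010000080544080540000544000540080144080140000144000140080504080500000504000500080104080100000104000100080444080440000444000440080044080040000044000040080404080400000404000400080004080000000004000000c60808460808c60008460008c20808420808c20008420008860808060808860008060008820808020808820008020008c40808440808c40008440008c00808400808c00008400008840808040808840008040008800808000808800008000008c60800460800c60000460000c20800420800c20000420000860800060800860000060000820800020800820000020000c40800440800c40000440000c00800400800c00000400000840800040800840000040000800800000800800000000000208093208091208092208090008093008091008092008090200093200091200092200090000093000091000092000090208083208081208082208080008083008081008082008080200083200081200082200080000083000081000082000080208013208011208012208010008013008011008012008010200013200011200012200010000013000011000012000010208003208001208002208000008003008001008002008000200003200001200002200000000003000001000002000000)]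

theorem prGens_ok : gensOKF [3] prGens = true := by decide +kernel

theorem pr_count_c0 : subCount (capQ 3 0) 24 2 0 = 231 := by decide +kernel

theorem pr_orbit_c0 : forceNat (orbitN prGens (fun m => m) 241 12)
    (fun B => subAll (fun m => !(capQ 3 0 m) || B.testBit m) 24 2 0) = true := by decide +kernel

theorem pr_count_c1 : subCount (capQ 3 1) 24 2 0 = 44 := by decide +kernel

theorem pr_orbit_c1 : forceNat (orbitN prGens (fun m => m) 54 5)
    (fun B => subAll (fun m => !(capQ 3 1 m) || B.testBit m) 24 2 0) = true := by decide +kernel

theorem pr_count_c2 : subCount (capQ 3 2) 24 2 0 = 1 := by decide +kernel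

theorem pr_orbit_c2 : forceNat (orbitN prGens (fun m => m) 11 3)
    (fun B => subAll (fun m => !(capQ 3 2 m) || B.testBit m) 24 2 0) = true := by decide +kernel

theorem tri_count_c1 : subCount (capQ 7 1) 24 3 0 = 630 := by decide +kernel

theorem tri_orbit_c1 : forceNat (orbitN triGens (fun m => m) 640 25)
    (fun B => subAll (fun m => !(capQ 7 1 m) || B.testBit m) 24 3 0) = true := by decide +kernel

theorem tri_count_c2 : subCount (capQ 7 2) 24 3 0 = 63 := by decide +kernel

theorem tri_orbit_c2 : forceNat (orbitN triGens (fun m => m) 73 11)
    (fun B => subAll (fun m => !(capQ 7 2 m) || B.testBit m) 24 3 0) = true := by decide +kernel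

theorem tri_count_c3 : subCount (capQ 7 3) 24 3 0 = 1 := by decide +kernel

theorem tri_orbit_c3 : forceNat (orbitN triGens (fun m => m) 11 7)
    (fun B => subAll (fun m => !(capQ 7 3 m) || B.testBit m) 24 3 0) = true := by decide +kernel

theorem oct_count_k0 : countLt (fun n => profF [(16777215, 8), (o0, 0)] (cwF n)) 4096 = 30 := by decide +kernel

theorem oct_count_k2 : countLt (fun n => profF [(16777215, 8), (o0, 2)] (cwF n)) 4096 = 448 := by decide +kernel

theorem oct_count_k4 : countLt (fun n => profF [(16777215, 8), (o0, 4)] (cwF n)) 4096 = 280 := by decide +kernel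

theorem oct_count_k8 : countLt (fun n => profF [(16777215, 8), (o0, 8)] (cwF n)) 4096 = 1 := by decide +kernel


theorem exists_smul_setOf3 {s : Finset GolayPt} (hs : s.card = 2) :
    ∃ a ∈ M24, a • setOf 3 = s := by
  obtain ⟨x, y, hxy, rfl⟩ := Finset.card_eq_two.mp hs
  obtain ⟨a, ha, hmap⟩ := exists_mem_M24_map_list [pt 0, pt 1] [x, y] (by decide)
    (by simp [hxy]) rfl (by norm_num)
  simp only [List.map_cons, List.map_nil, List.cons.injEq, and_true] at hmap
  refine ⟨a, ha, ?_⟩
  have h3 : (3 : ℕ) = orList ([0, 1].map fun b => 2 ^ b) := by decide
  rw [h3, smul_setOf_orList a [0, 1] (by decide)]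
  simp only [List.map_cons, List.map_nil, List.toFinset_cons, List.toFinset_nil,
    insert_empty_eq]
  rw [hmap.1, hmap.2]

theorem smul_def_M24 (g : M24) (x : Finset GolayPt) : g • x = (g : Equiv.Perm GolayPt) • x := rfl

/-- S1563. -/
theorem duad_stabilizer_maximal (s : Finset GolayPt) (hs : s.card = 2) :
    IsCoatom (MulAction.stabilizer M24 s) := by
  obtain ⟨a, ha, rfl⟩ := exists_smul_setOf3 hs
  have horb : ∀ x : Finset GolayPt, x ∈ MulAction.orbit M24 (a • setOf 3) ↔ x.card = 2 := by
    intro x
    constructor
    · rintro ⟨g, rfl⟩
      show (g • (a • setOf 3)).card = 2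
      rw [smul_def_M24, card_smul_finset]
      exact hs
    · intro hx
      obtain ⟨b, hb, rfl⟩ := exists_smul_setOf3 hx
      refine ⟨⟨b * a⁻¹, M24.mul_mem hb (M24.inv_mem ha)⟩, ?_⟩
      show (b * a⁻¹) • (a • setOf 3) = b • setOf 3
      rw [mul_smul, inv_smul_smul]
  have hle : ∀ x : Finset GolayPt, ((a • setOf 3) ∩ x).card ≤ 2 := by
    intro x
    have := Finset.card_le_card (Finset.inter_subset_left (s₁ := a • setOf 3) (s₂ := x))
    omega
  have hcolval : ∀ (x : Finset GolayPt) (j : Fin 3),
      ((⟨min ((a • setOf 3) ∩ x).card 2, by omega⟩ : Fin 3) = j ↔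
        ((a • setOf 3) ∩ x).card = j.val) := by
    intro x j
    rw [Fin.ext_iff]
    simp only
    rw [min_eq_left (hle x)]
  have hx0 : ((a • setOf 3) ∩ (a • setOf 3)).card = 2 := by
    rw [Finset.inter_self]; exact hs
  apply isCoatom_stabilizer_of_suborbits' (G := M24) (a • setOf 3)
    (fun x => (⟨min ((a • setOf 3) ∩ x).card 2, by omega⟩ : Fin 3)) ![231, 44, 1]
  · refine ⟨0, ?_, by decide⟩
    intro h
    have := ((hcolval (a • setOf 3) 0).mp h.symm)
    rw [hx0] at this
    exact absurd this (by decide)
  · intro x hx hcol
    have h1 := (hcolval x _).mp hcol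
    simp only at h1
    rw [min_eq_left (hle _), hx0] at h1
    have h2 : (a • setOf 3) ∩ x = a • setOf 3 :=
      Finset.eq_of_subset_of_card_le Finset.inter_subset_left (by rw [h1, hs])
    have h3 : (a • setOf 3) ∩ x = x :=
      Finset.eq_of_subset_of_card_le Finset.inter_subset_right (by rw [h1, (horb x).mp hx])
    rw [← h3, h2]
  · intro x hx y hy hcol
    have hxc := (horb x).mp hx
    have hyc := (horb y).mp hy
    have h1 := (hcolval x _).mp hcol
    simp only at h1
    rw [min_eq_left (hle _)] at h1
    have hx0' : a • (a⁻¹ • x) = x := smul_inv_smul a x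
    have hy0' : a • (a⁻¹ • y) = y := smul_inv_smul a y
    have hQx : capQ 3 ((a • setOf 3) ∩ y).card (maskS (a⁻¹ • x)) = true := by
      rw [← capQ_iff a (by norm_num), hx0']; exact h1
    have hQy : capQ 3 ((a • setOf 3) ∩ y).card (maskS (a⁻¹ • y)) = true := by
      rw [← capQ_iff a (by norm_num), hy0']
    have fin : ∀ g ∈ M24, (∀ m ∈ [3], g • (a • setOf m) = a • setOf m) → g • x = y →
        ∃ h : M24, h • (a • setOf 3) = a • setOf 3 ∧ h • x = y :=
      fun g hg hinv hgx => ⟨⟨g, hg⟩, hinv 3 (by simp), hgx⟩
    have hc : ((a • setOf 3) ∩ y).card = 0 ∨ ((a • setOf 3) ∩ y).card = 1 ∨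
        ((a • setOf 3) ∩ y).card = 2 := by
      have := hle y
      omega
    rcases hc with hc | hc | hc
    · rw [hc] at hQx hQy
      obtain ⟨g, hg, hinv, hgx⟩ := orbit_sub prGens_ok 2 (capQ 3 0) _ _ (by norm_num)
        pr_orbit_c0 ha hxc hyc hQx hQy
      exact fin g hg hinv hgx
    · rw [hc] at hQx hQy
      obtain ⟨g, hg, hinv, hgx⟩ := orbit_sub prGens_ok 2 (capQ 3 1) _ _ (by norm_num)
        pr_orbit_c1 ha hxc hyc hQx hQy
      exact fin g hg hinv hgx
    · rw [hc] at hQx hQy
      obtain ⟨g, hg, hinv, hgx⟩ := orbit_sub prGens_ok 2 (capQ 3 2) _ _ (by norm_num)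
        pr_orbit_c2 ha hxc hyc hQx hQy
      exact fin g hg hinv hgx
  · intro j
    have hset : {x : Finset GolayPt | x ∈ MulAction.orbit M24 (a • setOf 3) ∧
        (⟨min ((a • setOf 3) ∩ x).card 2, by omega⟩ : Fin 3) = j} =
        {x : Finset GolayPt | x.card = 2 ∧ ((a • setOf 3) ∩ x).card = j.val} := by
      ext x
      simp only [Set.mem_ofPred_eq]
      rw [horb, hcolval]
    rw [hset, ncard_sub a 2 (fun x => ((a • setOf 3) ∩ x).card = j.val) (capQ 3 j.val)
      (fun x _ => capQ_iff a (by norm_num) j.val x)]
    fin_cases j
    · exact pr_count_c0
    · exact pr_count_c1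
    · exact pr_count_c2
  · have hcol0 : (⟨min ((a • setOf 3) ∩ (a • setOf 3)).card 2, by omega⟩ : Fin 3) = 2 := by
      rw [hcolval, hx0]; rfl
    rw [hcol0]
    decide

end Cfsg.Agent.Lib.helper28
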