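import Cfsg.Agent.Lib.helper28.AutGL

set_option autoImplicit false

namespace Cfsg.Agent.Lib.helper28.Crit

/-- A group acts by conjugation on an elementary abelian normal subgroup `N` of order `p ^ n`;
this gives a homomorphism to `GL (Fin n) (ZMod p)` whose kernel is the centraliser of `N`. -/
theorem exists_hom_GL_normal {H : Type*} [Group H] [Finite H] (N : Subgroup H) [hN : N.Normal]
    (p n : ℕ) [Fact p.Prime] (hcard : Nat.card N = p ^ n)
    (hexp : ∀ x ∈ N, x ^ p = 1) (hcomm : ∀ x ∈ N, ∀ y ∈ N, x * y = y * x) :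
    ∃ ψ : H →* GL (Fin n) (ZMod p), ∀ h : H, ψ h = 1 ↔ ∀ x ∈ N, h * x = x * h := by
  letI : CommGroup ↥N :=
    { (inferInstance : Group ↥N) with
      mul_comm := fun a b => Subtype.ext (hcomm a a.2 b b.2) }
  obtain ⟨φ, hφ⟩ := exists_mulAut_hom_GL (N := ↥N) p n hcard
    (fun x => Subtype.ext (hexp x x.2))
  refine ⟨φ.comp (MulAut.conjNormal (H := N)), fun h => ?_⟩
  constructor
  · intro hg x hx
    have h1 : (MulAut.conjNormal h : MulAut ↥N) = 1 := by
      apply hφ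
      rw [map_one]
      exact hg
    have h2 := congrArg (fun e : MulAut ↥N => ((e ⟨x, hx⟩ : ↥N) : H)) h1
    simp only [MulAut.conjNormal_apply] at h2
    have h3 : h * x * h⁻¹ = x := h2
    calc h * x = h * x * h⁻¹ * h := by group
      _ = x * h := by rw [h3]
  · intro hc
    have h1 : (MulAut.conjNormal h : MulAut ↥N) = 1 := by
      apply MulEquiv.ext
      intro x
      apply Subtype.ext
      rw [MulAut.conjNormal_apply]
      show h * x.1 * h⁻¹ = x.1
      rw [hc x.1 x.2, mul_inv_cancel_right]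
    show φ (MulAut.conjNormal h) = 1
    rw [h1, map_one]

/-- The same for a subgroup `C` normalising an elementary abelian subgroup `N`. -/
theorem exists_hom_GL_of_normalizer {P : Type*} [Group P] [Finite P] (N C : Subgroup P)
    (hnorm : C ≤ Subgroup.normalizer (N : Set P)) (p n : ℕ) [Fact p.Prime]
    (hcard : Nat.card N = p ^ n)
    (hexp : ∀ x ∈ N, x ^ p = 1) (hcomm : ∀ x ∈ N, ∀ y ∈ N, x * y = y * x) :
    ∃ ρ : ↥C →* GL (Fin n) (ZMod p), ∀ c : ↥C, ρ c = 1 ↔ ∀ x ∈ N, (c : P) * x = x * c := by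
  haveI : (N.subgroupOf (Subgroup.normalizer (N : Set P))).Normal := Subgroup.normal_in_normalizer
  have e1 : ↥(N.subgroupOf (Subgroup.normalizer (N : Set P))) ≃* ↥N :=
    Subgroup.subgroupOfEquivOfLe Subgroup.le_normalizer
  obtain ⟨ψ, hψ⟩ := exists_hom_GL_normal (N.subgroupOf (Subgroup.normalizer (N : Set P))) p n
    (by rw [Nat.card_congr e1.toEquiv, hcard])
    (fun x hx => Subtype.ext (by
      rw [Subgroup.mem_subgroupOf] at hx
      simpa using hexp x.1 hx))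
    (fun x hx y hy => Subtype.ext
      (hcomm x.1 (Subgroup.mem_subgroupOf.mp hx) y.1 (Subgroup.mem_subgroupOf.mp hy)))
  refine ⟨ψ.comp (Subgroup.inclusion hnorm), fun c => ?_⟩
  rw [MonoidHom.comp_apply, hψ]
  constructor
  · intro h x hx
    have := h ⟨x, Subgroup.le_normalizer hx⟩ (Subgroup.mem_subgroupOf.mpr hx)
    exact congrArg Subtype.val this
  · intro h x hx
    apply Subtype.ext
    exact h x.1 (Subgroup.mem_subgroupOf.mp hx)

/-- Splitting a quotient as a direct product: `B` and `N ≤ B` normal in `G`, `B / N ≅ Q` with `Q`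
centreless, `G / B ≅ P'`, and two elements `s`, `t` centralising `B` modulo `N` whose images
generate `P'`. -/
theorem quot_equiv_prod {G Q P' : Type*} [Group G] [Group Q] [Group P']
    (N B : Subgroup G) [hN : N.Normal] [hB : B.Normal] (hNB : N ≤ B)
    (ρ : ↥B →* Q) (hρs : Function.Surjective ρ) (hρk : ∀ b : ↥B, ρ b = 1 ↔ (b : G) ∈ N)
    (hQ : ∀ q : Q, (∀ q' : Q, q * q' = q' * q) → q = 1)
    (π : G →* P') (hπk : ∀ g : G, π g = 1 ↔ g ∈ B)
    (s t : G) (hs : ∀ b ∈ B, s * b * s⁻¹ * b⁻¹ ∈ N) (ht : ∀ b ∈ B, t * b * t⁻¹ * b⁻¹ ∈ N)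
    (hgen : ∀ K : Subgroup P', π s ∈ K → π t ∈ K → K = ⊤) :
    Nonempty (G ⧸ N ≃* Q × P') := by
  -- the elements centralising `B` modulo `N`
  let A : Subgroup G :=
    { carrier := {a | ∀ b ∈ B, a * b * a⁻¹ * b⁻¹ ∈ N}
      mul_mem' := by
        intro a a' ha ha' b hb
        have h1 := hN.conj_mem _ (ha' b hb) a
        have h2 := N.mul_mem h1 (ha b hb)
        have e : a * a' * b * (a * a')⁻¹ * b⁻¹ =
            a * (a' * b * a'⁻¹ * b⁻¹) * a⁻¹ * (a * b * a⁻¹ * b⁻¹) := by group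
        rw [e]
        exact h2
      one_mem' := by
        intro b _
        have e : (1 : G) * b * 1⁻¹ * b⁻¹ = 1 := by group
        rw [e]
        exact N.one_mem
      inv_mem' := by
        intro a ha b hb
        have h1 := hN.conj_mem _ (N.inv_mem (ha b hb)) a⁻¹
        have e : a⁻¹ * b * a⁻¹⁻¹ * b⁻¹ = a⁻¹ * (a * b * a⁻¹ * b⁻¹)⁻¹ * a⁻¹⁻¹ := by group
        rw [e]
        exact h1 }
  have hAmem : ∀ a : G, a ∈ A ↔ ∀ b ∈ B, a * b * a⁻¹ * b⁻¹ ∈ N := fun a => Iff.rfl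
  have hAconj : ∀ a ∈ A, ∀ g : G, g * a * g⁻¹ ∈ A := by
    intro a ha g b hb
    have hb' : g⁻¹ * b * g ∈ B := by
      have := hB.conj_mem b hb g⁻¹
      rwa [inv_inv] at this
    have h1 := hN.conj_mem _ (ha _ hb') g
    have e : g * a * g⁻¹ * b * (g * a * g⁻¹)⁻¹ * b⁻¹ =
        g * (a * (g⁻¹ * b * g) * a⁻¹ * (g⁻¹ * b * g)⁻¹) * g⁻¹ := by group
    rw [e]
    exact h1
  -- `A ∩ B = N`
  have hAB : ∀ a ∈ A, a ∈ B → a ∈ N := by
    intro a ha haB
    have h1 : ρ ⟨a, haB⟩ = 1 := by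
      apply hQ
      intro q'
      obtain ⟨b', rfl⟩ := hρs q'
      have h2 : ρ (⟨a, haB⟩ * b' * (⟨a, haB⟩ : ↥B)⁻¹ * b'⁻¹) = 1 := by
        rw [hρk]
        exact ha b'.1 b'.2
      rw [map_mul, map_mul, map_mul, map_inv, map_inv] at h2
      calc ρ ⟨a, haB⟩ * ρ b' = ρ ⟨a, haB⟩ * ρ b' * (ρ ⟨a, haB⟩)⁻¹ * (ρ b')⁻¹ * ρ b' * ρ ⟨a, haB⟩ := by
            group
        _ = ρ b' * ρ ⟨a, haB⟩ := by rw [h2, one_mul]
    exact (hρk _).mp h1
  have hNA : ∀ n ∈ N, n ∈ A := by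
    intro n hn b hb
    have h1 := hN.conj_mem _ (N.inv_mem hn) b
    have h2 := N.mul_mem hn h1
    have e : n * b * n⁻¹ * b⁻¹ = n * (b * n⁻¹ * b⁻¹) := by group
    rw [e]
    exact h2
  -- `A` covers `P'`
  have hcov : ∀ x : P', ∃ a ∈ A, π a = x := by
    intro x
    have h1 : A.map π = ⊤ := hgen _ (Subgroup.mem_map_of_mem π hs) (Subgroup.mem_map_of_mem π ht)
    have h2 : x ∈ A.map π := by rw [h1]; exact Subgroup.mem_top _
    obtain ⟨a, ha, rfl⟩ := Subgroup.mem_map.mp h2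
    exact ⟨a, ha, rfl⟩
  choose af haf1 haf2 using hcov
  have hbf : ∀ g : G, (af (π g))⁻¹ * g ∈ B := by
    intro g
    rw [← hπk, map_mul, map_inv, haf2, inv_mul_cancel]
  -- two elements of `B` differing by an element of `A` have the same image
  have hρeq : ∀ (b1 b2 : G) (h1 : b1 ∈ B) (h2 : b2 ∈ B), b1 * b2⁻¹ ∈ A →
      ρ ⟨b1, h1⟩ = ρ ⟨b2, h2⟩ := by
    intro b1 b2 h1 h2 hA
    have h3 : b1 * b2⁻¹ ∈ N := hAB _ hA (B.mul_mem h1 (B.inv_mem h2))
    have h4 : ρ (⟨b1, h1⟩ * (⟨b2, h2⟩ : ↥B)⁻¹) = 1 := by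
      rw [hρk]
      exact h3
    rw [map_mul, map_inv] at h4
    exact mul_inv_eq_one.mp h4
  let ρ' : G →* Q := MonoidHom.mk' (fun g => ρ ⟨(af (π g))⁻¹ * g, hbf g⟩) (by
    intro g g'
    rw [← map_mul]
    apply hρeq
    have e : (af (π (g * g')))⁻¹ * (g * g') * ((af (π g))⁻¹ * g * ((af (π g'))⁻¹ * g'))⁻¹ =
        (af (π (g * g')))⁻¹ * (g * af (π g') * g⁻¹) * af (π g) := by group
    rw [e]
    exact A.mul_mem (A.mul_mem (A.inv_mem (haf1 _)) (hAconj _ (haf1 _) g)) (haf1 _))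
  have hρ' : ∀ g : G, ρ' g = ρ ⟨(af (π g))⁻¹ * g, hbf g⟩ := fun g => rfl
  have hker : N = (ρ'.prod π).ker := by
    ext g
    rw [MonoidHom.mem_ker, MonoidHom.prod_apply, Prod.mk_eq_one, hρ', hρk, hπk]
    constructor
    · intro hg
      have hgB : g ∈ B := hNB hg
      have h1 : af (π g) ∈ B := by
        rw [← hπk, haf2, hπk]
        exact hgB
      have h2 : af (π g) ∈ N := hAB _ (haf1 _) h1
      exact ⟨N.mul_mem (N.inv_mem h2) hg, hgB⟩
    · rintro ⟨h1, hgB⟩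
      have h2 : af (π g) ∈ B := by
        rw [← hπk, haf2, hπk]
        exact hgB
      have h3 : af (π g) ∈ N := hAB _ (haf1 _) h2
      have := N.mul_mem h3 h1
      rwa [mul_inv_cancel_left] at this
  have hsurj : Function.Surjective (ρ'.prod π) := by
    rintro ⟨q, x⟩
    obtain ⟨b, rfl⟩ := hρs q
    have hπb : π (b : G) = 1 := (hπk _).mpr b.2
    refine ⟨af x * b, ?_⟩
    rw [MonoidHom.prod_apply, Prod.mk.injEq]
    have hπ : π (af x * b) = x := by rw [map_mul, haf2, hπb, mul_one]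
    refine ⟨?_, hπ⟩
    rw [hρ']
    apply hρeq _ _ _ b.2
    have e : (af (π (af x * (b : G))))⁻¹ * (af x * b) * (b : G)⁻¹ =
        (af (π (af x * (b : G))))⁻¹ * af x := by group
    rw [e]
    exact A.mul_mem (A.inv_mem (haf1 _)) (haf1 _)
  exact ⟨(QuotientGroup.quotientMulEquivOfEq hker).trans
    (QuotientGroup.quotientKerEquivOfSurjective _ hsurj)⟩

/-- In a group of order 6, a subgroup containing elements of orders 3 and 2 is everything. -/
theorem eq_top_of_orders {P' : Type*} [Group P'] [Finite P'] (h6 : Nat.card P' = 6) (x y : P')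
    (hx : orderOf x = 3) (hy : orderOf y = 2) (K : Subgroup P') (hxK : x ∈ K) (hyK : y ∈ K) :
    K = ⊤ := by
  apply Subgroup.eq_top_of_card_eq
  have h3 : 3 ∣ Nat.card K := by
    have := orderOf_dvd_natCard (⟨x, hxK⟩ : ↥K)
    rwa [Subgroup.orderOf_mk, hx] at this
  have h2 : 2 ∣ Nat.card K := by
    have := orderOf_dvd_natCard (⟨y, hyK⟩ : ↥K)
    rwa [Subgroup.orderOf_mk, hy] at this
  have hd := Subgroup.card_subgroup_dvd_card K
  rw [h6] at hd ⊢
  have hpos : 0 < Nat.card K := Nat.card_pos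
  have hle := Nat.le_of_dvd (by norm_num) hd
  omega

theorem card_GL32 : Nat.card (GL (Fin 3) (ZMod 2)) = 168 := by
  rw [Matrix.card_GL_field]
  simp [Fin.prod_univ_three, ZMod.card]

theorem center_GL32 (q : GL (Fin 3) (ZMod 2)) (h : ∀ q' : GL (Fin 3) (ZMod 2), q * q' = q' * q) :
    q = 1 := by
  have hq : q ∈ Subgroup.center (GL (Fin 3) (ZMod 2)) :=
    Subgroup.mem_center_iff.mpr (fun g => (h g).symm)
  rw [Matrix.GeneralLinearGroup.mem_center_iff_val_mem_range_scalar] at hq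
  obtain ⟨a, ha⟩ := hq
  apply Units.ext
  rw [← ha]
  have ha1 : a = 1 := by
    have hdet : IsUnit (Matrix.scalar (Fin 3) a) := by rw [ha]; exact q.isUnit
    have : a ≠ 0 := by
      rintro rfl
      rw [map_zero] at hdet
      exact not_isUnit_zero hdet
    have key : ∀ b : ZMod 2, b ≠ 0 → b = 1 := by decide
    exact key a this
  rw [ha1, map_one]
  rfl

end Cfsg.Agent.Lib.helper28.Crit
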