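import Cfsg.Agent.Lib.helper28.GolayTrioData
import Cfsg.Agent.Lib.helper28.GolaySxN
import Cfsg.Agent.Lib.helper28.ProdQuot

set_option autoImplicit false

namespace Cfsg.Agent.Lib.helper28

open Cfsg
open scoped Pointwise

/-! Structure of the trio stabiliser. -/

theorem isTable_of_eqT {g : Equiv.Perm GolayPt} {l l' : List ℕ} (h : IsTable g l)
    (he : eqT l l' = true) : IsTable g l' := by
  intro p
  have := allLt_spec he (idx p) (idx_lt p)
  rw [beq_iff_eq] at this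
  rw [← this]
  exact h p

theorem exists_of_memT {g : Equiv.Perm GolayPt} {L : List (List ℕ)} {l : List ℕ}
    (h : IsTable g l) (hm : memT L l = true) : ∃ l' ∈ L, IsTable g l' := by
  unfold memT at hm
  rw [List.any_eq_true] at hm
  obtain ⟨l', hl', he⟩ := hm
  exact ⟨l', hl', isTable_of_eqT h he⟩

theorem comm_of_commT {g h : Equiv.Perm GolayPt} {l t : List ℕ} (hg : IsTable g l)
    (hh : IsTable h t) (hc : commT l t = true) : g * h = h * g := by
  apply Equiv.ext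
  intro p
  apply idx_injective
  have := allLt_spec hc (idx p) (idx_lt p)
  rw [beq_iff_eq, hh p, hg p, hg (h p), hh (g p)] at this
  exact this

theorem commT_of_comm {g h : Equiv.Perm GolayPt} {l t : List ℕ} (hg : IsTable g l)
    (hh : IsTable h t) (hc : g * h = h * g) : commT l t = true := by
  unfold commT
  apply allLt_of_forall
  intro i hi
  rw [beq_iff_eq, getD_of_isTable hh hi, getD_of_isTable hg hi, hg, hh]
  exact congrArg (fun e : Equiv.Perm GolayPt => idx (e (pt i))) hc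

theorem fixesTab_of_fixes {g : Equiv.Perm GolayPt} {l : List ℕ} {F : ℕ} (h : IsTable g l)
    (hf : ∀ p ∈ setOf F, g p = p) : fixesTab l F = true := by
  unfold fixesTab
  apply allLt_of_forall
  intro i hi
  by_cases hb : F.testBit i = true
  · have h1 : g (pt i) = pt i := hf (pt i) (by rw [mem_setOf, idx_pt hi]; exact hb)
    rw [hb, getD_of_isTable h hi, h1, idx_pt hi]
    simp
  · rw [Bool.not_eq_true] at hb
    rw [hb]
    rfl

theorem eq_of_comN {a b ν : Equiv.Perm GolayPt} {u v n : List ℕ} (hu : IsTable a u)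
    (hv : IsTable b v) (hn : IsTable ν n)
    (h : allLt (fun i => n.getD (v.getD i 0) 0 == u.getD i 0) 24 = true) : ν * b = a := by
  apply Equiv.ext
  intro p
  apply idx_injective
  have := allLt_spec h (idx p) (idx_lt p)
  rw [beq_iff_eq, hv p, hn (b p), hu p] at this
  exact this

theorem card_le_of_tables (K : Subgroup (Equiv.Perm GolayPt)) (L : List (List ℕ))
    (h : ∀ g ∈ K, ∃ l ∈ L, IsTable g l) : Nat.card K ≤ L.length := by
  have h' : ∀ g : ↥K, ∃ i : Fin L.length, IsTable g.1 (L.get i) := by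
    intro g
    obtain ⟨l, hl, hgl⟩ := h g.1 g.2
    obtain ⟨i, rfl⟩ := List.mem_iff_get.mp hl
    exact ⟨i, hgl⟩
  choose f hf using h'
  have hinj : Function.Injective f := by
    intro a b hab
    apply Subtype.ext
    have hb := hf b
    rw [← hab] at hb
    exact eq_of_isTable (hf a) hb
  have := Nat.card_le_card_of_injective f hinj
  rwa [Nat.card_eq_fintype_card (α := Fin L.length), Fintype.card_fin] at this

/-- The elements fixing each member of `T` that commute with every element fixing each member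
of `T` and the points of one of them. -/
def trN (T : Finset (Finset GolayPt)) : Subgroup (Equiv.Perm GolayPt) where
  carrier := {g | g ∈ sxK T ∧ ∀ o ∈ T, ∀ n ∈ sxK T, (∀ p ∈ o, n p = p) → g * n = n * g}
  mul_mem' := by
    rintro a b ⟨ha, ha'⟩ ⟨hb, hb'⟩
    refine ⟨(sxK T).mul_mem ha hb, fun o ho n hn hf => ?_⟩
    rw [mul_assoc, hb' o ho n hn hf, ← mul_assoc, ha' o ho n hn hf, mul_assoc]
  one_mem' := ⟨(sxK T).one_mem, fun o ho n hn hf => by rw [one_mul, mul_one]⟩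
  inv_mem' := by
    rintro a ⟨ha, ha'⟩
    refine ⟨(sxK T).inv_mem ha, fun o ho n hn hf => ?_⟩
    have := ha' o ho n hn hf
    calc a⁻¹ * n = a⁻¹ * (n * a) * a⁻¹ := by group
      _ = a⁻¹ * (a * n) * a⁻¹ := by rw [this]
      _ = n * a⁻¹ := by group

theorem trN_conj_mem {T : Finset (Finset GolayPt)} {a g : Equiv.Perm GolayPt} (ha : a ∈ M24)
    (haT : a • T = T) (hg : g ∈ trN T) : a * g * a⁻¹ ∈ trN T := by
  have hK : ∀ x ∈ sxK T, ∀ b ∈ M24, b • T = T → b * x * b⁻¹ ∈ sxK T := by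
    intro x hx b hb hbT
    have := sxK_conj_mem hb hx
    rwa [hbT] at this
  have haT' : a⁻¹ • T = T := inv_smul_eq_iff.mpr haT.symm
  refine ⟨hK g hg.1 a ha haT, fun o ho n hn hf => ?_⟩
  have hn' : a⁻¹ * n * a ∈ sxK T := by
    have := hK n hn a⁻¹ (M24.inv_mem ha) haT'
    rwa [inv_inv] at this
  have ho' : a⁻¹ • o ∈ T := by
    have := Finset.smul_mem_smul_finset (a := a⁻¹) ho
    rwa [haT'] at this
  have hf' : ∀ p ∈ a⁻¹ • o, (a⁻¹ * n * a) p = p := by
    intro p hp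
    obtain ⟨q, hq, rfl⟩ := Finset.mem_smul_finset.mp hp
    show a⁻¹ (n (a (a⁻¹ q))) = a⁻¹ q
    have e : a (a⁻¹ q) = q := Equiv.apply_symm_apply a q
    rw [e, hf q hq]
  have hc := hg.2 (a⁻¹ • o) ho' (a⁻¹ * n * a) hn' hf'
  calc a * g * a⁻¹ * n = a * (g * (a⁻¹ * n * a)) * a⁻¹ := by group
    _ = a * ((a⁻¹ * n * a) * g) * a⁻¹ := by rw [hc]
    _ = n * (a * g * a⁻¹) := by group

theorem mem_trT0 {t : Finset GolayPt} : t ∈ trT0 ↔ ∃ m ∈ tr0, t = setOf m := by
  unfold trT0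
  rw [List.mem_toFinset, List.mem_map]
  constructor
  · rintro ⟨m, hm, rfl⟩
    exact ⟨m, hm, rfl⟩
  · rintro ⟨m, hm, rfl⟩
    exact ⟨m, hm, rfl⟩

theorem trK_eq_stabM : sxK trT0 = stabM tr0 := by
  ext g
  rw [mem_sxK, mem_stabM]
  constructor
  · rintro ⟨h1, h2⟩
    exact ⟨h1, fun m hm => h2 _ (mem_trT0.mpr ⟨m, hm, rfl⟩)⟩
  · rintro ⟨h1, h2⟩
    refine ⟨h1, fun t ht => ?_⟩
    obtain ⟨m, hm, rfl⟩ := mem_trT0.mp ht
    exact h2 m hm

theorem setOf_o0_mem_trT0 : setOf o0 ∈ trT0 := mem_trT0.mpr ⟨o0, by decide, rfl⟩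

theorem setOf_a0m_mem_trT0 : setOf a0m ∈ trT0 := mem_trT0.mpr ⟨a0m, by decide, rfl⟩

theorem setOf_o3_mem_trT0 : setOf 15762208 ∈ trT0 := mem_trT0.mpr ⟨15762208, by decide, rfl⟩

theorem exists_trS3 : ∃ σ ∈ M24, IsTable σ trS3 ∧ σ • trT0 = trT0 ∧ σ ^ 3 = 1 ∧
    σ • setOf o0 ≠ setOf o0 := by
  obtain ⟨σ, hσ, hσt⟩ := tabIn_spec trS3_ok
  have hσM : σ ∈ M24 := stabM_le_M24 _ hσ
  have h1 : σ⁻¹ • setOf o0 = setOf 15762208 := by rw [inv_smul_setOf hσt, trS3_pre.1]
  have h2 : σ⁻¹ • setOf a0m = setOf o0 := by rw [inv_smul_setOf hσt, trS3_pre.2]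
  have hne : setOf 15762208 ≠ setOf o0 :=
    fun h => absurd (setOf_inj (by decide) (by decide) h) (by decide)
  have hinv : σ⁻¹ • trT0 = trT0 :=
    trio_unique (smul_mem_trios (M24.inv_mem hσM) trT0_mem) trT0_mem
      (o := setOf 15762208) (x := setOf o0)
      (by rw [← h1]; exact Finset.smul_mem_smul_finset setOf_o0_mem_trT0)
      (by rw [← h2]; exact Finset.smul_mem_smul_finset setOf_a0m_mem_trT0)
      setOf_o3_mem_trT0 setOf_o0_mem_trT0 hne
  refine ⟨σ, hσM, hσt, (inv_smul_eq_iff.mp hinv).symm, pow_eq_one_of_powTab hσt 3 trS3_pow, ?_⟩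
  intro h
  exact hne (h1.symm.trans (inv_smul_eq_iff.mpr h.symm))

theorem exists_trS2 : ∃ σ ∈ M24, IsTable σ trS2 ∧ σ • trT0 = trT0 ∧ σ ^ 2 = 1 ∧
    σ • setOf o0 ≠ setOf o0 := by
  obtain ⟨σ, hσ, hσt⟩ := tabIn_spec trS2_ok
  have hσM : σ ∈ M24 := stabM_le_M24 _ hσ
  have h1 : σ⁻¹ • setOf o0 = setOf a0m := by rw [inv_smul_setOf hσt, trS2_pre.1]
  have h2 : σ⁻¹ • setOf a0m = setOf o0 := by rw [inv_smul_setOf hσt, trS2_pre.2]
  have hne : setOf a0m ≠ setOf o0 :=
    fun h => absurd (setOf_inj (by decide) (by decide) h) (by decide)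
  have hinv : σ⁻¹ • trT0 = trT0 :=
    trio_unique (smul_mem_trios (M24.inv_mem hσM) trT0_mem) trT0_mem
      (o := setOf a0m) (x := setOf o0)
      (by rw [← h1]; exact Finset.smul_mem_smul_finset setOf_o0_mem_trT0)
      (by rw [← h2]; exact Finset.smul_mem_smul_finset setOf_a0m_mem_trT0)
      setOf_a0m_mem_trT0 setOf_o0_mem_trT0 hne
  refine ⟨σ, hσM, hσt, (inv_smul_eq_iff.mp hinv).symm, pow_eq_one_of_powTab hσt 2 trS2_pow, ?_⟩
  intro h
  exact hne (h1.symm.trans (inv_smul_eq_iff.mpr h.symm))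

theorem card_perm_trT0 : Nat.card (Equiv.Perm ↥trT0) = 6 := by
  rw [Nat.card_eq_fintype_card, Fintype.card_perm, Fintype.card_coe, trT0_mem.1]
  rfl

theorem trAct_gen (K : Subgroup (Equiv.Perm ↥trT0)) {σ τ : Equiv.Perm GolayPt} (hσM : σ ∈ M24)
    (hσT : σ • trT0 = trT0) (hσ3 : σ ^ 3 = 1) (hσne : σ • setOf o0 ≠ setOf o0) (hτM : τ ∈ M24)
    (hτT : τ • trT0 = trT0) (hτ2 : τ ^ 2 = 1) (hτne : τ • setOf o0 ≠ setOf o0)
    (h1 : sxAct trT0 ⟨⟨σ, hσM⟩, hσT⟩ ∈ K) (h2 : sxAct trT0 ⟨⟨τ, hτM⟩, hτT⟩ ∈ K) : K = ⊤ := by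
  haveI : Fact (Nat.Prime 3) := ⟨by norm_num⟩
  haveI : Fact (Nat.Prime 2) := ⟨by norm_num⟩
  apply Crit.eq_top_of_orders card_perm_trT0 (sxAct trT0 ⟨⟨σ, hσM⟩, hσT⟩)
    (sxAct trT0 ⟨⟨τ, hτM⟩, hτT⟩) ?_ ?_ K h1 h2
  · apply orderOf_eq_prime
    · rw [← map_pow]
      have : (⟨⟨σ, hσM⟩, hσT⟩ : ↥(MulAction.stabilizer M24 trT0)) ^ 3 = 1 := by
        apply Subtype.ext
        apply Subtype.ext
        exact hσ3
      rw [this, map_one]
    · intro h
      exact hσne ((mem_ker_sxAct trT0 _).mp (MonoidHom.mem_ker.mpr h) (setOf o0)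
        setOf_o0_mem_trT0)
  · apply orderOf_eq_prime
    · rw [← map_pow]
      have : (⟨⟨τ, hτM⟩, hτT⟩ : ↥(MulAction.stabilizer M24 trT0)) ^ 2 = 1 := by
        apply Subtype.ext
        apply Subtype.ext
        exact hτ2
      rw [this, map_one]
    · intro h
      exact hτne ((mem_ker_sxAct trT0 _).mp (MonoidHom.mem_ker.mpr h) (setOf o0)
        setOf_o0_mem_trT0)

theorem trAct_surj : (sxAct trT0).range = ⊤ := by
  obtain ⟨σ, hσM, -, hσT, hσ3, hσne⟩ := exists_trS3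
  obtain ⟨τ, hτM, -, hτT, hτ2, hτne⟩ := exists_trS2
  exact trAct_gen _ hσM hσT hσ3 hσne hτM hτT hτ2 hτne ⟨_, rfl⟩ ⟨_, rfl⟩

theorem card_stabM_tr0 : Nat.card (stabM tr0) = 10752 := by
  have h1 := Subgroup.card_mul_index (sxAct trT0).ker
  rw [Subgroup.index_ker, trAct_surj, Subgroup.card_top, card_stabilizer_trio trT0_mem,
    card_perm_trT0] at h1
  have hk : Nat.card (sxAct trT0).ker = Nat.card (stabM tr0) := by
    rw [← trK_eq_stabM]
    apply Nat.card_congr
    exact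
      { toFun := fun x => ⟨x.1.1.1, x.1.1.2, (mem_ker_sxAct trT0 x.1).mp x.2⟩
        invFun := fun y => ⟨⟨⟨y.1, y.2.1⟩, smul_eq_of_forall_smul y.2.2⟩,
          (mem_ker_sxAct trT0 _).mpr y.2.2⟩
        left_inv := fun x => rfl
        right_inv := fun y => rfl }
  omega

theorem bits_o0 : ∀ i, i < 24 → Nat.testBit o0 i = true →
    i = 0 ∨ i = 1 ∨ i = 2 ∨ i = 3 ∨ i = 4 ∨ i = 7 ∨ i = 10 ∨ i = 12 := by decide

theorem mem_trN1 {g : Equiv.Perm GolayPt} :
    g ∈ stabM trInv1 ↔ g ∈ stabM tr0 ∧ ∀ p ∈ setOf o0, g p = p := by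
  unfold trInv1
  rw [mem_stabM_cons_pt (b := 12) (by norm_num), mem_stabM_cons_pt (b := 10) (by norm_num),
    mem_stabM_cons_pt (b := 7) (by norm_num), mem_stabM_cons_pt (b := 4) (by norm_num),
    mem_stabM_cons_pt (b := 3) (by norm_num), mem_stabM_cons_pt (b := 2) (by norm_num),
    mem_stabM_cons_pt (b := 1) (by norm_num), mem_stabM_cons_pt (b := 0) (by norm_num)]
  constructor
  · rintro ⟨⟨⟨⟨⟨⟨⟨⟨h, h0⟩, h1⟩, h2⟩, h3⟩, h4⟩, h7⟩, h10⟩, h12⟩
    refine ⟨h, fun p hp => ?_⟩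
    rw [mem_setOf] at hp
    have hp' := pt_idx p
    rcases bits_o0 _ (idx_lt p) hp with e | e | e | e | e | e | e | e <;>
      rw [e] at hp' <;> rw [← hp'] <;> assumption
  · rintro ⟨h, hf⟩
    have f : ∀ i, i < 24 → o0.testBit i = true → g (pt i) = pt i :=
      fun i hi hb => hf _ (by rw [mem_setOf, idx_pt hi]; exact hb)
    exact ⟨⟨⟨⟨⟨⟨⟨⟨h, f 0 (by norm_num) (by decide)⟩, f 1 (by norm_num) (by decide)⟩,
      f 2 (by norm_num) (by decide)⟩, f 3 (by norm_num) (by decide)⟩,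
      f 4 (by norm_num) (by decide)⟩, f 7 (by norm_num) (by decide)⟩,
      f 10 (by norm_num) (by decide)⟩, f 12 (by norm_num) (by decide)⟩

theorem trN1_final_bot : stabM (chainInv trInv1 trN1Chain) = ⊥ := by
  rw [Subgroup.eq_bot_iff_forall]
  intro g hg
  rw [trN1Chain_inv] at hg
  have hg5 := (mem_stabM_cons_pt (by norm_num)).mp hg
  have hg' := mem_trN1.mp hg5.1
  have f : ∀ i, i < 24 → o0.testBit i = true → g (pt i) = pt i :=
    fun i hi hb => hg'.2 _ (by rw [mem_setOf, idx_pt hi]; exact hb)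
  have hmem : g ∈ fixer (setOf 191) := by
    rw [mem_fixer]
    refine ⟨stabM_le_M24 _ hg'.1, ?_⟩
    intro p hp
    rw [mem_setOf] at hp
    have hp' := pt_idx p
    rcases bits191 _ (idx_lt p) hp with h | h | h | h | h | h | h <;>
      rw [h] at hp' <;> rw [← hp']
    · exact f 0 (by norm_num) (by decide)
    · exact f 1 (by norm_num) (by decide)
    · exact f 2 (by norm_num) (by decide)
    · exact f 3 (by norm_num) (by decide)
    · exact f 4 (by norm_num) (by decide)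
    · exact hg5.2
    · exact f 7 (by norm_num) (by decide)
  rw [fixer7_eq_bot, Subgroup.mem_bot] at hmem
  exact hmem

theorem card_trN1 : Nat.card (stabM trInv1) = 8 := by
  have h := card_stabM_chain trN1Chain trInv1 trN1Chain_ok
  rw [trN1_final_bot, trN1Chain_prod, Subgroup.card_bot] at h
  omega

theorem trB_a_all : ∀ l ∈ trU0, chainAll trQa trRest l = true := by
  intro l hl
  rw [trU0_eq] at hl
  simp only [List.mem_cons, List.not_mem_nil, or_false] at hl
  rcases hl with rfl | rfl | rfl | rfl | rfl | rfl | rfl | rfl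
  · exact trB_a0
  · exact trB_a1
  · exact trB_a2
  · exact trB_a3
  · exact trB_a4
  · exact trB_a5
  · exact trB_a6
  · exact trB_a7

theorem trB_table {g : Equiv.Perm GolayPt} (hg : g ∈ stabM tr0) :
    ∃ l, IsTable g l ∧ trQa l = true := by
  have h := trBChain_gen
  have hcard : Nat.card (stabM tr0) ≤ chainProd trBChain := by
    rw [trBChain_prod, card_stabM_tr0]
  unfold trBChain at h hcard
  obtain ⟨hcard', horb⟩ := chain_step_card h hcard
  rw [chainGen] at h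
  simp only [Bool.and_eq_true, decide_eq_true_eq] at h
  obtain ⟨⟨⟨hb, hE⟩, hU⟩, hrest⟩ := h
  obtain ⟨l, hl, u, hu, hul, hub⟩ := levOK_sound hb hU (g (pt 0)) (horb g hg)
  have hg' : u⁻¹ * g ∈ stabM (2 ^ 0 :: tr0) := by
    rw [mem_stabM_cons_pt hb]
    refine ⟨(stabM tr0).mul_mem ((stabM tr0).inv_mem hu) hg, ?_⟩
    show u⁻¹ (g (pt 0)) = pt 0
    rw [← hub]
    simp
  obtain ⟨l', hl', hQ'⟩ := chainAll_sound_card trQa trRest (2 ^ 0 :: tr0) l u hul hrest hcard'
    (trB_a_all l hl) (u⁻¹ * g) hg'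
  refine ⟨l', ?_, hQ'⟩
  have : u * (u⁻¹ * g) = g := by group
  rw [← this]
  exact hl'

/-- Each table of the list belongs to an element of the normal subgroup. -/
theorem trNL_mem {n : List ℕ} (hn : n ∈ trNL) : ∃ ν ∈ trN trT0, IsTable ν n := by
  have hok := List.all_eq_true.mp trNL_ok n hn
  rw [Bool.and_eq_true, Bool.and_eq_true] at hok
  obtain ⟨⟨h1, h2⟩, h3⟩ := hok
  obtain ⟨ν, hν, hνn⟩ := tabIn_spec h1
  refine ⟨ν, ⟨by rw [trK_eq_stabM]; exact hν, ?_⟩, hνn⟩
  intro o ho m hm hf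
  rw [trK_eq_stabM] at hm
  obtain ⟨l, hl, hQ⟩ := trB_table hm
  simp only [trQa, Bool.and_eq_true] at hQ
  obtain ⟨⟨⟨q1, q2⟩, q3⟩, q4⟩ := hQ
  obtain ⟨mk, hmk, rfl⟩ := mem_trT0.mp ho
  have hfix : fixesTab l mk = true := fixesTab_of_fixes hl hf
  have hmem : ∃ t ∈ trL1 ++ trL2 ++ trL3, IsTable m t := by
    unfold tr0 at hmk
    rw [List.mem_cons, List.mem_cons, List.mem_singleton] at hmk
    rcases hmk with rfl | rfl | rfl
    · rw [hfix] at q2
      simp only [Bool.not_true, Bool.false_or] at q2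
      obtain ⟨t, ht, hmt⟩ := exists_of_memT hl q2
      exact ⟨t, List.mem_append_left _ (List.mem_append_left _ ht), hmt⟩
    · rw [hfix] at q3
      simp only [Bool.not_true, Bool.false_or] at q3
      obtain ⟨t, ht, hmt⟩ := exists_of_memT hl q3
      exact ⟨t, List.mem_append_left _ (List.mem_append_right _ ht), hmt⟩
    · rw [hfix] at q4
      simp only [Bool.not_true, Bool.false_or] at q4
      obtain ⟨t, ht, hmt⟩ := exists_of_memT hl q4
      exact ⟨t, List.mem_append_right _ ht, hmt⟩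
  obtain ⟨t, ht, hmt⟩ := hmem
  exact comm_of_commT hνn hmt (List.all_eq_true.mp h3 t ht)

theorem trN_table_aux {c : Equiv.Perm GolayPt} (hc : c ∈ stabM tr0)
    (h : ∀ x ∈ stabM trInv1, c * x = x * c) : ∃ n ∈ trNL, IsTable c n := by
  obtain ⟨l, hl, hQ⟩ := trB_table hc
  simp only [trQa, Bool.and_eq_true] at hQ
  obtain ⟨⟨⟨q1, q2⟩, q3⟩, q4⟩ := hQ
  have hall : trG1.all (commT l) = true := by
    rw [List.all_eq_true]
    intro t ht
    obtain ⟨x, hx, hxt⟩ := tabIn_spec (List.all_eq_true.mp trG1_ok t ht)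
    exact commT_of_comm hl hxt (h x hx)
  rw [hall] at q1
  simp only [Bool.not_true, Bool.false_or] at q1
  exact exists_of_memT hl q1

theorem comm_of_trN {c : Equiv.Perm GolayPt} (hc : c ∈ trN trT0) :
    ∀ x ∈ stabM trInv1, c * x = x * c := by
  intro x hx
  have hx' := mem_trN1.mp hx
  exact hc.2 (setOf o0) setOf_o0_mem_trT0 x (by rw [trK_eq_stabM]; exact hx'.1) hx'.2

theorem trN_of_comm {c : Equiv.Perm GolayPt} (hc : c ∈ stabM tr0)
    (h : ∀ x ∈ stabM trInv1, c * x = x * c) : c ∈ trN trT0 := by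
  obtain ⟨n, hn, hcn⟩ := trN_table_aux hc h
  obtain ⟨ν, hν, hνn⟩ := trNL_mem hn
  rw [eq_of_isTable hcn hνn]
  exact hν

theorem trN_table {g : Equiv.Perm GolayPt} (hg : g ∈ trN trT0) : ∃ n ∈ trNL, IsTable g n :=
  trN_table_aux (by rw [← trK_eq_stabM]; exact hg.1) (comm_of_trN hg)

theorem trN_sq {g : Equiv.Perm GolayPt} (hg : g ∈ trN trT0) : g * g = 1 := by
  obtain ⟨n, hn, hgn⟩ := trN_table hg
  have hok := List.all_eq_true.mp trNL_ok n hn
  rw [Bool.and_eq_true, Bool.and_eq_true] at hok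
  exact sq_eq_one_of_table hgn hok.1.2

theorem trN1_sq {x : Equiv.Perm GolayPt} (hx : x ∈ stabM trInv1) : x * x = 1 :=
  sq_eq_one_of_mem_fixer_o0 (mem_fixer.mpr ⟨stabM_le_M24 _ hx, (mem_trN1.mp hx).2⟩)

theorem trN1_norm : stabM tr0 ≤ Subgroup.normalizer ((stabM trInv1 : Subgroup (Equiv.Perm GolayPt)) :
    Set (Equiv.Perm GolayPt)) := by
  rw [Subgroup.le_normalizer_iff]
  intro c hc x hx
  rw [mem_trN1] at hx ⊢
  refine ⟨(stabM tr0).mul_mem ((stabM tr0).mul_mem hc hx.1) ((stabM tr0).inv_mem hc),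
    fun p hp => ?_⟩
  show c (x (c⁻¹ p)) = p
  have hco : c • setOf o0 = setOf o0 := hc.2 o0 (by decide)
  have hp' : c⁻¹ p ∈ setOf o0 :=
    (apply_mem_iff_of_smul_eq (inv_smul_eq_iff.mpr hco.symm) p).mpr hp
  rw [hx.2 _ hp']
  exact Equiv.apply_symm_apply c p

/-- An element with table `tS` centralises the octadwise stabiliser modulo the normal
subgroup. -/
theorem trS_comm {σ : Equiv.Perm GolayPt} {tS : List ℕ} (hσt : IsTable σ tS)
    {β : Equiv.Perm GolayPt} {l : List ℕ} (hl : IsTable β l)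
    (hq : comN trNL (mulTab tS l) (mulTab l tS) = true) : σ * β * σ⁻¹ * β⁻¹ ∈ trN trT0 := by
  unfold comN at hq
  rw [List.any_eq_true] at hq
  obtain ⟨n, hn, hq'⟩ := hq
  obtain ⟨ν, hν, hνn⟩ := trNL_mem hn
  have h1 : ν * (β * σ) = σ * β :=
    eq_of_comN (isTable_mulTab hσt hl) (isTable_mulTab hl hσt) hνn hq'
  have h2 : σ * β * σ⁻¹ * β⁻¹ = ν := by
    rw [← h1]
    group
  rw [h2]
  exact hν

/-- An element whose table passes the test on the transversal centralises the octadwise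
stabiliser modulo the normal subgroup. -/
theorem trS_central {σ : Equiv.Perm GolayPt} {tS : List ℕ} (hσt : IsTable σ tS)
    (hgen : trBChain.all (fun c => c.2.2.all (fun l => tabIn tr0 l &&
      comN trNL (mulTab tS l) (mulTab l tS))) = true) :
    ∀ β ∈ stabM tr0, σ * β * σ⁻¹ * β⁻¹ ∈ trN trT0 := by
  have hconj : ∀ b ∈ stabM tr0, ∀ n ∈ trN trT0, b * n * b⁻¹ ∈ trN trT0 := by
    intro b hb n hn
    have hb' : b ∈ sxK trT0 := by rw [trK_eq_stabM]; exact hb
    exact trN_conj_mem hb'.1 (smul_eq_of_forall_smul hb'.2) hn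
  let Hs : Subgroup (Equiv.Perm GolayPt) :=
    { carrier := {b | b ∈ stabM tr0 ∧ σ * b * σ⁻¹ * b⁻¹ ∈ trN trT0}
      mul_mem' := by
        rintro a b ⟨ha, ha'⟩ ⟨hb, hb'⟩
        refine ⟨(stabM tr0).mul_mem ha hb, ?_⟩
        have h1 := hconj a ha _ hb'
        have h2 := (trN trT0).mul_mem ha' h1
        have e : σ * (a * b) * σ⁻¹ * (a * b)⁻¹ =
            σ * a * σ⁻¹ * a⁻¹ * (a * (σ * b * σ⁻¹ * b⁻¹) * a⁻¹) := by group
        rw [e]
        exact h2
      one_mem' := ⟨(stabM tr0).one_mem, by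
        have e : σ * 1 * σ⁻¹ * (1 : Equiv.Perm GolayPt)⁻¹ = 1 := by group
        rw [e]
        exact (trN trT0).one_mem⟩
      inv_mem' := by
        rintro a ⟨ha, ha'⟩
        refine ⟨(stabM tr0).inv_mem ha, ?_⟩
        have h1 := hconj a⁻¹ ((stabM tr0).inv_mem ha) _ ((trN trT0).inv_mem ha')
        have e : σ * a⁻¹ * σ⁻¹ * a⁻¹⁻¹ = a⁻¹ * (σ * a * σ⁻¹ * a⁻¹)⁻¹ * a⁻¹⁻¹ := by group
        rw [e]
        exact h1 }
  have hle : chainProd trBChain ≤ Nat.card (Hs ⊓ stabM tr0 : Subgroup (Equiv.Perm GolayPt)) := by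
    apply chainProd_le_card Hs trBChain tr0 trBChain_gen
    intro c hc l hl
    have h1 := List.all_eq_true.mp (List.all_eq_true.mp hgen c hc) l hl
    rw [Bool.and_eq_true] at h1
    obtain ⟨g, hg, hgl⟩ := tabIn_spec h1.1
    exact ⟨g, ⟨hg, trS_comm hσt hgl h1.2⟩, hgl⟩
  have heq : Hs ⊓ stabM tr0 = stabM tr0 :=
    Subgroup.eq_of_le_of_card_ge inf_le_right (by rw [card_stabM_tr0, ← trBChain_prod]; exact hle)
  intro β hβ
  have : β ∈ Hs ⊓ stabM tr0 := by rw [heq]; exact hβ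
  exact this.1.2

/-- The structure of the stabiliser of the standard trio. -/
theorem trio_T0_structure : ∃ (N : Subgroup ↥(MulAction.stabilizer M24 trT0)) (_ : N.Normal),
    Nat.card N = 64 ∧ (∀ x ∈ N, x * x = 1) ∧
    Nonempty (↥(MulAction.stabilizer M24 trT0) ⧸ N ≃*
      GL (Fin 3) (ZMod 2) × Equiv.Perm ↥trT0) := by
  haveI : Fact (Nat.Prime 2) := ⟨by norm_num⟩
  -- the action on the elements fixing the first octad pointwise
  obtain ⟨ρ0, hρ0⟩ := Crit.exists_hom_GL_of_normalizer (stabM trInv1) (stabM tr0) trN1_norm 2 3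
    (by rw [card_trN1]; norm_num)
    (fun x hx => by rw [pow_two]; exact trN1_sq hx)
    (fun x hx y hy => by
      have h1 := trN1_sq hx
      have h2 := trN1_sq hy
      have h3 := trN1_sq ((stabM trInv1).mul_mem hx hy)
      calc x * y = x * (x * y * (x * y)) * y := by rw [h3, mul_one]
        _ = (x * x) * (y * x) * (y * y) := by group
        _ = y * x := by rw [h1, h2, one_mul, mul_one])
  have hker0 : ∀ c : ↥(stabM tr0), ρ0 c = 1 ↔ (c : Equiv.Perm GolayPt) ∈ trN trT0 := by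
    intro c
    rw [hρ0]
    exact ⟨fun h => trN_of_comm c.2 h, fun h => comm_of_trN h⟩
  have hK64 : Nat.card (trN trT0) ≤ 64 := by
    have := card_le_of_tables (trN trT0) trNL (fun g hg => trN_table hg)
    rwa [trNL_length] at this
  have hkerK : Nat.card ρ0.ker = Nat.card (trN trT0) := by
    apply Nat.card_congr
    exact
      { toFun := fun x => ⟨x.1.1, (hker0 x.1).mp (MonoidHom.mem_ker.mp x.2)⟩
        invFun := fun y => ⟨⟨y.1, by rw [← trK_eq_stabM]; exact y.2.1⟩,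
          MonoidHom.mem_ker.mpr ((hker0 _).mpr y.2)⟩
        left_inv := fun x => rfl
        right_inv := fun y => rfl }
  have hcount := Subgroup.card_mul_index ρ0.ker
  rw [Subgroup.index_ker, card_stabM_tr0, hkerK] at hcount
  have hrange_le : Nat.card ρ0.range ≤ 168 := by
    rw [← Crit.card_GL32]
    exact Subgroup.card_le_card_group _
  have hK : Nat.card (trN trT0) = 64 := by
    by_contra hne
    have h63 : Nat.card (trN trT0) ≤ 63 := by omega
    have := Nat.mul_le_mul h63 hrange_le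
    omega
  have hR : Nat.card ρ0.range = 168 := by
    rw [hK] at hcount
    omega
  have hρ0s : Function.Surjective ρ0 := by
    rw [← MonoidHom.range_eq_top]
    apply Subgroup.eq_top_of_card_eq
    rw [hR, Crit.card_GL32]
  -- the subgroups of the stabiliser
  have hNn : ((trN trT0).comap ((M24.subtype).comp
      (MulAction.stabilizer M24 trT0).subtype)).Normal := by
    constructor
    intro n hn g
    show (g.1.1 : Equiv.Perm GolayPt) * n.1.1 * (g.1.1)⁻¹ ∈ trN trT0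
    have hn' : (n.1.1 : Equiv.Perm GolayPt) ∈ trN trT0 := hn
    have hgT : (g.1.1 : Equiv.Perm GolayPt) • trT0 = trT0 := g.2
    exact trN_conj_mem g.1.2 hgT hn'
  have hNB : (trN trT0).comap ((M24.subtype).comp (MulAction.stabilizer M24 trT0).subtype) ≤
      (sxAct trT0).ker := by
    intro n hn
    have hn' : (n.1.1 : Equiv.Perm GolayPt) ∈ trN trT0 := hn
    exact (mem_ker_sxAct trT0 n).mpr hn'.1.2
  have hmemB : ∀ b : ↥(sxAct trT0).ker, (b.1.1.1 : Equiv.Perm GolayPt) ∈ stabM tr0 := by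
    intro b
    rw [← trK_eq_stabM]
    exact ⟨b.1.1.2, (mem_ker_sxAct trT0 b.1).mp b.2⟩
  let toB : ↥(sxAct trT0).ker →* ↥(stabM tr0) :=
    { toFun := fun b => ⟨b.1.1.1, hmemB b⟩
      map_one' := rfl
      map_mul' := fun _ _ => rfl }
  have htoB : ∀ b : ↥(sxAct trT0).ker, ((toB b : ↥(stabM tr0)) : Equiv.Perm GolayPt) = b.1.1.1 :=
    fun b => rfl
  have hρs : Function.Surjective (ρ0.comp toB) := by
    intro q
    obtain ⟨c, rfl⟩ := hρ0s q
    have hcK : (c : Equiv.Perm GolayPt) ∈ sxK trT0 := by rw [trK_eq_stabM]; exact c.2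
    refine ⟨⟨⟨⟨c.1, hcK.1⟩, smul_eq_of_forall_smul hcK.2⟩, (mem_ker_sxAct trT0 _).mpr hcK.2⟩, ?_⟩
    rfl
  have hρk : ∀ b : ↥(sxAct trT0).ker, (ρ0.comp toB) b = 1 ↔
      (b : ↥(MulAction.stabilizer M24 trT0)) ∈ (trN trT0).comap ((M24.subtype).comp
        (MulAction.stabilizer M24 trT0).subtype) := by
    intro b
    exact hker0 (toB b)
  -- the two elements permuting the octads
  obtain ⟨σ, hσM, hσt, hσT, hσ3, hσne⟩ := exists_trS3
  obtain ⟨τ, hτM, hτt, hτT, hτ2, hτne⟩ := exists_trS2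
  have hs : ∀ b ∈ (sxAct trT0).ker,
      (⟨⟨σ, hσM⟩, hσT⟩ : ↥(MulAction.stabilizer M24 trT0)) * b *
        (⟨⟨σ, hσM⟩, hσT⟩ : ↥(MulAction.stabilizer M24 trT0))⁻¹ * b⁻¹ ∈
      (trN trT0).comap ((M24.subtype).comp (MulAction.stabilizer M24 trT0).subtype) := by
    intro b hb
    exact trS_central hσt trGenS3 _ (hmemB ⟨b, hb⟩)
  have ht : ∀ b ∈ (sxAct trT0).ker,
      (⟨⟨τ, hτM⟩, hτT⟩ : ↥(MulAction.stabilizer M24 trT0)) * b *
        (⟨⟨τ, hτM⟩, hτT⟩ : ↥(MulAction.stabilizer M24 trT0))⁻¹ * b⁻¹ ∈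
      (trN trT0).comap ((M24.subtype).comp (MulAction.stabilizer M24 trT0).subtype) := by
    intro b hb
    exact trS_central hτt trGenS2 _ (hmemB ⟨b, hb⟩)
  haveI := hNn
  have hE := Crit.quot_equiv_prod
    ((trN trT0).comap ((M24.subtype).comp (MulAction.stabilizer M24 trT0).subtype))
    (sxAct trT0).ker hNB (ρ0.comp toB) hρs hρk Crit.center_GL32 (sxAct trT0)
    (fun g => MonoidHom.mem_ker.symm) _ _ hs ht
    (fun K h1 h2 => trAct_gen K hσM hσT hσ3 hσne hτM hτT hτ2 hτne h1 h2)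
  refine ⟨_, hNn, ?_, ?_, hE⟩
  · rw [← hK]
    apply Nat.card_congr
    exact
      { toFun := fun x => ⟨x.1.1.1, x.2⟩
        invFun := fun y => ⟨⟨⟨y.1, y.2.1.1⟩, smul_eq_of_forall_smul y.2.1.2⟩, y.2⟩
        left_inv := fun x => rfl
        right_inv := fun y => rfl }
  · intro x hx
    apply Subtype.ext
    apply Subtype.ext
    exact trN_sq hx

/-- S1558. -/
theorem trio_stab_structure (T : Finset (Finset GolayPt)) (hT : T ∈ trios) :
    (∀ e : Equiv.Perm ↥T, ∃ g ∈ MulAction.stabilizer M24 T, ∀ o : ↥T,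
      (g : Equiv.Perm GolayPt) • (o : Finset GolayPt) = ((e o : ↥T) : Finset GolayPt)) ∧
    ∃ (N : Subgroup ↥(MulAction.stabilizer M24 T)) (_ : N.Normal), Nat.card N = 64 ∧
      (∀ x ∈ N, x * x = 1) ∧
      Nonempty (↥(MulAction.stabilizer M24 T) ⧸ N ≃*
        GL (Fin 3) (ZMod 2) × Equiv.Perm (Fin 3)) := by
  obtain ⟨a, ha, rfl⟩ := exists_smul_trT0 hT
  constructor
  · -- every permutation of the three octads is induced
    have hsurj : (sxAct (a • trT0)).range = ⊤ := by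
      have hk : Nat.card (sxAct (a • trT0)).ker = 10752 := by
        rw [← card_stabM_tr0, ← trK_eq_stabM,
          ← card_conj_eq (sxK trT0) (sxK (a • trT0)) a (fun g => mem_sxK_smul_iff ha g)]
        apply Nat.card_congr
        exact
          { toFun := fun x => ⟨x.1.1.1, x.1.1.2, (mem_ker_sxAct _ x.1).mp x.2⟩
            invFun := fun y => ⟨⟨⟨y.1, y.2.1⟩, smul_eq_of_forall_smul y.2.2⟩,
              (mem_ker_sxAct _ _).mpr y.2.2⟩
            left_inv := fun x => rfl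
            right_inv := fun y => rfl }
      have h1 := Subgroup.card_mul_index (sxAct (a • trT0)).ker
      rw [Subgroup.index_ker, hk, card_stabilizer_trio hT] at h1
      apply Subgroup.eq_top_of_card_eq
      have h2 : Nat.card (Equiv.Perm ↥(a • trT0)) = 6 := by
        rw [Nat.card_eq_fintype_card, Fintype.card_perm, Fintype.card_coe, hT.1]
        rfl
      rw [h2]
      omega
    intro e
    have he : e ∈ (sxAct (a • trT0)).range := by rw [hsurj]; exact Subgroup.mem_top _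
    obtain ⟨g, rfl⟩ := he
    exact ⟨g.1, g.2, fun t => rfl⟩
  · obtain ⟨N0, hN0, hc, he, ⟨E⟩⟩ := trio_T0_structure
    have hab : a • trT0 = (⟨a, ha⟩ : ↥M24) • trT0 := rfl
    let c : ↥(MulAction.stabilizer M24 trT0) ≃* ↥(MulAction.stabilizer M24 (a • trT0)) :=
      MulAction.stabilizerEquivStabilizer hab
    haveI : (N0.map (c : ↥(MulAction.stabilizer M24 trT0) →*
        ↥(MulAction.stabilizer M24 (a • trT0)))).Normal :=
      Subgroup.Normal.map hN0 _ c.surjective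
    refine ⟨N0.map (c : ↥(MulAction.stabilizer M24 trT0) →*
        ↥(MulAction.stabilizer M24 (a • trT0))), inferInstance, ?_, ?_, ?_⟩
    · rw [← hc]
      exact (Nat.card_congr (c.subgroupMap N0).toEquiv).symm
    · intro x hx
      obtain ⟨y, hy, rfl⟩ := Subgroup.mem_map.mp hx
      rw [← map_mul, he y hy, map_one]
    · have e3 : ↥trT0 ≃ Fin 3 := trT0.equivFinOfCardEq trT0_mem.1
      exact ⟨(QuotientGroup.congr N0 _ c rfl).symm.trans
        (E.trans (MulEquiv.prodCongr (MulEquiv.refl _) (Equiv.permCongrHom e3)))⟩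

end Cfsg.Agent.Lib.helper28
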