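import Cfsg.Agent.Lib.helper28.GolayOctInvData
import Cfsg.Agent.Lib.helper28.GolayTrioStab
import Cfsg.Agent.Lib.helper28.LargeESCrit

set_option autoImplicit false

namespace Cfsg.Agent.Lib.helper28

open Cfsg
open scoped Pointwise

/-! The centraliser in `M24` of an involution whose fixed points form an octad. -/

theorem isTable_of_eqT' {g : Equiv.Perm GolayPt} {l l' : List ℕ} (h : IsTable g l')
    (he : eqT l l' = true) : IsTable g l := by
  intro p
  have := allLt_spec he (idx p) (idx_lt p)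
  rw [beq_iff_eq] at this
  rw [this]
  exact h p

theorem eqT_of_isTable {g : Equiv.Perm GolayPt} {l l' : List ℕ} (h : IsTable g l)
    (h' : IsTable g l') : eqT l l' = true := by
  unfold eqT
  apply allLt_of_forall
  intro i hi
  rw [beq_iff_eq, getD_of_isTable h hi, getD_of_isTable h' hi]

theorem eq_of_eqT {g h : Equiv.Perm GolayPt} {l l' : List ℕ} (hg : IsTable g l)
    (hh : IsTable h l') (he : eqT l l' = true) : g = h :=
  eq_of_isTable (isTable_of_eqT hg he) hh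

theorem oiQT_of {g v z : Equiv.Perm GolayPt} {l t : List ℕ} (hg : IsTable g l)
    (hv : IsTable v t) (hz : IsTable z oiZ) (h : g * v = v * g ∨ g * v = z * (v * g)) :
    oiQT l t = true := by
  unfold oiQT
  rw [Bool.or_eq_true]
  rcases h with h | h
  · left; exact commT_of_comm hg hv h
  · right
    apply allLt_of_forall
    intro i hi
    rw [beq_iff_eq, getD_of_isTable hv hi, getD_of_isTable hg hi, hg, hv, hz]
    exact congrArg (fun e : Equiv.Perm GolayPt => idx (e (pt i))) h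

theorem of_oiQT {g v z : Equiv.Perm GolayPt} {l t : List ℕ} (hg : IsTable g l)
    (hv : IsTable v t) (hz : IsTable z oiZ) (h : oiQT l t = true) :
    g * v = v * g ∨ g * v = z * (v * g) := by
  unfold oiQT at h
  rw [Bool.or_eq_true] at h
  rcases h with h | h
  · left; exact comm_of_commT hg hv h
  · right
    apply Equiv.ext
    intro p
    apply idx_injective
    have := allLt_spec h (idx p) (idx_lt p)
    rw [beq_iff_eq, hv p, hg (v p), hg p, hv (g p), hz (v (g p))] at this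
    exact this

theorem isTable_conj {g k : Equiv.Perm GolayPt} {gt kt ct : List ℕ} (hg : IsTable g gt)
    (hk : IsTable k kt) (h : eqT (mulTab gt kt) (mulTab ct gt) = true) :
    IsTable (g * k * g⁻¹) ct := by
  intro p
  have h1 := allLt_spec h (idx (g⁻¹ p)) (idx_lt _)
  rw [beq_iff_eq, isTable_mulTab hg hk (g⁻¹ p), mulTab, getD_map_range _ (idx_lt _),
    hg (g⁻¹ p)] at h1
  have h2 : g (g⁻¹ p) = p := by simp
  rw [h2] at h1
  rw [← h1]
  rfl

theorem preMask_eq_of_smul {g : Equiv.Perm GolayPt} {l : List ℕ} (hl : IsTable g l) {m : ℕ}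
    (hm : m < 2 ^ 24) (h : g • setOf m = setOf m) : preMask l m = m := by
  have h1 := inv_smul_setOf hl m
  have h2 : g⁻¹ • setOf m = setOf m := by rw [inv_smul_eq_iff]; exact h.symm
  rw [h2] at h1
  exact (setOf_inj hm (preMask_lt l m) h1).symm

theorem smul_of_preMask_eq {g : Equiv.Perm GolayPt} {l : List ℕ} (hl : IsTable g l) {m : ℕ}
    (h : preMask l m = m) : g • setOf m = setOf m := by
  have h1 := inv_smul_setOf hl m
  rw [h, inv_smul_eq_iff] at h1
  exact h1.symm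

/-! ### The involution and the pointwise stabiliser of the octad -/

theorem exists_oiz : ∃ z ∈ fixer (setOf o0), IsTable z oiZ := by
  have h := oiZ_ok
  simp only [Bool.and_eq_true] at h
  obtain ⟨g, hg, hgl⟩ := tabIn_spec h.1.1
  rw [← fixer_o0_eq] at hg
  exact ⟨g, hg, hgl⟩

/-- The standard involution fixing the points of the base octad. -/
noncomputable def oiz : Equiv.Perm GolayPt := Classical.choose exists_oiz

theorem oiz_mem : oiz ∈ fixer (setOf o0) := (Classical.choose_spec exists_oiz).1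

theorem oiz_tab : IsTable oiz oiZ := (Classical.choose_spec exists_oiz).2

theorem oiz_M24 : oiz ∈ M24 := (mem_fixer.mp oiz_mem).1

theorem oiz_sq : oiz * oiz = 1 := sq_eq_one_of_mem_fixer_o0 oiz_mem

theorem pt_ne {i j : ℕ} (hi : i < 24) (hj : j < 24) (h : i ≠ j) : pt i ≠ pt j := by
  intro heq
  have := congrArg idx heq
  rw [idx_pt hi, idx_pt hj] at this
  exact h this

theorem oiz_5 : oiz (pt 5) = pt 6 := by
  have h := oiZ_ok
  simp only [Bool.and_eq_true, beq_iff_eq] at h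
  have h1 := oiz_tab (pt 5)
  rw [idx_pt (by norm_num), h.1.2] at h1
  rw [← pt_idx (oiz (pt 5)), ← h1]

theorem oiz_ne_one : oiz ≠ 1 := by
  intro h
  have h5 := oiz_5
  rw [h] at h5
  exact pt_ne (i := 5) (j := 6) (by norm_num) (by norm_num) (by norm_num) h5

theorem fixer_o0_pt5 {t : Equiv.Perm GolayPt} (ht : t ∈ fixer (setOf o0))
    (h5 : t (pt 5) = pt 5) : t = 1 := by
  rw [fixer_o0_eq] at ht
  have h : t ∈ stabM (2 ^ 5 :: octInv6) := (mem_stabM_cons_pt (by norm_num)).mpr ⟨ht, h5⟩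
  have hb : stabM (2 ^ 5 :: octInv6) = ⊥ := oct_final_bot
  rw [hb] at h
  exact Subgroup.mem_bot.mp h

theorem fixer_o0_comm {g k : Equiv.Perm GolayPt} (hg : g ∈ fixer (setOf o0))
    (hk : k ∈ fixer (setOf o0)) : g * k = k * g :=
  fixer_octad_comm setOf_o0_mem_octads hg hk

theorem pt5_not_mem : pt 5 ∉ setOf o0 := by
  rw [mem_setOf, idx_pt (by norm_num)]
  decide

theorem fixer_o0_fix {t : Equiv.Perm GolayPt} (ht : t ∈ fixer (setOf o0)) (ht1 : t ≠ 1)
    {p : GolayPt} (h : t p = p) : p ∈ setOf o0 := by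
  by_contra hp
  obtain ⟨e, he, hep⟩ := fixer_o0_trans p hp
  apply ht1
  apply fixer_o0_pt5 ht
  have h1 : (t * e) (pt 5) = (e * t) (pt 5) := by rw [fixer_o0_comm ht he]
  have h2 : t (e (pt 5)) = e (t (pt 5)) := h1
  rw [hep, h] at h2
  rw [← hep] at h2
  exact (e.injective h2).symm

theorem smul_o0_of_comm {k t : Equiv.Perm GolayPt} (ht : t ∈ fixer (setOf o0)) (ht1 : t ≠ 1)
    (h : k * t = t * k) : k • setOf o0 = setOf o0 := by
  have hsub : ∀ p ∈ setOf o0, k p ∈ setOf o0 := by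
    intro p hp
    apply fixer_o0_fix ht ht1
    have h1 : t p = p := (mem_fixer.mp ht).2 p hp
    have h2 : (k * t) p = (t * k) p := by rw [h]
    have h3 : k (t p) = t (k p) := h2
    rw [h1] at h3
    exact h3.symm
  apply Finset.eq_of_subset_of_card_le
  · intro q hq
    rw [mem_smul_iff] at hq
    have := hsub _ hq
    simpa using this
  · exact le_of_eq (Finset.card_smul_finset _ _).symm

theorem fixer_conj_mem {k e : Equiv.Perm GolayPt} (hk : k ∈ M24)
    (hko : k • setOf o0 = setOf o0) (he : e ∈ fixer (setOf o0)) :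
    k * e * k⁻¹ ∈ fixer (setOf o0) := by
  have h := (mem_fixer_smul_iff hk (setOf o0) (k * e * k⁻¹)).mpr (by
    have : k⁻¹ * (k * e * k⁻¹) * k = e := by group
    rw [this]; exact he)
  rwa [hko] at h

theorem oiE_table {v : Equiv.Perm GolayPt} (hv : v ∈ fixer (setOf o0)) :
    ∃ t ∈ oiE, IsTable v t := by
  rw [fixer_o0_eq] at hv
  obtain ⟨l, hl, hQ⟩ := chainAll_sound _ octChainB octInv6 idTab 1 isTable_one octChainB_ok
    oct_final_bot oiE_all v hv
  rw [one_mul] at hl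
  exact exists_of_memT hl hQ

/-! ### The centraliser -/

/-- The centraliser of the standard involution. -/
def oiC : Subgroup (Equiv.Perm GolayPt) :=
  M24 ⊓ Subgroup.centralizer ({oiz} : Set (Equiv.Perm GolayPt))

theorem mem_oiC {g : Equiv.Perm GolayPt} : g ∈ oiC ↔ g ∈ M24 ∧ g * oiz = oiz * g := by
  unfold oiC
  rw [Subgroup.mem_inf, Crit.LES.mem_centralizer]

theorem oiC_smul {g : Equiv.Perm GolayPt} (hg : g ∈ oiC) : g • setOf o0 = setOf o0 :=
  smul_o0_of_comm oiz_mem oiz_ne_one (mem_oiC.mp hg).2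

theorem fixer_le_oiC : fixer (setOf o0) ≤ oiC := fun e he =>
  mem_oiC.mpr ⟨(mem_fixer.mp he).1, fixer_o0_comm he oiz_mem⟩

theorem mem_oiS {g : Equiv.Perm GolayPt} :
    g ∈ stabM oiInv ↔ (g ∈ M24 ∧ g • setOf o0 = setOf o0) ∧ g (pt 5) = pt 5 ∧ g (pt 6) = pt 6 := by
  unfold oiInv
  rw [mem_stabM_cons_pt (b := 6) (by norm_num), mem_stabM_cons_pt (b := 5) (by norm_num),
    mem_stabM]
  simp only [List.mem_singleton, forall_eq]
  tauto

theorem oiS_le_oiC : stabM oiInv ≤ oiC := by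
  intro g hg
  obtain ⟨⟨hgM, hgo⟩, h5, h6⟩ := mem_oiS.mp hg
  refine mem_oiC.mpr ⟨hgM, ?_⟩
  have h1 : g * oiz * g⁻¹ ∈ fixer (setOf o0) := fixer_conj_mem hgM hgo oiz_mem
  have h2 : oiz⁻¹ * (g * oiz * g⁻¹) ∈ fixer (setOf o0) :=
    (fixer _).mul_mem ((fixer _).inv_mem oiz_mem) h1
  have h3 : (oiz⁻¹ * (g * oiz * g⁻¹)) (pt 5) = pt 5 := by
    show oiz⁻¹ (g (oiz (g⁻¹ (pt 5)))) = pt 5
    have e1 : g⁻¹ (pt 5) = pt 5 := by
      rw [Equiv.Perm.inv_eq_iff_eq]; exact h5.symm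
    rw [e1, oiz_5, h6, Equiv.Perm.inv_eq_iff_eq, oiz_5]
  have h4 := fixer_o0_pt5 h2 h3
  have : g * oiz = oiz * (oiz⁻¹ * (g * oiz * g⁻¹)) * g := by group
  rw [this, h4, mul_one]

/-- Every element of the centraliser is the product of an element fixing the octad pointwise
and an element fixing two further points. -/
theorem oiC_decomp {g : Equiv.Perm GolayPt} (hg : g ∈ oiC) :
    ∃ e ∈ fixer (setOf o0), e⁻¹ * g ∈ stabM oiInv := by
  have hgo := oiC_smul hg
  obtain ⟨hgM, hgz⟩ := mem_oiC.mp hg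
  have hp : g (pt 5) ∉ setOf o0 := by
    rw [mem_iff_of_smul_eq hgo]; exact pt5_not_mem
  obtain ⟨e, he, hep⟩ := fixer_o0_trans _ hp
  refine ⟨e, he, ?_⟩
  have heC := fixer_le_oiC he
  have hs : e⁻¹ * g ∈ oiC := oiC.mul_mem (oiC.inv_mem heC) hg
  have h5 : (e⁻¹ * g) (pt 5) = pt 5 := by
    show e⁻¹ (g (pt 5)) = pt 5
    rw [← hep]; simp
  refine mem_oiS.mpr ⟨⟨(mem_oiC.mp hs).1, oiC_smul hs⟩, h5, ?_⟩
  have h1 : ((e⁻¹ * g) * oiz) (pt 5) = (oiz * (e⁻¹ * g)) (pt 5) := by rw [(mem_oiC.mp hs).2]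
  have h2 : (e⁻¹ * g) (oiz (pt 5)) = oiz ((e⁻¹ * g) (pt 5)) := h1
  rw [h5, oiz_5] at h2
  exact h2

theorem card_oiS : Nat.card (stabM oiInv) = 1344 := by
  have h := card_stabM_chain oiPre [o0] oiPre_ok
  rw [card_stabM_o0, oiPre_prod, oiPre_inv] at h
  omega

theorem card_oiC : Nat.card oiC = 21504 := by
  have h1 := card_subgroup_orbit_step oiC (pt 5) (setOf ((2 ^ 24 - 1) ^^^ o0)) (by
    intro p
    rw [mem_setOf_compl]
    constructor
    · intro hp
      obtain ⟨e, he, hep⟩ := fixer_o0_trans p hp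
      exact ⟨e, fixer_le_oiC he, hep⟩
    · rintro ⟨g, hg, rfl⟩
      rw [mem_iff_of_smul_eq (oiC_smul hg)]; exact pt5_not_mem)
  have h2 : (oiC ⊓ MulAction.stabilizer (Equiv.Perm GolayPt) (pt 5) :
      Subgroup (Equiv.Perm GolayPt)) = stabM oiInv := by
    ext g
    rw [Subgroup.mem_inf, MulAction.mem_stabilizer_iff]
    constructor
    · rintro ⟨hg, h5⟩
      have h5' : g (pt 5) = pt 5 := h5
      refine mem_oiS.mpr ⟨⟨(mem_oiC.mp hg).1, oiC_smul hg⟩, h5', ?_⟩
      have e1 : (g * oiz) (pt 5) = (oiz * g) (pt 5) := by rw [(mem_oiC.mp hg).2]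
      have e2 : g (oiz (pt 5)) = oiz (g (pt 5)) := e1
      rw [h5', oiz_5] at e2
      exact e2
    · intro hg
      exact ⟨oiS_le_oiC hg, (mem_oiS.mp hg).2.1⟩
  rw [h2, card_oiS, card_setOf (by decide)] at h1
  rw [h1]
  decide

theorem oiS1_a_all : ∀ l ∈ oiS1U0, chainAll oiQS oiS1Rest l = true := by
  intro l hl
  rw [oiS1U0_eq] at hl
  simp only [List.mem_cons, List.not_mem_nil, or_false] at hl
  rcases hl with rfl | rfl | rfl | rfl | rfl | rfl | rfl | rfl
  · exact oiS1_a0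
  · exact oiS1_a1
  · exact oiS1_a2
  · exact oiS1_a3
  · exact oiS1_a4
  · exact oiS1_a5
  · exact oiS1_a6
  · exact oiS1_a7

theorem oiS_table {g : Equiv.Perm GolayPt} (hg : g ∈ stabM oiInv) :
    ∃ l, IsTable g l ∧ oiQS l = true := by
  have h := oiS1_gen
  have hcard : Nat.card (stabM oiInv) ≤ chainProd oiS1Chain := by
    rw [oiS1_prod, card_oiS]
  unfold oiS1Chain at h hcard
  obtain ⟨hcard', horb⟩ := chain_step_card h hcard
  rw [chainGen] at h
  simp only [Bool.and_eq_true, decide_eq_true_eq] at h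
  obtain ⟨⟨⟨hb, hE⟩, hU⟩, hrest⟩ := h
  obtain ⟨l, hl, u, hu, hul, hub⟩ := levOK_sound hb hU (g (pt 0)) (horb g hg)
  have hg' : u⁻¹ * g ∈ stabM (2 ^ 0 :: oiInv) := by
    rw [mem_stabM_cons_pt hb]
    refine ⟨(stabM oiInv).mul_mem ((stabM oiInv).inv_mem hu) hg, ?_⟩
    show u⁻¹ (g (pt 0)) = pt 0
    rw [← hub]
    simp
  obtain ⟨l', hl', hQ'⟩ := chainAll_sound_card oiQS oiS1Rest (2 ^ 0 :: oiInv) l u hul hrest hcard'
    (oiS1_a_all l hl) (u⁻¹ * g) hg'
  refine ⟨l', ?_, hQ'⟩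
  have : u * (u⁻¹ * g) = g := by group
  rw [← this]
  exact hl'

/-! ### The normal `2`-subgroup -/

/-- The elements of the centraliser acting trivially on the pointwise stabiliser of the octad
modulo the involution. -/
def oiQ : Subgroup (Equiv.Perm GolayPt) where
  carrier := {g | g ∈ oiC ∧ ∀ v ∈ fixer (setOf o0), g * v = v * g ∨ g * v = oiz * (v * g)}
  one_mem' := ⟨oiC.one_mem, fun v _ => Or.inl (by rw [one_mul, mul_one])⟩
  mul_mem' := by
    rintro a b ⟨haC, ha⟩ ⟨hbC, hb⟩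
    refine ⟨oiC.mul_mem haC hbC, fun v hv => ?_⟩
    have haz := (mem_oiC.mp haC).2
    rcases hb v hv with h1 | h1 <;> rcases ha v hv with h2 | h2
    · left
      calc a * b * v = a * (b * v) := mul_assoc _ _ _
        _ = a * (v * b) := by rw [h1]
        _ = a * v * b := (mul_assoc _ _ _).symm
        _ = v * a * b := by rw [h2]
        _ = v * (a * b) := mul_assoc _ _ _
    · right
      calc a * b * v = a * (b * v) := mul_assoc _ _ _
        _ = a * (v * b) := by rw [h1]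
        _ = a * v * b := (mul_assoc _ _ _).symm
        _ = oiz * (v * a) * b := by rw [h2]
        _ = oiz * (v * (a * b)) := by simp only [mul_assoc]
    · right
      calc a * b * v = a * (b * v) := mul_assoc _ _ _
        _ = a * (oiz * (v * b)) := by rw [h1]
        _ = (a * oiz) * (v * b) := (mul_assoc _ _ _).symm
        _ = (oiz * a) * (v * b) := by rw [haz]
        _ = oiz * ((a * v) * b) := by simp only [mul_assoc]
        _ = oiz * ((v * a) * b) := by rw [h2]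
        _ = oiz * (v * (a * b)) := by simp only [mul_assoc]
    · left
      calc a * b * v = a * (b * v) := mul_assoc _ _ _
        _ = a * (oiz * (v * b)) := by rw [h1]
        _ = (a * oiz) * (v * b) := (mul_assoc _ _ _).symm
        _ = (oiz * a) * (v * b) := by rw [haz]
        _ = oiz * ((a * v) * b) := by simp only [mul_assoc]
        _ = oiz * ((oiz * (v * a)) * b) := by rw [h2]
        _ = (oiz * oiz) * (v * (a * b)) := by simp only [mul_assoc]
        _ = v * (a * b) := by rw [oiz_sq, one_mul]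
  inv_mem' := by
    rintro g ⟨hgC, hg⟩
    refine ⟨oiC.inv_mem hgC, fun v hv => ?_⟩
    have hgz' := (mem_oiC.mp (oiC.inv_mem hgC)).2
    rcases hg v hv with h | h
    · left
      calc g⁻¹ * v = g⁻¹ * (v * g) * g⁻¹ := by group
        _ = g⁻¹ * (g * v) * g⁻¹ := by rw [h]
        _ = v * g⁻¹ := by group
    · right
      have h' : v * g = oiz * (g * v) := by rw [h, ← mul_assoc, oiz_sq, one_mul]
      calc g⁻¹ * v = g⁻¹ * (v * g) * g⁻¹ := by group
        _ = g⁻¹ * (oiz * (g * v)) * g⁻¹ := by rw [h']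
        _ = (g⁻¹ * oiz) * (g * v * g⁻¹) := by group
        _ = (oiz * g⁻¹) * (g * v * g⁻¹) := by rw [hgz']
        _ = oiz * (v * g⁻¹) := by group

theorem mem_oiQ {g : Equiv.Perm GolayPt} : g ∈ oiQ ↔
    g ∈ oiC ∧ ∀ v ∈ fixer (setOf o0), g * v = v * g ∨ g * v = oiz * (v * g) := Iff.rfl

theorem oiQ_le_oiC : oiQ ≤ oiC := fun _ hg => (mem_oiQ.mp hg).1

theorem oiQ_le_M24 : oiQ ≤ M24 := fun _ hg => (mem_oiC.mp (oiQ_le_oiC hg)).1

theorem fixer_le_oiQ : fixer (setOf o0) ≤ oiQ := fun e he =>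
  mem_oiQ.mpr ⟨fixer_le_oiC he, fun _ hv => Or.inl (fixer_o0_comm he hv)⟩

theorem oiQ_conj {c q : Equiv.Perm GolayPt} (hc : c ∈ oiC) (hq : q ∈ oiQ) :
    c * q * c⁻¹ ∈ oiQ := by
  obtain ⟨hqC, hqv⟩ := mem_oiQ.mp hq
  refine mem_oiQ.mpr ⟨oiC.mul_mem (oiC.mul_mem hc hqC) (oiC.inv_mem hc), fun v hv => ?_⟩
  have hcz := (mem_oiC.mp hc).2
  have hv' : c⁻¹ * v * c ∈ fixer (setOf o0) := by
    have := fixer_conj_mem (mem_oiC.mp (oiC.inv_mem hc)).1 (oiC_smul (oiC.inv_mem hc)) hv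
    rwa [inv_inv] at this
  rcases hqv _ hv' with h | h
  · left
    calc c * q * c⁻¹ * v = c * (q * (c⁻¹ * v * c)) * c⁻¹ := by group
      _ = c * ((c⁻¹ * v * c) * q) * c⁻¹ := by rw [h]
      _ = v * (c * q * c⁻¹) := by group
  · right
    calc c * q * c⁻¹ * v = c * (q * (c⁻¹ * v * c)) * c⁻¹ := by group
      _ = c * (oiz * ((c⁻¹ * v * c) * q)) * c⁻¹ := by rw [h]
      _ = (c * oiz) * (c⁻¹ * v * c * q * c⁻¹) := by group
      _ = (oiz * c) * (c⁻¹ * v * c * q * c⁻¹) := by rw [hcz]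
      _ = oiz * (v * (c * q * c⁻¹)) := by group

/-- The elements with tables in the list `oiAL` lie in the normal subgroup. -/
theorem oiA_mem {a : List ℕ} (ha : a ∈ oiAL) : ∃ α ∈ oiQ, α ∈ stabM oiInv ∧ IsTable α a := by
  have hok := List.all_eq_true.mp oiAL_ok a ha
  rw [Bool.and_eq_true] at hok
  obtain ⟨α, hα, hαa⟩ := tabIn_spec hok.1
  refine ⟨α, mem_oiQ.mpr ⟨oiS_le_oiC hα, fun v hv => ?_⟩, hα, hαa⟩
  obtain ⟨t, ht, hvt⟩ := oiE_table hv
  exact of_oiQT hαa hvt oiz_tab (List.all_eq_true.mp hok.2 t ht)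

theorem oiEG_mem {t : List ℕ} (ht : t ∈ oiEG) : ∃ v ∈ fixer (setOf o0), IsTable v t := by
  obtain ⟨v, hv, hvt⟩ := tabIn_spec (List.all_eq_true.mp oiEG_ok t ht)
  rw [← fixer_o0_eq] at hv
  exact ⟨v, hv, hvt⟩

theorem oiQ_decomp {g : Equiv.Perm GolayPt} (hg : g ∈ oiQ) :
    ∃ e ∈ fixer (setOf o0), ∃ s ∈ stabM oiInv, s ∈ oiQ ∧ g = e * s ∧
      ∃ a ∈ oiAL, IsTable s a := by
  obtain ⟨e, he, hs⟩ := oiC_decomp (oiQ_le_oiC hg)
  have hsQ : e⁻¹ * g ∈ oiQ := oiQ.mul_mem (oiQ.inv_mem (fixer_le_oiQ he)) hg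
  refine ⟨e, he, e⁻¹ * g, hs, hsQ, by group, ?_⟩
  obtain ⟨l, hl, hQ⟩ := oiS_table hs
  unfold oiQS at hQ
  simp only [Bool.and_eq_true] at hQ
  have h2 := hQ.1.1.2
  rw [Bool.or_eq_true] at h2
  rcases h2 with h2 | h2
  · exfalso
    rw [Bool.not_eq_true', ← Bool.not_eq_true] at h2
    apply h2
    rw [List.all_eq_true]
    intro t ht
    obtain ⟨v, hv, hvt⟩ := oiEG_mem ht
    exact oiQT_of hl hvt oiz_tab ((mem_oiQ.mp hsQ).2 v hv)
  · exact exists_of_memT hl h2

theorem oiQ_table {g : Equiv.Perm GolayPt} (hg : g ∈ oiQ) : ∃ l ∈ oiQL, IsTable g l := by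
  obtain ⟨e, he, s, -, -, rfl, a, ha, hsa⟩ := oiQ_decomp hg
  obtain ⟨t, ht, het⟩ := oiE_table he
  have h := List.all_eq_true.mp (List.all_eq_true.mp oiQL_prod t ht) a ha
  exact exists_of_memT (isTable_mulTab het hsa) h

theorem card_oiQ_le : Nat.card oiQ ≤ 128 := by
  have := card_le_of_tables oiQ oiQL (fun g hg => oiQ_table hg)
  rwa [oiQL_length] at this

theorem oiQ_comm {x y : Equiv.Perm GolayPt} (hx : x ∈ oiQ) (hy : y ∈ oiQ) :
    x * y = y * x ∨ x * y = oiz * (y * x) := by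
  obtain ⟨e, he, s, -, hsQ, rfl, a, ha, hsa⟩ := oiQ_decomp hx
  obtain ⟨e', he', s', -, hsQ', rfl, a', ha', hsa'⟩ := oiQ_decomp hy
  have hss : s * s' = s' * s :=
    comm_of_commT hsa hsa' (List.all_eq_true.mp (List.all_eq_true.mp oiAL_comm a ha) a' ha')
  have hee : e * e' = e' * e := fixer_o0_comm he he'
  have hez : e * oiz = oiz * e := fixer_o0_comm he oiz_mem
  have hez' : e' * oiz = oiz * e' := fixer_o0_comm he' oiz_mem
  have h1 : e * s * (e' * s') = e * e' * s * s' ∨ e * s * (e' * s') = oiz * (e * e' * s * s') := by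
    rcases (mem_oiQ.mp hsQ).2 e' he' with h | h
    · left
      calc e * s * (e' * s') = e * (s * e') * s' := by group
        _ = e * (e' * s) * s' := by rw [h]
        _ = e * e' * s * s' := by group
    · right
      calc e * s * (e' * s') = e * (s * e') * s' := by group
        _ = e * (oiz * (e' * s)) * s' := by rw [h]
        _ = (e * oiz) * (e' * s * s') := by group
        _ = (oiz * e) * (e' * s * s') := by rw [hez]
        _ = oiz * (e * e' * s * s') := by group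
  have h2 : e' * s' * (e * s) = e * e' * s * s' ∨ e' * s' * (e * s) = oiz * (e * e' * s * s') := by
    rcases (mem_oiQ.mp hsQ').2 e he with h | h
    · left
      calc e' * s' * (e * s) = e' * (s' * e) * s := by group
        _ = e' * (e * s') * s := by rw [h]
        _ = (e' * e) * (s' * s) := by group
        _ = (e * e') * (s * s') := by rw [hee, hss]
        _ = e * e' * s * s' := by group
    · right
      calc e' * s' * (e * s) = e' * (s' * e) * s := by group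
        _ = e' * (oiz * (e * s')) * s := by rw [h]
        _ = (e' * oiz) * e * (s' * s) := by group
        _ = (oiz * e') * e * (s * s') := by rw [hez', hss]
        _ = oiz * ((e' * e) * (s * s')) := by group
        _ = oiz * ((e * e') * (s * s')) := by rw [hee]
        _ = oiz * (e * e' * s * s') := by group
  rcases h1 with h1 | h1 <;> rcases h2 with h2 | h2
  · left; rw [h1, h2]
  · right; rw [h1, h2, ← mul_assoc, oiz_sq, one_mul]
  · right; rw [h1, h2]
  · left; rw [h1, h2]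

theorem oiQ_nc : ∃ x ∈ oiQ, ∃ y ∈ oiQ, x * y ≠ y * x := by
  have h := oiNC_ok
  simp only [Bool.and_eq_true] at h
  obtain ⟨a, ha, hea⟩ := List.any_eq_true.mp (show oiAL.any (eqT oiNCa) = true from h.1.1)
  obtain ⟨α, hαQ, -, hαa⟩ := oiA_mem ha
  obtain ⟨ε, hε, hεt⟩ := tabIn_spec h.1.2
  rw [← fixer_o0_eq] at hε
  refine ⟨α, hαQ, ε, fixer_le_oiQ hε, fun hcomm => ?_⟩
  have := commT_of_comm (isTable_of_eqT' hαa hea) hεt hcomm
  have h3 := h.2
  rw [this] at h3
  exact absurd h3 (by decide)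

theorem oiQ_cent {g : Equiv.Perm GolayPt} (hgM : g ∈ M24) (hg : ∀ q ∈ oiQ, g * q = q * g) :
    g = 1 ∨ g = oiz := by
  have hgC : g ∈ oiC := mem_oiC.mpr ⟨hgM, hg oiz (fixer_le_oiQ oiz_mem)⟩
  obtain ⟨e, he, hs⟩ := oiC_decomp hgC
  obtain ⟨l, hl, hQ⟩ := oiS_table hs
  unfold oiQS at hQ
  simp only [Bool.and_eq_true] at hQ
  have h1 := hQ.1.1.1
  rw [Bool.or_eq_true] at h1
  have hs1 : e⁻¹ * g = 1 := by
    rcases h1 with h1 | h1
    · exfalso
      rw [Bool.not_eq_true', ← Bool.not_eq_true] at h1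
      apply h1
      rw [List.all_eq_true]
      intro t ht
      obtain ⟨v, hv, hvt⟩ := oiEG_mem ht
      apply commT_of_comm hl hvt
      have e1 := hg v (fixer_le_oiQ hv)
      have e2 : e⁻¹ * v = v * e⁻¹ := fixer_o0_comm ((fixer _).inv_mem he) hv
      calc e⁻¹ * g * v = e⁻¹ * (g * v) := mul_assoc _ _ _
        _ = e⁻¹ * (v * g) := by rw [e1]
        _ = (e⁻¹ * v) * g := (mul_assoc _ _ _).symm
        _ = (v * e⁻¹) * g := by rw [e2]
        _ = v * (e⁻¹ * g) := mul_assoc _ _ _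
    · exact one_of_isTable_idTab (isTable_of_eqT hl h1)
  have hge : g = e := by
    have : g = e * (e⁻¹ * g) := by group
    rw [this, hs1, mul_one]
  subst hge
  obtain ⟨t, ht, hgt⟩ := oiE_table he
  have h2 := List.all_eq_true.mp oiE_cent t ht
  have h3 : oiAL.all (commT t) = true := by
    rw [List.all_eq_true]
    intro a ha
    obtain ⟨α, hαQ, -, hαa⟩ := oiA_mem ha
    exact commT_of_comm hgt hαa (hg α hαQ)
  rw [h3] at h2
  simp only [Bool.not_true, Bool.false_or, Bool.or_eq_true] at h2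
  rcases h2 with h2 | h2
  · left; exact one_of_isTable_idTab (isTable_of_eqT hgt h2)
  · right; exact eq_of_eqT hgt oiz_tab h2

/-! ### The complement -/

theorem oiO1_lt : oiO1 < 2 ^ 24 := by decide

theorem mem_oiK {g : Equiv.Perm GolayPt} :
    g ∈ stabM oiKInv ↔ g ∈ stabM oiInv ∧ g • setOf oiO1 = setOf oiO1 := by
  unfold oiKInv
  rw [mem_stabM_cons]

theorem oiK_le_oiC : stabM oiKInv ≤ oiC := fun _ hg => oiS_le_oiC (mem_oiK.mp hg).1

theorem oiK_table {k : Equiv.Perm GolayPt} (hk : k ∈ stabM oiKInv) : ∃ l ∈ oiKL, IsTable k l := by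
  obtain ⟨hkS, hko⟩ := mem_oiK.mp hk
  obtain ⟨l, hl, hQ⟩ := oiS_table hkS
  unfold oiQS at hQ
  simp only [Bool.and_eq_true] at hQ
  have h4 := hQ.2
  rw [preMask_eq_of_smul hl oiO1_lt hko] at h4
  simp only [beq_self_eq_true, Bool.not_true, Bool.false_or] at h4
  exact exists_of_memT hl h4

theorem card_oiK_le : Nat.card (stabM oiKInv) ≤ 168 := by
  have := card_le_of_tables (stabM oiKInv) oiKL (fun g hg => oiK_table hg)
  rwa [oiKL_length] at this

theorem oiQ_inf_oiK {x : Equiv.Perm GolayPt} (hx : x ∈ oiQ) (hxK : x ∈ stabM oiKInv) : x = 1 := by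
  obtain ⟨l, hl, hxl⟩ := oiQ_table hx
  obtain ⟨hxS, hxo⟩ := mem_oiK.mp hxK
  have h := List.all_eq_true.mp oiQL_K l hl
  have h5 : l.getD 5 0 = 5 := by
    have := getD_of_isTable hxl (i := 5) (by norm_num)
    rw [this, (mem_oiS.mp hxS).2.1, idx_pt (by norm_num)]
  rw [h5, preMask_eq_of_smul hxl oiO1_lt hxo] at h
  simp only [beq_self_eq_true, Bool.and_self, Bool.not_true, Bool.false_or] at h
  exact one_of_isTable_idTab (isTable_of_eqT hxl h)

theorem oiC_fact {c : Equiv.Perm GolayPt} (hc : c ∈ oiC) :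
    ∃ q ∈ oiQ, ∃ k ∈ stabM oiKInv, c = q * k := by
  obtain ⟨e, he, hs⟩ := oiC_decomp hc
  obtain ⟨l, hl, hQ⟩ := oiS_table hs
  unfold oiQS at hQ
  simp only [Bool.and_eq_true] at hQ
  have h3 := List.contains_iff_mem.mp hQ.1.2
  rw [oiAN_ok, List.mem_map] at h3
  obtain ⟨a, ha, hal⟩ := h3
  obtain ⟨α, hαQ, hαS, hαa⟩ := oiA_mem ha
  -- k = s * α⁻¹ stabilises the octad
  have hk : e⁻¹ * c * α⁻¹ ∈ stabM oiKInv := by
    refine mem_oiK.mpr ⟨(stabM oiInv).mul_mem hs ((stabM oiInv).inv_mem hαS), ?_⟩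
    rw [mul_smul, inv_smul_setOf hαa, hal, ← inv_smul_setOf hl, smul_inv_smul]
  refine ⟨e * (e⁻¹ * c * α⁻¹ * α * (e⁻¹ * c * α⁻¹)⁻¹), ?_, e⁻¹ * c * α⁻¹, hk, by group⟩
  exact oiQ.mul_mem (fixer_le_oiQ he) (oiQ_conj (oiK_le_oiC hk) hαQ)

theorem card_oiQ_oiK : Nat.card oiQ = 128 ∧ Nat.card (stabM oiKInv) = 168 := by
  have hbij : Function.Bijective (fun x : ↥oiQ × ↥(stabM oiKInv) =>
      (⟨x.1.1 * x.2.1, oiC.mul_mem (oiQ_le_oiC x.1.2) (oiK_le_oiC x.2.2)⟩ : ↥oiC)) := by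
    constructor
    · rintro ⟨⟨q, hq⟩, ⟨k, hk⟩⟩ ⟨⟨q', hq'⟩, ⟨k', hk'⟩⟩ heq
      have h1 : q * k = q' * k' := congrArg Subtype.val heq
      have h2 : q'⁻¹ * q = k' * k⁻¹ := by
        have : q'⁻¹ * q = q'⁻¹ * (q * k) * k⁻¹ := by group
        rw [this, h1]; group
      have h3 : q'⁻¹ * q = 1 :=
        oiQ_inf_oiK (oiQ.mul_mem (oiQ.inv_mem hq') hq)
          (h2 ▸ (stabM oiKInv).mul_mem hk' ((stabM oiKInv).inv_mem hk))
      have h4 : q = q' := by
        have : q = q' * (q'⁻¹ * q) := by group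
        rw [this, h3, mul_one]
      subst h4
      have h5 : k = k' := mul_left_cancel h1
      subst h5
      rfl
    · rintro ⟨c, hc⟩
      obtain ⟨q, hq, k, hk, rfl⟩ := oiC_fact hc
      exact ⟨⟨⟨q, hq⟩, ⟨k, hk⟩⟩, rfl⟩
  have h1 := Nat.card_congr (Equiv.ofBijective _ hbij)
  rw [Nat.card_prod, card_oiC] at h1
  have h2 := card_oiQ_le
  have h3 := card_oiK_le
  constructor
  · by_contra hne
    have h4 : Nat.card oiQ ≤ 127 := by omega
    have h5 := Nat.mul_le_mul h4 h3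
    omega
  · by_contra hne
    have h4 : Nat.card (stabM oiKInv) ≤ 167 := by omega
    have h5 := Nat.mul_le_mul h2 h4
    omega

theorem oiK_two {k : Equiv.Perm GolayPt} (hk : k ∈ stabM oiKInv) (hk1 : k ≠ 1) :
    ∃ g ∈ stabM oiKInv, k * (g * k * g⁻¹) ≠ 1 ∧
      ((k * (g * k * g⁻¹)) ^ 3 = 1 ∨ (k * (g * k * g⁻¹)) ^ 7 = 1) := by
  obtain ⟨l, hl, hkl⟩ := oiK_table hk
  unfold oiKL at hl
  rw [List.mem_map] at hl
  obtain ⟨w, hw, rfl⟩ := hl
  have hok := List.all_eq_true.mp oiKW_ok w hw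
  unfold oiKWok at hok
  rw [Bool.or_eq_true] at hok
  rcases hok with hok | hok
  · exact absurd (one_of_isTable_idTab (isTable_of_eqT hkl hok)) hk1
  · simp only [Bool.and_eq_true] at hok
    obtain ⟨⟨⟨hg1, hg2⟩, hg3⟩, hg4⟩ := hok
    unfold memT at hg1
    obtain ⟨g', hg', heg⟩ := List.any_eq_true.mp hg1
    obtain ⟨γ, hγ, hγt⟩ := tabIn_spec (List.all_eq_true.mp oiKG_ok g' hg')
    have hγt' : IsTable γ w.2.1 := isTable_of_eqT' hγt heg
    have hct : IsTable (γ * k * γ⁻¹) w.2.2 := isTable_conj hγt' hkl hg2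
    have hc : IsTable (k * (γ * k * γ⁻¹)) (mulTab w.1 w.2.2) := isTable_mulTab hkl hct
    refine ⟨γ, hγ, fun h1 => ?_, ?_⟩
    · rw [h1] at hc
      have := eqT_of_isTable hc isTable_one
      rw [this] at hg3
      exact absurd hg3 (by decide)
    · rw [Bool.or_eq_true] at hg4
      rcases hg4 with h | h
      · left
        exact one_of_isTable_idTab (isTable_of_eqT (isTable_powTab hc 3) h)
      · right
        exact one_of_isTable_idTab (isTable_of_eqT (isTable_powTab hc 7) h)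

/-! ### The complement is `SL₃(2)` -/

theorem mem_oiH {g : Equiv.Perm GolayPt} :
    g ∈ stabM oiHInv ↔ g ∈ fixer (setOf o0) ∧ g • setOf oiO1 = setOf oiO1 := by
  unfold oiHInv
  rw [mem_stabM_cons, fixer_o0_eq]

theorem oiH_prod : chainProd [(5, oiO1, oiHL)] = 8 := by decide +kernel

theorem card_oiH : Nat.card (stabM oiHInv) = 8 := by
  have h := card_stabM_chain [(5, oiO1, oiHL)] oiHInv oiH_ok
  have hbot : stabM (chainInv oiHInv [(5, oiO1, oiHL)]) = ⊥ := by
    rw [eq_bot_iff]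
    intro g hg
    have hg' : g ∈ stabM (2 ^ 5 :: oiHInv) := hg
    rw [mem_stabM_cons_pt (by norm_num)] at hg'
    obtain ⟨hg1, h5⟩ := hg'
    rw [Subgroup.mem_bot]
    exact fixer_o0_pt5 (mem_oiH.mp hg1).1 h5
  rw [hbot, Subgroup.card_bot, mul_one, oiH_prod] at h
  exact h

theorem oiK_norm : stabM oiKInv ≤ Subgroup.normalizer
    ((stabM oiHInv : Subgroup (Equiv.Perm GolayPt)) : Set (Equiv.Perm GolayPt)) := by
  have key : ∀ k ∈ stabM oiKInv, ∀ n ∈ stabM oiHInv, k * n * k⁻¹ ∈ stabM oiHInv := by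
    intro k hk n hn
    obtain ⟨hkS, hko⟩ := mem_oiK.mp hk
    obtain ⟨hn1, hn2⟩ := mem_oiH.mp hn
    have hkC := oiS_le_oiC hkS
    refine mem_oiH.mpr ⟨fixer_conj_mem (mem_oiC.mp hkC).1 (oiC_smul hkC) hn1, ?_⟩
    rw [mul_smul, mul_smul, inv_smul_eq_iff.mpr hko.symm, hn2, hko]
  intro k hk
  rw [Subgroup.mem_normalizer_iff]
  intro n
  constructor
  · exact key k hk n
  · intro h
    have := key k⁻¹ ((stabM oiKInv).inv_mem hk) _ h
    have e : k⁻¹ * (k * n * k⁻¹) * k⁻¹⁻¹ = n := by group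
    rwa [e] at this

theorem oiK_iso : Nonempty (↥(stabM oiKInv) ≃* Matrix.SpecialLinearGroup (Fin 3) (ZMod 2)) := by
  haveI : Fact (Nat.Prime 2) := ⟨Nat.prime_two⟩
  obtain ⟨ρ, hρ⟩ := Crit.exists_hom_GL_of_normalizer (stabM oiHInv) (stabM oiKInv) oiK_norm 2 3
    (by rw [card_oiH]; norm_num)
    (fun x hx => by rw [pow_two]; exact sq_eq_one_of_mem_fixer_o0 (mem_oiH.mp hx).1)
    (fun x hx y hy => fixer_o0_comm (mem_oiH.mp hx).1 (mem_oiH.mp hy).1)
  have hinj : Function.Injective ρ := by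
    rw [injective_iff_map_eq_one]
    intro c hc
    have hcomm := (hρ c).mp hc
    obtain ⟨l, hl, hcl⟩ := oiK_table c.2
    have h1 := List.all_eq_true.mp oiKL_cent l hl
    have h2 : oiHG.all (commT l) = true := by
      rw [List.all_eq_true]
      intro t ht
      obtain ⟨η, hη, hηt⟩ := tabIn_spec (List.all_eq_true.mp oiHG_ok t ht)
      exact commT_of_comm hcl hηt (hcomm η hη)
    rw [h2] at h1
    simp only [Bool.not_true, Bool.false_or] at h1
    exact Subtype.ext (one_of_isTable_idTab (isTable_of_eqT hcl h1))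
  have hbij : Function.Bijective ρ := hinj.bijective_of_nat_card_le (by
    rw [Crit.card_GL32, card_oiQ_oiK.2])
  obtain ⟨e⟩ := Crit.gl_equiv_sl
  exact ⟨(MulEquiv.ofBijective ρ hbij).trans e⟩

/-! ### The hypotheses of the criterion, and conjugacy -/

theorem pt8_not_mem : pt 8 ∉ setOf o0 := by
  rw [mem_setOf, idx_pt (by norm_num)]
  decide

theorem oi_les : Crit.LES (⟨oiz, oiz_M24⟩ : ↥M24) (oiQ.subgroupOf M24)
    ((stabM oiKInv).subgroupOf M24) ((fixer (setOf o0)).subgroupOf M24) := by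
  have hmem : ∀ (H : Subgroup (Equiv.Perm GolayPt)) (x : ↥M24),
      x ∈ H.subgroupOf M24 ↔ (x : Equiv.Perm GolayPt) ∈ H := fun H x => Subgroup.mem_subgroupOf
  have hfM : fixer (setOf o0) ≤ M24 := fun g hg => (mem_fixer.mp hg).1
  refine ⟨?_, ?_, ?_, ?_, ?_, ?_, ?_, ?_, ?_, ?_, ?_, ?_, ?_, ?_, ?_, ?_, ?_, ?_, ?_, ?_⟩
  · exact fun h => oiz_ne_one (congrArg Subtype.val h)
  · exact Subtype.ext oiz_sq
  · exact (hmem _ _).mpr oiz_mem
  · exact fun q hq => Subtype.ext (mem_oiC.mp (oiQ_le_oiC ((hmem _ _).mp hq))).2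
  · intro c hc q hq
    rw [hmem]
    exact oiQ_conj (mem_oiC.mpr ⟨c.2, congrArg Subtype.val hc⟩) ((hmem _ _).mp hq)
  · rw [Nat.card_congr (Subgroup.subgroupOfEquivOfLe oiQ_le_M24).toEquiv]
    exact card_oiQ_oiK.1
  · intro x hx y hy
    rcases oiQ_comm ((hmem _ _).mp hx) ((hmem _ _).mp hy) with h | h
    · left; exact Subtype.ext h
    · right; exact Subtype.ext h
  · obtain ⟨x, hx, y, hy, hne⟩ := oiQ_nc
    exact ⟨⟨x, oiQ_le_M24 hx⟩, (hmem _ _).mpr hx, ⟨y, oiQ_le_M24 hy⟩, (hmem _ _).mpr hy,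
      fun h => hne (congrArg Subtype.val h)⟩
  · intro g hg
    rcases oiQ_cent g.2 (fun q hq =>
      congrArg Subtype.val (hg ⟨q, oiQ_le_M24 hq⟩ ((hmem _ _).mpr hq))) with h | h
    · left; exact Subtype.ext h
    · right; exact Subtype.ext h
  · intro e he
    exact (hmem _ _).mpr (fixer_le_oiQ ((hmem _ _).mp he))
  · rw [Nat.card_congr (Subgroup.subgroupOfEquivOfLe hfM).toEquiv]
    exact (octad_pointwise_stabilizer setOf_o0_mem_octads).1
  · intro x hx y hy
    exact Subtype.ext (fixer_o0_comm ((hmem _ _).mp hx) ((hmem _ _).mp hy))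
  · intro x hx
    exact Subtype.ext (sq_eq_one_of_mem_fixer_o0 ((hmem _ _).mp hx))
  · obtain ⟨t, ht, ht8⟩ := fixer_o0_trans (pt 8) pt8_not_mem
    refine ⟨⟨t, hfM ht⟩, (hmem _ _).mpr ht, fun h => ?_, fun h => ?_⟩
    · have h1 : t = 1 := congrArg Subtype.val h
      rw [h1] at ht8
      exact pt_ne (i := 5) (j := 8) (by norm_num) (by norm_num) (by norm_num) ht8
    · have h1 : t = oiz := congrArg Subtype.val h
      rw [h1, oiz_5] at ht8
      exact pt_ne (i := 6) (j := 8) (by norm_num) (by norm_num) (by norm_num) ht8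
  · intro k t ht ht1 hkt e he
    rw [hmem]
    have hko := smul_o0_of_comm ((hmem _ _).mp ht) (fun h => ht1 (Subtype.ext h))
      (congrArg Subtype.val hkt)
    exact fixer_conj_mem k.2 hko ((hmem _ _).mp he)
  · intro k hk
    exact Subtype.ext (mem_oiC.mp (oiK_le_oiC ((hmem _ _).mp hk))).2
  · intro x hx hxK
    exact Subtype.ext (oiQ_inf_oiK ((hmem _ _).mp hx) ((hmem _ _).mp hxK))
  · intro c hc
    obtain ⟨q, hq, k, hk, hck⟩ := oiC_fact (mem_oiC.mpr ⟨c.2, congrArg Subtype.val hc⟩)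
    exact ⟨⟨q, oiQ_le_M24 hq⟩, (hmem _ _).mpr hq, ⟨k, stabM_le_M24 _ hk⟩, (hmem _ _).mpr hk,
      Subtype.ext hck⟩
  · intro k hk hk1
    obtain ⟨g, hg, h1, h2⟩ := oiK_two ((hmem _ _).mp hk) (fun h => hk1 (Subtype.ext h))
    refine ⟨⟨g, stabM_le_M24 _ hg⟩, (hmem _ _).mpr hg, fun h => h1 (congrArg Subtype.val h), ?_⟩
    rcases h2 with h2 | h2
    · left
      apply Subtype.ext
      rw [Subgroup.coe_pow]
      exact h2
    · right
      apply Subtype.ext
      rw [Subgroup.coe_pow]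
      exact h2
  · obtain ⟨e⟩ := oiK_iso
    exact ⟨(Subgroup.subgroupOfEquivOfLe (stabM_le_M24 oiKInv)).trans e⟩

theorem exists_conj_oiz {z : Equiv.Perm GolayPt} (hzM : z ∈ M24) (hz1 : z ≠ 1)
    (O : Finset GolayPt) (hO : O ∈ octads) (hfix : ∀ p, p ∈ O ↔ z p = p) :
    ∃ a ∈ M24, a * z * a⁻¹ = oiz := by
  obtain ⟨a, ha, hao⟩ := exists_smul_o0_eq hO
  have hz1' : a⁻¹ * z * a ∈ fixer (setOf o0) := by
    apply (mem_fixer_smul_iff ha (setOf o0) z).mp
    rw [mem_fixer, hao]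
    exact ⟨hzM, fun p hp => (hfix p).mp hp⟩
  obtain ⟨t, ht, hzt⟩ := oiE_table hz1'
  have h := List.all_eq_true.mp oiCW_ok t ht
  rw [Bool.or_eq_true] at h
  rcases h with h | h
  · exfalso
    apply hz1
    have h1 := one_of_isTable_idTab (isTable_of_eqT hzt h)
    have : z = a * (a⁻¹ * z * a) * a⁻¹ := by group
    rw [this, h1]; group
  · obtain ⟨m, hm, hmok⟩ := List.any_eq_true.mp h
    rw [Bool.and_eq_true] at hmok
    obtain ⟨μ, hμ, hμm⟩ := tabIn_spec hmok.1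
    have h2 : μ * (a⁻¹ * z * a) = oiz * μ :=
      eq_of_eqT (isTable_mulTab hμm hzt) (isTable_mulTab oiz_tab hμm) hmok.2
    refine ⟨μ * a⁻¹, M24.mul_mem (stabM_le_M24 _ hμ) (M24.inv_mem ha), ?_⟩
    have : μ * a⁻¹ * z * (μ * a⁻¹)⁻¹ = (μ * (a⁻¹ * z * a)) * μ⁻¹ := by group
    rw [this, h2]; group

/-- S5425. -/
theorem oct_involution_structure (z : ↥M24) (hz : orderOf z = 2)
    (hfix : (Finset.univ.filter fun p : GolayPt => (z : Equiv.Perm GolayPt) p = p) ∈ octads)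
    (Q : Subgroup ↥M24)
    (hQ : Q = (pCore 2 ↥(Subgroup.centralizer ({z} : Set ↥M24))).map
      (Subgroup.centralizer ({z} : Set ↥M24)).subtype) :
    IsExtraspecial 2 ↥Q ∧ Nat.card ↥Q = 2 ^ 7 ∧
      (∃ E : Subgroup ↥M24, E ≤ Q ∧ IsElementaryAbelian 2 E ∧ Nat.card ↥E = 2 ^ 4) ∧
      IsLargeExtraspecial Q ∧
      ∃ K : Subgroup ↥M24, K ≤ Subgroup.centralizer ({z} : Set ↥M24) ∧ Q ⊓ K = ⊥ ∧
        Q ⊔ K = Subgroup.centralizer ({z} : Set ↥M24) ∧
        Nonempty (↥K ≃* Matrix.SpecialLinearGroup (Fin 3) (ZMod 2)) := by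
  have hz1 : (z : Equiv.Perm GolayPt) ≠ 1 := by
    intro h
    have h1 : z = 1 := Subtype.ext h
    rw [h1, orderOf_one] at hz
    norm_num at hz
  obtain ⟨a, ha, haz⟩ := exists_conj_oiz z.2 hz1 _ hfix (fun p => by simp)
  have h0 : (MulAut.conj (⟨a, ha⟩ : ↥M24)) z = ⟨oiz, oiz_M24⟩ := by
    rw [MulAut.conj_apply]
    exact Subtype.ext haz
  have h1 := Crit.LES.comap (MulAut.conj (⟨a, ha⟩ : ↥M24)) (z := z) (by
    rw [h0]; exact oi_les)
  exact h1.main Q hQ

end Cfsg.Agent.Lib.helper28
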