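import Cfsg.Agent.Lib.helper28.GolayQuart

set_option autoImplicit false

namespace Cfsg.Agent.Lib.helper28

open Cfsg
open scoped Pointwise

/-! Quartets of a dodecad: counting and the orbits of the quartet stabiliser. -/

def qsGens : List (List ℕ × ℕ) :=
  [([9, 13, 8, 2, 0, 11, 12, 7, 16, 18, 17, 21, 1, 6, 23, 14, 4, 10, 3, 19, 15, 20, 5, 22], 0xa84a00a84800a04a00a04800884a00884800804a00804800a84200a84000a04200a04000884200884000804200804000284a00284800204a00204800084a00084800004a00004800284200284000204200204000084200084000004200004000a80a00a80800a00a00a00800880a00880800800a00800800a80200a80000a00200a00000880200880000800200800000280a00280800200a00200800080a00080800000a000008002802002800002002002000000802000800000002000000001085421085021085401085001005421005021005401005000085420085020085400085000005420005020005400005001084421084021084401084001004421004021004401004000084420084020084400084000004420004020004400004001081421081021081401081001001421001021001401001000081420081020081400081000001420001020001400001001080421080021080401080001000421000021000401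000000080420080020080400080000000420000020000400000000220a50200a50220250200250220a10200a10220210200210220a40200a40220240200240220a00200a00220200200200020a50000a50020250000250020a10000a10020210000210020a40000a40020240000240020a00000a0002020000020022085020085022005020005022081020081022001020001022084020084022004020004022080020080022000020000002085000085002005000005002081000081002001000001002084000084002004000004002080000080002000000000451018451008450018450008451010451000450010450000411018411008410018410008411010411000410010410000441018441008440018440008441010441000440010440000401018401008400018400008401010401000400010400000051018051008050018050008051010051000050010050000011018011008010018010008011010011000010010010000041018041008040018040008041010041000040010040000001018001008000018000008001010001000000010000000),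
   ([16, 18, 6, 3, 12, 14, 9, 17, 0, 2, 7, 19, 4, 1, 5, 22, 13, 10, 8, 15, 11, 20, 21, 23], 0xe08802e08800e08002e08000c08802c08800c08002c08000a08802a08800a08002a08000808802808800808002808000e00802e00800e00002e00000c00802c00800c00002c00000a00802a00800a00002a000008008028008008000028000006088026088006080026080004088024088004080024080002088022088002080022080000088020088000080020080006008026008006000026000004008024008004000024000002008022008002000022000000008020008000000020000000900b10900a10800b10800a10900910900810800910800810100b10100a10000b10000a10100910100810000910000810900b00900a00800b00800a00900900900800800900800800100b00100a00000b00000a0010090010080000090000080090031090021080031080021090011090001080011080001010031010021000031000021010011010001000011000001090030090020080030080020090010090000080010080000010030010020000030000020010010010000000010000000160444160440160044160040120444120440120044120040160404160400160004160000120404120400120004120000140444140440140044140040100444100440100044100040140404140400140004140000100404100400100004100000060444060440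060044060040020444020440020044020040060404060400060004060000020404020400020004020000040444040440040044040040000444000440000044000040040404040400040004040000000404000400000004000000007308007208005308005208007108007008005108005008007300007200005300005200007100007000005100005000006308006208004308004208006108006008004108004008006300006200004300004200006100006000004100004000003308003208001308001208003108003008001108001008003300003200001300001200003100003000001100001000002308002208000308000208002108002008000108000008002300002200000300000200002100002000000100000000)]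

theorem qsGens_ok : structOK2 d0 qRef qsGens = true := by decide +kernel

/-- The standard dodecad with the reference quartet. -/
def qA : Finset GolayPt × Finset (Finset GolayPt) := (setOf d0, fam qRef)

theorem gensIn_qs : GensIn (stabQ qA) qsGens := gensIn_struct2 qsGens_ok

theorem gensIn_m12 : GensIn (stabQ (setOf d0)) m12Gens :=
  (gensIn_stabM m12Gens_ok).mono (by
    intro g hg
    rw [mem_stabQ]
    exact ⟨hg.1, hg.2 d0 (by simp)⟩)

theorem quartCert :
    countDC (fun i => (orbitFam m12Gens 16379 4 225 (packL qRef)).testBit i) 14 0 = 220 := by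
  decide +kernel

theorem flagCert :
    countDC (fun i => (orbitFam qsGens 16165 5 437 (packL [1, 3, 7, 15, 31])).testBit i) 14 0
      = 432 := by
  decide +kernel

theorem quart_low :
    220 ≤ (MulAction.orbit ↥(MulAction.stabilizer M24 (setOf d0)) (fam qRef)).ncard :=
  fam_low (setOf d0) gensIn_m12 (quartOK_lt qRef_ok) (by decide) (by rfl) quartCert

theorem flag_low :
    432 ≤ (MulAction.orbit ↥(MulAction.stabilizer M24 qA) (fam [1, 3, 7, 15, 31])).ncard :=
  fam_low qA gensIn_qs (by decide) (by decide) (by rfl) flagCert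

theorem quart_orbit_card :
    (MulAction.orbit ↥(MulAction.stabilizer M24 (setOf d0)) (fam qRef)).ncard = 220 := by
  have h1 := card_stab_eq_orbit_mul' (G := M24) (setOf d0) (fam qRef)
  rw [card_stabilizer_dodecad setOf_d0_mem_dodecads, ← stabilizer_prod] at h1
  have h2 := card_stab_eq_orbit_mul' (G := M24) ((setOf d0, fam qRef) :
    Finset GolayPt × Finset (Finset GolayPt)) (fam [1, 3, 7, 15, 31])
  have h3 : 0 < Nat.card ↥(MulAction.stabilizer M24 ((setOf d0, fam qRef) :
      Finset GolayPt × Finset (Finset GolayPt)) ⊓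
      MulAction.stabilizer M24 (fam [1, 3, 7, 15, 31])) := Nat.card_pos
  have h4 : 432 ≤ Nat.card ↥(MulAction.stabilizer M24 ((setOf d0, fam qRef) :
      Finset GolayPt × Finset (Finset GolayPt))) := by
    rw [h2]
    calc 432 ≤ _ := flag_low
      _ ≤ _ := Nat.le_mul_of_pos_right _ h3
  have h5 := quart_low
  generalize (MulAction.orbit ↥(MulAction.stabilizer M24 (setOf d0)) (fam qRef)).ncard = N
    at h1 h5 ⊢
  generalize Nat.card ↥(MulAction.stabilizer M24 ((setOf d0, fam qRef) :
      Finset GolayPt × Finset (Finset GolayPt))) = K at h1 h4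
  by_contra hne
  have h6 : 221 ≤ N := by omega
  have h7 : 221 * 432 ≤ N * K := Nat.mul_le_mul h6 h4
  omega

theorem quartets_d0_eq :
    quartets (setOf d0) = MulAction.orbit ↥(MulAction.stabilizer M24 (setOf d0)) (fam qRef) := by
  ext Q
  rw [mem_orbit_stab_iff]
  constructor
  · intro hQ
    obtain ⟨g, hg, hgd, hgQ⟩ := quartet_eq_smul hQ
    exact ⟨g, mem_stabQ.mpr ⟨hg, hgd⟩, hgQ⟩
  · rintro ⟨g, hg, rfl⟩
    rw [mem_stabQ] at hg
    have := smul_mem_quartets hg.1 qRef_mem
    rwa [hg.2] at this

theorem ncard_quartets_d0 : (quartets (setOf d0)).ncard = 220 := by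
  rw [quartets_d0_eq, quart_orbit_card]

theorem quartets_smul {a : Equiv.Perm GolayPt} (ha : a ∈ M24) (d : Finset GolayPt) :
    quartets (a • d) = (fun Q => a • Q) '' quartets d := by
  ext Q
  rw [Set.mem_image]
  constructor
  · intro hQ
    exact ⟨a⁻¹ • Q, (smul_mem_quartets_iff ha).mpr hQ, smul_inv_smul a Q⟩
  · rintro ⟨Q', hQ', rfl⟩
    exact smul_mem_quartets ha hQ'

/-- S1597. -/
theorem quartets_count_transitive (d : Finset GolayPt) (hd : d ∈ dodecads) :
    (quartets d).ncard = 220 ∧ ∀ Q ∈ quartets d, ∀ Q' ∈ quartets d,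
      ∃ g : Equiv.Perm GolayPt, g ∈ M24 ∧ g • d = d ∧ g • Q = Q' := by
  obtain ⟨a, ha, rfl⟩ := exists_smul_d0_eq hd
  refine ⟨?_, ?_⟩
  · rw [quartets_smul ha, Set.ncard_image_of_injective _ (MulAction.injective a),
      ncard_quartets_d0]
  · intro Q hQ Q' hQ'
    obtain ⟨g1, hg1, hg1d, hg1Q⟩ := quartet_eq_smul ((smul_mem_quartets_iff ha).mpr hQ)
    obtain ⟨g2, hg2, hg2d, hg2Q⟩ := quartet_eq_smul ((smul_mem_quartets_iff ha).mpr hQ')
    refine ⟨a * g2 * g1⁻¹ * a⁻¹,
      M24.mul_mem (M24.mul_mem (M24.mul_mem ha hg2) (M24.inv_mem hg1)) (M24.inv_mem ha), ?_, ?_⟩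
    · rw [mul_smul, inv_smul_smul, mul_smul, mul_smul, inv_smul_eq_iff.mpr hg1d.symm, hg2d]
    · rw [mul_smul, ← hg1Q, mul_smul, mul_smul, inv_smul_smul, hg2Q, smul_inv_smul]

/-- S1596. -/
theorem quartet_through_pair (d : Finset GolayPt) (hd : d ∈ dodecads) (t u : Finset GolayPt)
    (ht : t.card = 3) (hu : u.card = 3) (htu : Disjoint t u) (hh : t ∪ u ∈ hexadsOn d) :
    ∃! Q : Finset (Finset GolayPt), Q ∈ quartets d ∧ t ∈ Q ∧ u ∈ Q := by
  obtain ⟨g, hg, rfl, rfl, rfl⟩ := exists_map_ref hd ht hu htu hh
  refine ⟨g • fam qRef, ⟨smul_mem_quartets hg qRef_mem, ?_, ?_⟩, ?_⟩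
  · exact Finset.smul_mem_smul_finset ((mem_fam_qRef _).mpr (Or.inl rfl))
  · exact Finset.smul_mem_smul_finset ((mem_fam_qRef _).mpr (Or.inr (Or.inl rfl)))
  · rintro Q' ⟨hQ', h1, h2⟩
    have e := quartet_ref_unique ((smul_mem_quartets_iff hg).mpr hQ')
      (Finset.mem_inv_smul_finset_iff.mpr h1) (Finset.mem_inv_smul_finset_iff.mpr h2)
    rw [← e, smul_inv_smul]

/-! ### Orbits of the quartet stabiliser -/

/-- Representatives of the five orbits. -/
def qReps : Fin 5 → List ℕ :=
  ![[7, 4120, 8960, 327744], [7, 336, 70144, 270344], [11, 4116, 8512, 328192],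
    [11, 4864, 65616, 270340], [11, 580, 77824, 262416]]

theorem qReps_ok : ∀ i, quartOK (qReps i) = true := by decide +kernel

theorem qReps_nodup : ∀ i, (qReps i).Nodup := by decide

theorem qCert0 :
    countDC (fun i => (orbitFam qsGens 16379 4 6 (packL (qReps 0))).testBit i) 14 0 = 1 := by
  decide +kernel

theorem qCert1 :
    countDC (fun i => (orbitFam qsGens 16379 4 17 (packL (qReps 1))).testBit i) 14 0 = 12 := by
  decide +kernel

theorem qCert2 :
    countDC (fun i => (orbitFam qsGens 16379 4 32 (packL (qReps 2))).testBit i) 14 0 = 27 := by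
  decide +kernel

theorem qCert3 :
    countDC (fun i => (orbitFam qsGens 16379 4 77 (packL (qReps 3))).testBit i) 14 0 = 72 := by
  decide +kernel

theorem qCert4 :
    countDC (fun i => (orbitFam qsGens 16379 4 113 (packL (qReps 4))).testBit i) 14 0 = 108 := by
  decide +kernel

theorem qReps_low : ∀ i : Fin 5, ![1, 12, 27, 72, 108] i ≤
    (MulAction.orbit ↥(MulAction.stabilizer M24 qA) (fam (qReps i))).ncard := by
  intro i
  fin_cases i
  · exact fam_low qA gensIn_qs (quartOK_lt (qReps_ok 0)) (qReps_nodup 0) (by rfl) qCert0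
  · exact fam_low qA gensIn_qs (quartOK_lt (qReps_ok 1)) (qReps_nodup 1) (by rfl) qCert1
  · exact fam_low qA gensIn_qs (quartOK_lt (qReps_ok 2)) (qReps_nodup 2) (by rfl) qCert2
  · exact fam_low qA gensIn_qs (quartOK_lt (qReps_ok 3)) (qReps_nodup 3) (by rfl) qCert3
  · exact fam_low qA gensIn_qs (quartOK_lt (qReps_ok 4)) (qReps_nodup 4) (by rfl) qCert4

theorem qReps_inv : ∀ i : Fin 5,
    invPow 4 (fam qRef) (fam (qReps i)) = ![324, 90, 68, 54, 26] i := by
  intro i
  rw [invPow_eval 4 _ _ (quartOK_lt qRef_ok) (quartOK_lt (qReps_ok i)) (by decide)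
    (qReps_nodup i)]
  revert i
  decide +kernel

theorem quartet_orbits {a : Equiv.Perm GolayPt} (ha : a ∈ M24) :
    (∀ i, (MulAction.orbit ↥(MulAction.stabilizer M24 (a • qA)) (a • fam (qReps i))).ncard =
      ![1, 12, 27, 72, 108] i) ∧
    (∀ x, a⁻¹ • x ∈ quartets (setOf d0) ↔
      ∃ i, x ∈ MulAction.orbit ↥(MulAction.stabilizer M24 (a • qA)) (a • fam (qReps i))) := by
  apply struct_orbits_loc ha qA (quartets (setOf d0)) (Set.toFinite _) _
    (fun i => fam (qReps i)) ![1, 12, 27, 72, 108]
    (fun i => quartet_of_masks (qReps_nodup i) (qReps_ok i)) qReps_low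
    (invPow 4 (fam qRef)) _ ![324, 90, 68, 54, 26] qReps_inv (by decide)
  · rw [ncard_quartets_d0]
    rfl
  · intro g hg hgA x hx
    have hgd : g • setOf d0 = setOf d0 := congrArg Prod.fst hgA
    have := smul_mem_quartets hg hx
    rwa [hgd] at this
  · intro g hg hgA x
    have hgQ : g • fam qRef = fam qRef := congrArg Prod.snd hgA
    exact invPow_fix 4 hgQ x

/-- S1599. -/
theorem quartet_stab_suborbits (d : Finset GolayPt) (hd : d ∈ dodecads)
    (Q : Finset (Finset GolayPt)) (hQ : Q ∈ quartets d) :
    ∃ X₁ ∈ quartets d, ∃ X₂ ∈ quartets d, ∃ X₃ ∈ quartets d, ∃ X₄ ∈ quartets d,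
      (MulAction.orbit ↥(MulAction.stabilizer M24 d ⊓ MulAction.stabilizer M24 Q) X₁).ncard = 12 ∧
      (MulAction.orbit ↥(MulAction.stabilizer M24 d ⊓ MulAction.stabilizer M24 Q) X₂).ncard = 27 ∧
      (MulAction.orbit ↥(MulAction.stabilizer M24 d ⊓ MulAction.stabilizer M24 Q) X₃).ncard = 72 ∧
      (MulAction.orbit ↥(MulAction.stabilizer M24 d ⊓ MulAction.stabilizer M24 Q) X₄).ncard = 108 ∧
      quartets d = {Q} ∪
        MulAction.orbit ↥(MulAction.stabilizer M24 d ⊓ MulAction.stabilizer M24 Q) X₁ ∪
        MulAction.orbit ↥(MulAction.stabilizer M24 d ⊓ MulAction.stabilizer M24 Q) X₂ ∪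
        MulAction.orbit ↥(MulAction.stabilizer M24 d ⊓ MulAction.stabilizer M24 Q) X₃ ∪
        MulAction.orbit ↥(MulAction.stabilizer M24 d ⊓ MulAction.stabilizer M24 Q) X₄ := by
  obtain ⟨a1, ha1, rfl⟩ := exists_smul_d0_eq hd
  obtain ⟨g, hg, hgd, hgQ⟩ := quartet_eq_smul ((smul_mem_quartets_iff ha1).mpr hQ)
  have ha : a1 * g ∈ M24 := M24.mul_mem ha1 hg
  have had : (a1 * g) • setOf d0 = a1 • setOf d0 := by rw [mul_smul, hgd]
  have haQ : (a1 * g) • fam qRef = Q := by rw [mul_smul, hgQ, smul_inv_smul]
  have hA : (a1 * g) • qA = (a1 • setOf d0, Q) := by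
    show ((a1 * g) • setOf d0, (a1 * g) • fam qRef) = _
    rw [had, haQ]
  obtain ⟨h2, h3⟩ := quartet_orbits ha
  rw [hA] at h2 h3
  rw [← stabilizer_prod]
  have hmem : ∀ i, (a1 * g) • fam (qReps i) ∈ quartets (a1 • setOf d0) := by
    intro i
    have := smul_mem_quartets ha (quartet_of_masks (qReps_nodup i) (qReps_ok i))
    rwa [had] at this
  have h0 : MulAction.orbit ↥(MulAction.stabilizer M24 ((a1 • setOf d0, Q) :
      Finset GolayPt × Finset (Finset GolayPt))) ((a1 * g) • fam (qReps 0)) = {Q} := by
    have e0 : (a1 * g) • fam (qReps 0) = Q := haQ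
    rw [e0]
    ext x
    rw [mem_orbit_stab_iff, Set.mem_singleton_iff]
    constructor
    · rintro ⟨k, hk, rfl⟩
      exact congrArg Prod.snd (mem_stabQ.mp hk).2
    · rintro rfl
      exact ⟨1, (stabQ _).one_mem, one_smul _ _⟩
  refine ⟨_, hmem 1, _, hmem 2, _, hmem 3, _, hmem 4, h2 1, h2 2, h2 3, h2 4, ?_⟩
  have h3' : ∀ x, x ∈ quartets (a1 • setOf d0) ↔
      ∃ i, x ∈ MulAction.orbit ↥(MulAction.stabilizer M24 ((a1 • setOf d0, Q) :
        Finset GolayPt × Finset (Finset GolayPt))) ((a1 * g) • fam (qReps i)) := by
    intro x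
    rw [← h3 x, smul_mem_quartets_iff ha, had]
  have := union5_of_cover h3'
  rw [← h0]
  exact this

end Cfsg.Agent.Lib.helper28
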