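import Cfsg.Agent.Lib.helper28.GolaySub

set_option autoImplicit false

namespace Cfsg.Agent.Lib.helper28

open Cfsg
open scoped Pointwise

/-! Orbits of the stabiliser of a set of three points on the sets of three points disjoint from
it. -/

def oct21 : List ℕ := [5279, 45159, 140167, 459847, 551943, 622863, 786999, 1065303, 1116327, 2183687, 2263063, 3416079, 4196943, 4505735, 5902343, 6292775, 8536111, 8657159, 9471495, 11010247, 12656663]


theorem oct21_ok : (oct21.all fun o => isOct o) = true := by decide +kernel

theorem oct21_complete : allLt (fun n => !(Nat.beq (pcF (cwF n)) 8 &&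
    Nat.beq (Nat.land 7 (cwF n)) 7) || oct21.contains (cwF n)) 4096 = true := by decide +kernel

/-- Test on the mask of a set of three points: it is disjoint from the points `0, 1, 2`, and
lies in an octad with them (`b = true`) or not (`b = false`). -/
def triQ (b : Bool) (m : ℕ) : Bool :=
  (7 &&& m == 0) && ((oct21.any fun o => (7 ||| m) &&& o == (7 ||| m)) == b)

def triGens : List (List ℕ × ℕ) :=
  [([2, 0, 1, 4, 5, 15, 3, 18, 23, 12, 9, 7, 19, 8, 17, 16, 22, 11, 6, 13, 14, 20, 10, 21], 0xa11180a11100a10180a10100811180811100810180810100211180211100210180210100011180011100010180010100a01180a01100a00180a00100801180801100800180800100201180201100200180200100001180001100000180000100a11080a11000a10080a10000811080811000810080810000211080211000210080210000011080011000010080010000a01080a01000a00080a0000080108080100080008080000020108020100020008020000000108000100000008000000018c22018c02010c22010c02008c22008c02000c22000c02018c20018c00010c20010c00008c20008c00000c20000c000184220184020104220104020084220084020004220004020184200184000104200104000084200084000004200004000188220188020108220108020088220088020008220008020188200188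000108200108000088200088000008200008000180220180020100220100020080220080020000220000020180200180000100200100000080200080000000200000000462c00422c00462400422400460c00420c00460400420400462800422800462000422000460800420800460000420000062c00022c00062400022400060c00020c00060400020400062800022800062000022000060800020800060000020000442c00402c00442400402400440c00400c00440400400400442800402800442000402000440800400800440000400000042c00002c00042400002400040c00000c0004040000040004280000280004200000200004080000080004000000000000005f00005d00005b00005900005e00005c00005a00005800001f00001d00001b00001900001e00001c00001a00001800005700005500005300005100005600005400005200005000001700001500001300001100001600001400001200001000004f00004d00004b00004900004e00004c00004a00004800000f00000d00000b00000900000e00000c00000a000008000047000045000043000041000046000044000042000040000007000005000003000001000006000004000002000000),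
   ([0, 2, 1, 18, 20, 10, 12, 13, 22, 23, 21, 11, 3, 4, 17, 7, 14, 16, 9, 15, 19, 5, 8, 6], 0x1007181007100007180007101007081007000007080007001003181003100003180003101003081003000003080003001006181006100006180006101006081006000006080006001002181002100002180002101002081002000002080002001005181005100005180005101005081005000005080005001001181001100001180001101001081001000001080001001004181004100004180004101004081004000004080004001000181000100000180000101000081000000000080000000b40c00b40800b40400b40000a40c00a40800a40400a40000340c00340800340400340000240c00240800240400240000940c00940800940400940000840c00840800840400840000140c00140800140400140000040c00040800040400040000b00c00b00800b00400b00000a00c00a00800a00400a00000300c00300800300400300000200c00200800200400200000900c00900800900400900000800c00800800800400800000100c00100800100400100000000c0000080000040000000c48820448820c40820440820848820048820840820040820c08820408820c00820400820808820008820800820000820c48800448800c40800440800848800048800840800040800c08800408800c00800400800808800008800800800000800c48020448020c40020440020848020048020840020040020c08020408020c00020400020808020008020800020000020c48000448000c40000440000848000048000840000040000c08000408000c00000400000808000008000800000000000203007203006203003203002203005203004203001203000202007202006202003202002202005202004202001202000201007201006201003201002201005201004201001201000200007200006200003200002200005200004200001200000003007003006003003003002003005003004003001003000002007002006002003002002002005002004002001002000001007001006001003001002001005001004001001001000000007000006000003000002000005000004000001000000)]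

theorem triGens_ok : gensOKF [7] triGens = true := by decide +kernel

theorem tri_count_in : subCount (triQ true) 24 3 0 = 210 := by decide +kernel

theorem tri_orbit_in : forceNat (orbitN triGens (fun m => m) 220 152)
    (fun B => subAll (fun m => !(triQ true m) || B.testBit m) 24 3 0) = true := by decide +kernel

theorem tri_count_out : subCount (triQ false) 24 3 0 = 1120 := by decide +kernel

theorem tri_orbit_out : forceNat (orbitN triGens (fun m => m) 1130 56)
    (fun B => subAll (fun m => !(triQ false m) || B.testBit m) 24 3 0) = true := by decide +kernel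

theorem and_or_absorb (a b : ℕ) : a &&& (a ||| b) = a := by
  apply Nat.eq_of_testBit_eq
  intro i
  rw [Nat.testBit_and, Nat.testBit_or]
  cases a.testBit i <;> simp

theorem setOf7_lt : (7 : ℕ) < 2 ^ 24 := by norm_num

theorem exists_smul_setOf7 {T : Finset GolayPt} (hT : T.card = 3) :
    ∃ a ∈ M24, a • setOf 7 = T := by
  obtain ⟨x, y, z, hxy, hxz, hyz, rfl⟩ := Finset.card_eq_three.mp hT
  obtain ⟨a, ha, hmap⟩ := exists_mem_M24_map_list [pt 0, pt 1, pt 2] [x, y, z] (by decide)
    (by simp [hxy, hxz, hyz]) rfl (by norm_num)
  simp only [List.map_cons, List.map_nil, List.cons.injEq, and_true] at hmap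
  refine ⟨a, ha, ?_⟩
  have h7 : (7 : ℕ) = orList ([0, 1, 2].map fun b => 2 ^ b) := by decide
  rw [h7, smul_setOf_orList a [0, 1, 2] (by decide)]
  simp only [List.map_cons, List.map_nil, List.toFinset_cons, List.toFinset_nil,
    insert_empty_eq]
  rw [hmap.1, hmap.2.1, hmap.2.2]

theorem tri_key {a : Equiv.Perm GolayPt} (ha : a ∈ M24) (b : Bool) (U : Finset GolayPt) :
    (Disjoint (a • setOf 7) (a • U) ∧ ((∃ o ∈ octads, a • setOf 7 ∪ a • U ⊆ o) ↔ b = true)) ↔
      triQ b (maskS U) = true := by
  have h1 : Disjoint (a • setOf 7) (a • U) ↔ (7 &&& maskS U) = 0 := by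
    rw [Finset.disjoint_iff_inter_eq_empty, ← Finset.smul_finset_inter,
      Finset.smul_finset_eq_empty, ← Finset.disjoint_iff_inter_eq_empty, disjoint_iff_mask,
      maskS_setOf setOf7_lt]
  have h2 : (∃ o ∈ octads, a • setOf 7 ∪ a • U ⊆ o) ↔ (∃ o ∈ octads, setOf 7 ∪ U ⊆ o) := by
    rw [← Finset.smul_finset_union]
    constructor
    · rintro ⟨o, ho, hsub⟩
      exact ⟨a⁻¹ • o, smul_mem_octads (M24.inv_mem ha) ho,
        (Finset.smul_finset_subset_iff).mp hsub⟩
    · rintro ⟨o, ho, hsub⟩
      exact ⟨a • o, smul_mem_octads ha ho, Finset.smul_finset_subset_smul_finset hsub⟩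
  have h3 := exists_octad_superset_iff oct21 7 oct21_ok oct21_complete (7 ||| maskS U)
    (and_or_absorb 7 _) (setOf 7 ∪ U) (by rw [maskS_union, maskS_setOf setOf7_lt])
  rw [h1, h2, h3]
  unfold triQ
  rw [Bool.and_eq_true, beq_iff_eq, beq_iff_eq]
  cases b <;> simp

/-- S1562. -/
theorem triad_stabilizer_orbits (T : Finset GolayPt) (hT : T.card = 3) :
    {U : Finset GolayPt | U.card = 3 ∧ Disjoint T U ∧ (∃ o ∈ octads, T ∪ U ⊆ o)}.ncard = 210 ∧
    {U : Finset GolayPt | U.card = 3 ∧ Disjoint T U ∧ ¬ (∃ o ∈ octads, T ∪ U ⊆ o)}.ncard = 1120 ∧
    ∀ U U' : Finset GolayPt, U.card = 3 → U'.card = 3 → Disjoint T U → Disjoint T U' →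
      ((∃ o ∈ octads, T ∪ U ⊆ o) ↔ (∃ o ∈ octads, T ∪ U' ⊆ o)) →
      ∃ g : Equiv.Perm GolayPt, g ∈ M24 ∧ g • T = T ∧ g • U = U' := by
  obtain ⟨a, ha, rfl⟩ := exists_smul_setOf7 hT
  refine ⟨?_, ?_, ?_⟩
  · rw [← tri_count_in]
    apply ncard_sub a 3 (fun U => Disjoint (a • setOf 7) U ∧ (∃ o ∈ octads, a • setOf 7 ∪ U ⊆ o))
    intro U _
    rw [← tri_key ha true U]
    simp
  · rw [← tri_count_out]
    apply ncard_sub a 3
      (fun U => Disjoint (a • setOf 7) U ∧ ¬ (∃ o ∈ octads, a • setOf 7 ∪ U ⊆ o))
    intro U _
    rw [← tri_key ha false U]
    simp
  · intro U U' hU hU' hd hd' hiff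
    have hU0 : a • (a⁻¹ • U) = U := smul_inv_smul a U
    have hU0' : a • (a⁻¹ • U') = U' := smul_inv_smul a U'
    have fin : ∀ g ∈ M24, (∀ m ∈ [7], g • (a • setOf m) = a • setOf m) → g • U = U' →
        ∃ g : Equiv.Perm GolayPt, g ∈ M24 ∧ g • (a • setOf 7) = a • setOf 7 ∧ g • U = U' :=
      fun g hg hinv hgU => ⟨g, hg, hinv 7 (by simp), hgU⟩
    by_cases hin : ∃ o ∈ octads, a • setOf 7 ∪ U ⊆ o
    · have h1 : triQ true (maskS (a⁻¹ • U)) = true := by
        rw [← tri_key ha, hU0]
        exact ⟨hd, by simpa using hin⟩
      have h2 : triQ true (maskS (a⁻¹ • U')) = true := by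
        rw [← tri_key ha, hU0']
        exact ⟨hd', by simpa using hiff.mp hin⟩
      obtain ⟨g, hg, hinv, hgU⟩ := orbit_sub triGens_ok 3 (triQ true) _ _ (by norm_num)
        tri_orbit_in ha hU hU' h1 h2
      exact fin g hg hinv hgU
    · have h1 : triQ false (maskS (a⁻¹ • U)) = true := by
        rw [← tri_key ha, hU0]
        exact ⟨hd, by simpa using hin⟩
      have h2 : triQ false (maskS (a⁻¹ • U')) = true := by
        rw [← tri_key ha, hU0']
        exact ⟨hd', by simpa using fun h => hin (hiff.mpr h)⟩
      obtain ⟨g, hg, hinv, hgU⟩ := orbit_sub triGens_ok 3 (triQ false) _ _ (by norm_num)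
        tri_orbit_out ha hU hU' h1 h2
      exact fin g hg hinv hgU

end Cfsg.Agent.Lib.helper28
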