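import Cfsg.Agent.Lib.helper28.GolayTrio

set_option autoImplicit false

namespace Cfsg.Agent.Lib.helper28

open Cfsg
open scoped Pointwise

/-! The fifteen trios through an octad. -/

/-- An octad disjoint from the base octad. -/
def a0m : ℕ := 1009728

theorem isOct_a0m : isOct a0m = true := by decide +kernel

theorem a0m_lt : a0m < 2 ^ 24 := by decide

def trioGens : List (List ℕ × ℕ) :=
  [([0, 7, 4, 3, 2, 15, 11, 12, 8, 9, 1, 17, 10, 14, 19, 20, 13, 18, 6, 16, 22, 23, 5, 21], 0xb2c000b0c000b28000b08000b24000b04000b20000b0000032c00030c000328000308000324000304000320000300000a2c000a0c000a28000a08000a24000a04000a20000a0000022c00020c00022800020800022400020400022000020000092c00090c00092800090800092400090400092000090000012c00010c00012800010800012400010400012000010000082c00080c00082800080800082400080400082000080000002c00000c0000280000080000240000040000200000000000928a00928200828a00828200908a00908200808a00808200928800928000828800828000908800908000808800808000128a00128200028a00028200108a0010820000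8a00008200128800128000028800028000108800108000008800008000920a00920200820a00820200900a00900200800a00800200920800920000820800820000900800900000800800800000120a00120200020a00020200100a00100200000a000002001208001200000208000200001008001000000008000000004134200134204134000134004124200124204124000124004114200114204114000114004104200104204104000104004034200034204034000034004024200024204024000024004014200014204014000014004004200004204004000004004130200130204130000130004120200120204120000120004110200110204110000110004100200100204100000100004030200030204030000030004020200020204020000020004010200010204010000010004000200000204000000000040041d40041c40001d40001c40040d40040c40000d40000c40041540041440001540001440040540040440000540000440041940041840001940001840040940040840000940000840041140041040001140001040040140040040000140000000041d00041c00001d00001c00040d00040c00000d00000c000415000414000015000014000405000404000005000004000419000418000019000018000409000408000009000008000411000410000011000010000401000400000001000000),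
   ([4, 7, 10, 0, 12, 23, 16, 3, 15, 5, 2, 18, 1, 6, 19, 20, 11, 13, 17, 14, 8, 21, 22, 9], 0x60c82060c02060882060802060482060402060082060002040c82040c02040882040802040482040402040082040002020c82020c02020882020802020482020402020082020002000c82000c02000882000802000482000402000082000002060c80060c00060880060800060480060400060080060000040c80040c00040880040800040480040400040080040000020c80020c00020880020800020480020400020080020000000c80000c0000088000080000048000040000008000000000e01500e01400c01500c01400601500601400401500401400e00500e00400c00500c00400600500600400400500400400e01100e01000c01100c01000601100601000401100401000e00100e00000c00100c00000600100600000400100400000a01500a01400801500801400201500201400001500001400a00500a00400800500800400200500200400000500000400a01100a01000801100801000201100201000001100001000a00100a0000080010080000020010020000000010000000912006910006912004910004812006810006812004810004112006110006112004110004012006010006012004010004912002910002912000910000812002810002812000810000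112002110002112000110000012002010002012000010000902006900006902004900004802006800006802004800004102006100006102004100004002006000006002004000004902002900002902000900000802002800002802000800000102002100002102000100000002002000002002000000000001689001681000689000681001289001281000289000281001609001601000609000601001209001201000209000201001688001680000688000680001288001280000288000280001608001600000608000600001208001200000208000200001489001481000489000481001089001081000089000081001409001401000409000401001009001001000009000001001488001480000488000480001088001080000088000080001408001400000408000400001008001000000008000000)]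

theorem trioGens_ok : gensOKF [o0, a0m] trioGens = true := by decide +kernel

theorem trio_count_k4 : countLt (fun n => profF [(16777215, 8), (o0, 0), (a0m, 4)] (cwF n)) 4096 = 28 := by decide +kernel

theorem trio_orbit_k4 : profOrbitOK trioGens 38 1256224 [(16777215, 8), (o0, 0), (a0m, 4)] = true := by decide +kernel

set_option linter.constructorNameAsVariable false in
theorem ncard_trios_through {o : Finset GolayPt} (ho : o ∈ octads) :
    {T : Finset (Finset GolayPt) | T ∈ trios ∧ o ∈ T}.ncard = 15 := by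
  classical
  have hmem : ∀ x : Finset GolayPt, x ∈ octadFinset.filter (fun x => Disjoint o x) ↔
      x ∈ octads ∧ Disjoint o x := by
    intro x
    rw [Finset.mem_filter, mem_octadFinset]
  have hmemX : ∀ T : Finset (Finset GolayPt),
      T ∈ (Set.toFinite trios).toFinset.filter (fun T => o ∈ T) ↔ T ∈ trios ∧ o ∈ T := by
    intro T
    rw [Finset.mem_filter, Set.Finite.mem_toFinset]
  have hmaps : ∀ x ∈ octadFinset.filter (fun x => Disjoint o x),
      trioOf o x ∈ (Set.toFinite trios).toFinset.filter (fun T => o ∈ T) := by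
    intro x hx
    rw [hmem] at hx
    rw [hmemX]
    exact ⟨trioOf_mem_trios ho hx.1 hx.2, left_mem_trioOf _ _⟩
  have h1 := Finset.card_eq_sum_card_fiberwise hmaps
  have hfib : ∀ T ∈ (Set.toFinite trios).toFinset.filter (fun T => o ∈ T),
      ((octadFinset.filter (fun x => Disjoint o x)).filter (fun x => trioOf o x = T)).card
        = 2 := by
    intro T hT
    rw [hmemX] at hT
    have : (octadFinset.filter (fun x => Disjoint o x)).filter (fun x => trioOf o x = T) =
        T.erase o := by
      ext x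
      rw [Finset.mem_filter, Finset.mem_erase, hmem]
      constructor
      · rintro ⟨hx, rfl⟩
        exact ⟨(ne_of_disjoint_octads ho hx.2).symm, right_mem_trioOf _ _⟩
      · rintro ⟨hne, hx⟩
        exact ⟨⟨hT.1.2.1 _ hx, hT.1.2.2 _ hT.2 _ hx (Ne.symm hne)⟩,
          (trio_eq_trioOf hT.1 hT.2 hx (Ne.symm hne)).symm⟩
    rw [this, Finset.card_erase_of_mem hT.2, hT.1.1]
  rw [Finset.sum_congr rfl hfib, Finset.sum_const, smul_eq_mul, card_disjoint_octads ho] at h1
  have hset : {T : Finset (Finset GolayPt) | T ∈ trios ∧ o ∈ T} =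
      ↑((Set.toFinite trios).toFinset.filter (fun T => o ∈ T)) := by
    ext T
    rw [Finset.mem_coe, hmemX]
    rfl
  rw [hset, Set.ncard_coe_finset]
  omega

theorem smul_mem_trios {g : Equiv.Perm GolayPt} (hg : g ∈ M24)
    {T : Finset (Finset GolayPt)} (hT : T ∈ trios) : g • T ∈ trios := by
  refine ⟨?_, ?_, ?_⟩
  · rw [Finset.card_smul_finset]
    exact hT.1
  · intro t ht
    obtain ⟨t', ht', rfl⟩ := Finset.mem_smul_finset.mp ht
    exact smul_mem_octads hg (hT.2.1 t' ht')
  · intro t ht u hu hne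
    obtain ⟨t', ht', rfl⟩ := Finset.mem_smul_finset.mp ht
    obtain ⟨u', hu', rfl⟩ := Finset.mem_smul_finset.mp hu
    rw [Finset.disjoint_iff_inter_eq_empty, ← Finset.smul_finset_inter,
      Finset.smul_finset_eq_empty, ← Finset.disjoint_iff_inter_eq_empty]
    exact hT.2.2 t' ht' u' hu' (fun h => hne (by rw [h]))

/-- A trio is determined by two of its octads. -/
theorem trio_unique {T T' : Finset (Finset GolayPt)} (hT : T ∈ trios) (hT' : T' ∈ trios)
    {o x : Finset GolayPt} (ho : o ∈ T) (hx : x ∈ T) (ho' : o ∈ T') (hx' : x ∈ T')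
    (hne : o ≠ x) : T = T' :=
  (trio_eq_trioOf hT ho hx hne).trans (trio_eq_trioOf hT' ho' hx' hne).symm

/-- Octads of two distinct trios through `o`, other than `o`, meet in four points. -/
theorem trio_pair_data {o : Finset GolayPt} {T₁ T₂ : Finset (Finset GolayPt)}
    (hT₁ : T₁ ∈ trios) (hT₂ : T₂ ∈ trios) (ho₁ : o ∈ T₁) (ho₂ : o ∈ T₂) (hne : T₁ ≠ T₂) :
    ∃ x₁ ∈ T₁, ∃ x₂ ∈ T₂, x₁ ≠ o ∧ x₂ ≠ o ∧ (x₁ ∩ x₂).card = 4 := by
  have c1 : (T₁.erase o).card = 2 := by rw [Finset.card_erase_of_mem ho₁, hT₁.1]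
  have c2 : (T₂.erase o).card = 2 := by rw [Finset.card_erase_of_mem ho₂, hT₂.1]
  obtain ⟨x₁, hx₁⟩ := Finset.card_pos.mp (by rw [c1]; norm_num : 0 < (T₁.erase o).card)
  obtain ⟨x₂, hx₂⟩ := Finset.card_pos.mp (by rw [c2]; norm_num : 0 < (T₂.erase o).card)
  rw [Finset.mem_erase] at hx₁ hx₂
  have hox₁ := hT₁.2.1 x₁ hx₁.2
  have hox₂ := hT₂.2.1 x₂ hx₂.2
  have hoo := hT₁.2.1 o ho₁
  have d1 : Disjoint o x₁ := hT₁.2.2 o ho₁ x₁ hx₁.2 (Ne.symm hx₁.1)
  have d2 : Disjoint o x₂ := hT₂.2.2 o ho₂ x₂ hx₂.2 (Ne.symm hx₂.1)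
  refine ⟨x₁, hx₁.2, x₂, hx₂.2, hx₁.1, hx₂.1, ?_⟩
  rcases octad_inter_cases hox₁ hox₂ with h | h | h | h
  · -- disjoint: x₂ is the third octad of T₁
    exfalso
    apply hne
    have hd : Disjoint x₁ x₂ := by
      rw [Finset.disjoint_iff_inter_eq_empty, ← Finset.card_eq_zero]; exact h
    have hsub : x₂ ⊆ (o ∪ x₁)ᶜ := by
      intro p hp
      rw [Finset.mem_compl, Finset.mem_union]
      rintro (h' | h')
      · exact Finset.disjoint_left.mp d2 h' hp
      · exact Finset.disjoint_left.mp hd h' hp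
    have hxc : x₂ = (o ∪ x₁)ᶜ := by
      apply Finset.eq_of_subset_of_card_le hsub
      rw [(compl_union_mem_octads hoo hox₁ d1).2, hox₂.2]
    have hmem : x₂ ∈ T₁ := by
      rw [trio_eq_trioOf hT₁ ho₁ hx₁.2 (Ne.symm hx₁.1), hxc]
      exact compl_mem_trioOf _ _
    exact trio_unique hT₁ hT₂ ho₁ hmem ho₂ hx₂.2 (Ne.symm hx₂.1)
  · -- two points: then x₁ meets the complement in six points
    exfalso
    have hc := compl_union_mem_octads hoo hox₂ d2
    have heq : x₁ ∩ (o ∪ x₂)ᶜ = x₁ \ x₂ := by
      ext p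
      rw [Finset.mem_inter, Finset.mem_compl, Finset.mem_union, Finset.mem_sdiff]
      constructor
      · rintro ⟨hp, hn⟩
        exact ⟨hp, fun h' => hn (Or.inr h')⟩
      · rintro ⟨hp, hn⟩
        exact ⟨hp, fun h' => h'.elim (fun h'' => Finset.disjoint_left.mp d1 h'' hp) hn⟩
    have h6 : (x₁ ∩ (o ∪ x₂)ᶜ).card = 6 := by
      rw [heq]
      have := Finset.card_sdiff_add_card_inter x₁ x₂
      rw [hox₁.2] at this
      omega
    rcases octad_inter_cases hox₁ hc with h' | h' | h' | h' <;> omega
  · exact h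
  · exfalso
    apply hne
    have hsub : x₁ ⊆ x₂ := by
      have := Finset.eq_of_subset_of_card_le
        (Finset.inter_subset_left (s₁ := x₁) (s₂ := x₂)) (by rw [h, hox₁.2])
      rw [← this]
      exact Finset.inter_subset_right
    have hxx : x₁ = x₂ := Finset.eq_of_subset_of_card_le hsub (by rw [hox₁.2, hox₂.2])
    rw [← hxx] at hx₂
    exact trio_unique hT₁ hT₂ ho₁ hx₁.2 ho₂ hx₂.2 (Ne.symm hx₁.1)

theorem card_inter_o0_a0m : (setOf o0 ∩ setOf a0m).card = 0 := by
  rw [card_inter_setOf o0_lt a0m_lt]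
  decide +kernel

/-- The stabiliser of an octad is transitive on pairs of octads disjoint from it that meet in
four points. -/
theorem octad_stab_pair_trans {o x₁ x₂ x₁' x₂' : Finset GolayPt} (ho : o ∈ octads)
    (hx₁ : x₁ ∈ octads) (hx₂ : x₂ ∈ octads) (hx₁' : x₁' ∈ octads) (hx₂' : x₂' ∈ octads)
    (d₁ : Disjoint o x₁) (d₂ : Disjoint o x₂) (d₁' : Disjoint o x₁') (d₂' : Disjoint o x₂')
    (h4 : (x₁ ∩ x₂).card = 4) (h4' : (x₁' ∩ x₂').card = 4) :
    ∃ g ∈ M24, g • o = o ∧ g • x₁ = x₁' ∧ g • x₂ = x₂' := by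
  have hc : ∀ x : Finset GolayPt, Disjoint o x → (o ∩ x).card = (setOf o0 ∩ setOf a0m).card := by
    intro x hd
    rw [card_inter_o0_a0m, Finset.card_eq_zero, ← Finset.disjoint_iff_inter_eq_empty]
    exact hd
  obtain ⟨a, ha, hao, hax⟩ := exists_pair_frame_gen isOct_a0m ho hx₁ (hc x₁ d₁)
  obtain ⟨a', ha', hao', hax'⟩ := exists_pair_frame_gen isOct_a0m ho hx₁' (hc x₁' d₁')
  have hb : a' * a⁻¹ ∈ M24 := M24.mul_mem ha' (M24.inv_mem ha)
  have hbo : (a' * a⁻¹) • o = o := by
    have : a⁻¹ • o = setOf o0 := by rw [← hao, inv_smul_smul]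
    rw [mul_smul, this, hao']
  have hbx : (a' * a⁻¹) • x₁ = x₁' := by
    have : a⁻¹ • x₁ = setOf a0m := by rw [← hax, inv_smul_smul]
    rw [mul_smul, this, hax']
  have hlt : ∀ c ∈ [(16777215, 8), (o0, 0), (a0m, 4)], c.1 < 2 ^ 24 := by
    intro c hc
    simp only [List.mem_cons, List.not_mem_nil, or_false] at hc
    rcases hc with rfl | rfl | rfl
    · decide
    · exact o0_lt
    · exact a0m_lt
  have key : ∀ y : Finset GolayPt, y ∈ octads → Disjoint o y → (x₁' ∩ y).card = 4 →
      HasProf (profSets a' [(16777215, 8), (o0, 0), (a0m, 4)]) y := by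
    intro y hy hd h
    rw [profSets_cons, profSets_cons, profSets_cons, profSets_nil, hasProf_cons, hasProf_cons,
      hasProf_cons, card_inter_full, hao', hax', Finset.inter_comm y o, Finset.inter_comm y x₁']
    refine ⟨hy.2, ?_, h, hasProf_nil _⟩
    rw [Finset.card_eq_zero, ← Finset.disjoint_iff_inter_eq_empty]
    exact hd
  have hy : (a' * a⁻¹) • x₂ ∈ octads := smul_mem_octads hb hx₂
  have hyd : Disjoint o ((a' * a⁻¹) • x₂) := by
    rw [← hbo, Finset.disjoint_iff_inter_eq_empty, ← Finset.smul_finset_inter,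
      Finset.smul_finset_eq_empty, ← Finset.disjoint_iff_inter_eq_empty]
    exact d₂
  have hy4 : (x₁' ∩ (a' * a⁻¹) • x₂).card = 4 := by
    rw [← hbx, ← Finset.smul_finset_inter, card_smul_finset]
    exact h4
  obtain ⟨g, hg, hinv, hgy⟩ := orbit_prof trioGens_ok (by decide) (by decide +kernel) hlt
    trio_orbit_k4 ha' hy.1 hx₂'.1 (key _ hy hyd hy4) (key _ hx₂' d₂' h4')
  have hgo : g • o = o := by
    have := hinv o0 (by simp)
    rwa [hao'] at this
  have hgx : g • x₁' = x₁' := by
    have := hinv a0m (by simp)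
    rwa [hax'] at this
  refine ⟨g * (a' * a⁻¹), M24.mul_mem hg hb, ?_, ?_, ?_⟩
  · rw [mul_smul, hbo, hgo]
  · rw [mul_smul, hbx, hgx]
  · rw [mul_smul, hgy]

/-- The stabiliser of an octad is doubly transitive on the trios through it. -/
theorem trios_two_trans {o : Finset GolayPt} (ho : o ∈ octads)
    {T₁ T₂ T₁' T₂' : Finset (Finset GolayPt)} (hT₁ : T₁ ∈ trios) (hT₂ : T₂ ∈ trios)
    (hT₁' : T₁' ∈ trios) (hT₂' : T₂' ∈ trios) (ho₁ : o ∈ T₁) (ho₂ : o ∈ T₂) (ho₁' : o ∈ T₁')
    (ho₂' : o ∈ T₂') (hne : T₁ ≠ T₂) (hne' : T₁' ≠ T₂') :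
    ∃ g ∈ M24, g • o = o ∧ g • T₁ = T₁' ∧ g • T₂ = T₂' := by
  obtain ⟨x₁, hx₁, x₂, hx₂, n₁, n₂, h4⟩ := trio_pair_data hT₁ hT₂ ho₁ ho₂ hne
  obtain ⟨x₁', hx₁', x₂', hx₂', n₁', n₂', h4'⟩ := trio_pair_data hT₁' hT₂' ho₁' ho₂' hne'
  obtain ⟨g, hg, hgo, hg1, hg2⟩ := octad_stab_pair_trans ho (hT₁.2.1 _ hx₁) (hT₂.2.1 _ hx₂)
    (hT₁'.2.1 _ hx₁') (hT₂'.2.1 _ hx₂') (hT₁.2.2 _ ho₁ _ hx₁ (Ne.symm n₁))
    (hT₂.2.2 _ ho₂ _ hx₂ (Ne.symm n₂)) (hT₁'.2.2 _ ho₁' _ hx₁' (Ne.symm n₁'))
    (hT₂'.2.2 _ ho₂' _ hx₂' (Ne.symm n₂')) h4 h4'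
  refine ⟨g, hg, hgo, ?_, ?_⟩
  · apply trio_unique (smul_mem_trios hg hT₁) hT₁' (o := o) (x := x₁') _ _ ho₁' hx₁' (Ne.symm n₁')
    · rw [← hgo]; exact Finset.smul_mem_smul_finset ho₁
    · rw [← hg1]; exact Finset.smul_mem_smul_finset hx₁
  · apply trio_unique (smul_mem_trios hg hT₂) hT₂' (o := o) (x := x₂') _ _ ho₂' hx₂' (Ne.symm n₂')
    · rw [← hgo]; exact Finset.smul_mem_smul_finset ho₂
    · rw [← hg2]; exact Finset.smul_mem_smul_finset hx₂

/-- Table test: each octad disjoint from the base octad goes to itself or to its complement in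
the sixteen points. -/
def transQ (l : List ℕ) : Bool :=
  allLt (fun n => !(profF [(16777215, 8), (o0, 0)] (cwF n)) ||
    (preMask l (cwF n) == cwF n || preMask l (cwF n) == (cwF n ^^^ 16771936))) 4096

theorem trans_all : chainAll transQ octChainB idTab = true := by decide +kernel

theorem fixer_o0_smul_disjoint {g : Equiv.Perm GolayPt} (hg : g ∈ fixer (setOf o0))
    {x : Finset GolayPt} (hx : x ∈ octads) (hd : Disjoint (setOf o0) x) :
    g⁻¹ • x = x ∨ g⁻¹ • x = (setOf o0 ∪ x)ᶜ := by
  rw [fixer_o0_eq] at hg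
  obtain ⟨l, hl, hQ⟩ := chainAll_sound _ octChainB octInv6 idTab 1 isTable_one octChainB_ok
    oct_final_bot trans_all g hg
  rw [one_mul] at hl
  have hn : maskS x >>> 12 < 4096 := by
    have := maskS_lt x
    rw [Nat.shiftRight_eq_div_pow]
    omega
  have hcw : cw (maskS x >>> 12) = maskS x :=
    eq_cw_of_setOf_mem_supports (maskS_lt x) (by rw [setOf_maskS]; exact hx.1)
  have h1 := allLt_spec hQ _ hn
  rw [cwF_eq hn, hcw] at h1
  have hlt : ∀ c ∈ [(16777215, 8), (o0, 0)], c.1 < 2 ^ 24 := by
    intro c hc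
    simp only [List.mem_cons, List.not_mem_nil, or_false] at hc
    rcases hc with rfl | rfl
    · decide
    · exact o0_lt
  have hprof : profF [(16777215, 8), (o0, 0)] (maskS x) = true := by
    rw [profF_eq _ (maskS_lt x), profS_iff _ hlt]
    intro c hc
    simp only [List.mem_cons, List.not_mem_nil, or_false] at hc
    rcases hc with rfl | rfl
    · have := card_inter_full x 1
      rw [one_smul] at this
      rw [this]
      exact hx.2
    · show (x ∩ setOf o0).card = 0
      rw [Finset.card_eq_zero, ← Finset.disjoint_iff_inter_eq_empty]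
      exact hd.symm
  rw [hprof] at h1
  simp only [Bool.not_true, Bool.false_or, Bool.or_eq_true, beq_iff_eq] at h1
  rw [← maskS_inv_smul hl x] at h1
  rcases h1 with h1 | h1
  · left
    rw [← setOf_maskS (g⁻¹ • x), h1, setOf_maskS]
  · right
    rw [← setOf_maskS (g⁻¹ • x), h1, setOf_xor, setOf_maskS]
    ext p
    have h2 : (16771936 : ℕ) = (2 ^ 24 - 1) ^^^ o0 := by decide
    rw [h2, Finset.mem_symmDiff, mem_setOf_compl, Finset.mem_compl, Finset.mem_union]
    have h3 : p ∈ setOf o0 → p ∉ x := fun h => Finset.disjoint_left.mp hd h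
    constructor
    · rintro (⟨hpx, hn⟩ | ⟨hn, hpx⟩)
      · exact absurd (fun h => h3 h hpx) hn
      · rintro (h | h)
        · exact hn h
        · exact hpx h
    · intro h
      right
      exact ⟨fun h' => h (Or.inl h'), fun h' => h (Or.inr h')⟩

theorem fixer_octad_smul_disjoint {o : Finset GolayPt} (ho : o ∈ octads)
    {g : Equiv.Perm GolayPt} (hg : g ∈ fixer o) {x : Finset GolayPt} (hx : x ∈ octads)
    (hd : Disjoint o x) : g • x = x ∨ g • x = (o ∪ x)ᶜ := by
  obtain ⟨a, ha, rfl⟩ := exists_smul_o0_eq ho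
  have hg' : a⁻¹ * g⁻¹ * a ∈ fixer (setOf o0) :=
    (mem_fixer_smul_iff ha _ g⁻¹).mp ((fixer _).inv_mem hg)
  have hx0 : a⁻¹ • x ∈ octads := smul_mem_octads (M24.inv_mem ha) hx
  have hd0 : Disjoint (setOf o0) (a⁻¹ • x) := by
    have : setOf o0 = a⁻¹ • (a • setOf o0) := (inv_smul_smul a _).symm
    rw [this, Finset.disjoint_iff_inter_eq_empty, ← Finset.smul_finset_inter,
      Finset.smul_finset_eq_empty, ← Finset.disjoint_iff_inter_eq_empty]
    exact hd
  have h := fixer_o0_smul_disjoint hg' hx0 hd0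
  have e1 : (a⁻¹ * g⁻¹ * a)⁻¹ • a⁻¹ • x = a⁻¹ • g • x := by
    have : (a⁻¹ * g⁻¹ * a)⁻¹ = a⁻¹ * g * a := by group
    rw [this, mul_smul, mul_smul, smul_inv_smul]
  rw [e1] at h
  rcases h with h | h
  · left
    exact smul_left_cancel _ h
  · right
    have h2 : g • x = a • (setOf o0 ∪ a⁻¹ • x)ᶜ := by rw [← h, smul_inv_smul]
    rw [h2, smul_compl_finset, Finset.smul_finset_union, smul_inv_smul]

theorem trio_fixed_of_fixer {o : Finset GolayPt} (ho : o ∈ octads) {g : Equiv.Perm GolayPt}
    (hg : g ∈ fixer o) {T : Finset (Finset GolayPt)} (hT : T ∈ trios) (hoT : o ∈ T) :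
    g • T = T := by
  have hgM := (mem_fixer.mp hg).1
  have hgo : g • o = o := smul_eq_of_fixes (mem_fixer.mp hg).2
  have c1 : (T.erase o).card = 2 := by rw [Finset.card_erase_of_mem hoT, hT.1]
  obtain ⟨x, hx⟩ := Finset.card_pos.mp (by rw [c1]; norm_num : 0 < (T.erase o).card)
  rw [Finset.mem_erase] at hx
  have hxo := hT.2.1 x hx.2
  have d : Disjoint o x := hT.2.2 o hoT x hx.2 (Ne.symm hx.1)
  have hgT := smul_mem_trios hgM hT
  have hgoT : o ∈ g • T := by
    have : g • o ∈ g • T := Finset.smul_mem_smul_finset hoT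
    rwa [hgo] at this
  have hgxT : g • x ∈ g • T := Finset.smul_mem_smul_finset hx.2
  rcases fixer_octad_smul_disjoint ho hg hxo d with h | h
  · rw [h] at hgxT
    exact trio_unique hgT hT hgoT hgxT hoT hx.2 (Ne.symm hx.1)
  · rw [h] at hgxT
    have hc : (o ∪ x)ᶜ ∈ T := by
      have := compl_mem_trioOf o x
      rwa [← trio_eq_trioOf hT hoT hx.2 (Ne.symm hx.1)] at this
    have hne : o ≠ (o ∪ x)ᶜ := ne_of_disjoint_octads ho (disjoint_compl_union_left o x)
    exact trio_unique hgT hT hgoT hgxT hoT hc hne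

/-- The kernel of the action of the octad stabiliser on the trios through the octad. -/
def trioKer (o : Finset GolayPt) : Subgroup ↥(stabP o) where
  carrier := {g | ∀ T ∈ trios, o ∈ T → (g : Equiv.Perm GolayPt) • T = T}
  mul_mem' := by
    intro a b ha hb T hT hoT
    rw [Subgroup.coe_mul, mul_smul, hb T hT hoT, ha T hT hoT]
  one_mem' := fun T _ _ => one_smul _ T
  inv_mem' := by
    intro a ha T hT hoT
    rw [Subgroup.coe_inv, inv_smul_eq_iff]
    exact (ha T hT hoT).symm

instance trioKer_normal (o : Finset GolayPt) : (trioKer o).Normal := by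
  constructor
  intro g hg h T hT hoT
  have hh := mem_stabP.mp h.2
  have hT' : ((h : Equiv.Perm GolayPt))⁻¹ • T ∈ trios := smul_mem_trios (M24.inv_mem hh.1) hT
  have hoT' : o ∈ ((h : Equiv.Perm GolayPt))⁻¹ • T := by
    have h1 : ((h : Equiv.Perm GolayPt))⁻¹ • o = o := by
      rw [inv_smul_eq_iff]; exact hh.2.symm
    have h2 : ((h : Equiv.Perm GolayPt))⁻¹ • o ∈ ((h : Equiv.Perm GolayPt))⁻¹ • T :=
      Finset.smul_mem_smul_finset hoT
    rwa [h1] at h2
  have := hg _ hT' hoT'
  rw [Subgroup.coe_mul, Subgroup.coe_mul, Subgroup.coe_inv, mul_smul, mul_smul, this,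
    smul_inv_smul]

theorem fixes_of_trios_fixed {o : Finset GolayPt} (ho : o ∈ octads) {g : Equiv.Perm GolayPt}
    (hg : g ∈ M24) (hgo : g • o = o) (h : ∀ T ∈ trios, o ∈ T → g • T = T) :
    ∀ p ∈ o, g p = p := by
  have hsimp : IsSimpleGroup ↥(resHom o).range := by
    have : IsSimpleGroup ↥(alternatingGroup ↥o) := alternatingGroup.isSimpleGroup (by
      rw [Nat.card_eq_fintype_card, Fintype.card_coe, ho.2]; norm_num)
    exact (MulEquiv.subgroupCongr (range_resHom_eq ho)).isSimpleGroup
  have hnorm : ((trioKer o).map (resHom o).rangeRestrict).Normal :=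
    Subgroup.Normal.map inferInstance _ (resHom o).rangeRestrict_surjective
  have hgK : (⟨g, mem_stabP.mpr ⟨hg, hgo⟩⟩ : stabP o) ∈ trioKer o := h
  rcases hnorm.eq_bot_or_eq_top with hb | ht
  · have h1 : (resHom o).rangeRestrict ⟨g, mem_stabP.mpr ⟨hg, hgo⟩⟩ ∈
        (trioKer o).map (resHom o).rangeRestrict := Subgroup.mem_map_of_mem _ hgK
    rw [hb, Subgroup.mem_bot] at h1
    have h2 : resHom o ⟨g, mem_stabP.mpr ⟨hg, hgo⟩⟩ = 1 := congrArg Subtype.val h1
    have h3 := (mem_ker_resHom _).mp (MonoidHom.mem_ker.mpr h2)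
    exact (mem_fixer.mp h3).2
  · exfalso
    have hall : ∀ k : stabP o, k ∈ trioKer o := by
      intro k
      have h1 : (resHom o).rangeRestrict k ∈ (trioKer o).map (resHom o).rangeRestrict := by
        rw [ht]; exact Subgroup.mem_top _
      obtain ⟨k', hk', hkk⟩ := Subgroup.mem_map.mp h1
      have h2 : resHom o k' = resHom o k := congrArg Subtype.val hkk
      have h3 : k'⁻¹ * k ∈ (resHom o).ker := by
        rw [MonoidHom.mem_ker, map_mul, map_inv, h2, inv_mul_cancel]
      have h4 := (mem_ker_resHom _).mp h3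
      have h5 : k'⁻¹ * k ∈ trioKer o := fun T hT hoT => trio_fixed_of_fixer ho h4 hT hoT
      have : k = k' * (k'⁻¹ * k) := by group
      rw [this]
      exact (trioKer o).mul_mem hk' h5
    have h15 := ncard_trios_through ho
    have hlt : 1 < {T : Finset (Finset GolayPt) | T ∈ trios ∧ o ∈ T}.ncard := by
      rw [h15]; norm_num
    obtain ⟨T1, T2, hT1, hT2, hne⟩ := (Set.one_lt_ncard_iff (Set.toFinite _)).mp hlt
    obtain ⟨k, hk, hko, hk1, hk2⟩ := trios_two_trans ho hT1.1 hT2.1 hT2.1 hT1.1 hT1.2 hT2.2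
      hT2.2 hT1.2 hne (Ne.symm hne)
    have := hall ⟨k, mem_stabP.mpr ⟨hk, hko⟩⟩ T1 hT1.1 hT1.2
    exact hne (this.symm.trans hk1)

/-- S5615. -/
theorem trios_through_octad (o : Finset GolayPt) (ho : o ∈ octads) :
    {T : Finset (Finset GolayPt) | T ∈ trios ∧ o ∈ T}.ncard = 15 ∧
    (∀ T₁ T₂ T₁' T₂' : Finset (Finset GolayPt), T₁ ∈ trios → T₂ ∈ trios → T₁' ∈ trios →
      T₂' ∈ trios → o ∈ T₁ → o ∈ T₂ → o ∈ T₁' → o ∈ T₂' → T₁ ≠ T₂ → T₁' ≠ T₂' →
      ∃ g ∈ M24, g • o = o ∧ g • T₁ = T₁' ∧ g • T₂ = T₂') ∧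
    ∀ g ∈ M24, g • o = o → ((∀ T ∈ trios, o ∈ T → g • T = T) ↔ ∀ p ∈ o, g p = p) := by
  refine ⟨ncard_trios_through ho, ?_, ?_⟩
  · intro T₁ T₂ T₁' T₂' h1 h2 h1' h2' o1 o2 o1' o2' hne hne'
    exact trios_two_trans ho h1 h2 h1' h2' o1 o2 o1' o2' hne hne'
  · intro g hg hgo
    constructor
    · exact fixes_of_trios_fixed ho hg hgo
    · intro hfix T hT hoT
      exact trio_fixed_of_fixer ho (mem_fixer.mpr ⟨hg, hfix⟩) hT hoT

end Cfsg.Agent.Lib.helper28
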