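import Cfsg.Agent.Lib.helper28.GolayOrbS
import Cfsg.Agent.Lib.helper28.GolayEnum

set_option autoImplicit false

namespace Cfsg.Agent.Lib.helper28

/-! Data for the structure of the stabiliser of the standard trio. -/

def trU0 : List (List ℕ) :=
  [[0, 1, 2, 3, 4, 5, 6, 7, 8, 9, 10, 11, 12, 13, 14, 15, 16, 17, 18, 19, 20, 21, 22, 23],
   [1, 0, 2, 3, 7, 5, 13, 4, 8, 20, 10, 18, 12, 6, 17, 15, 19, 14, 11, 16, 9, 22, 21, 23],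
   [2, 0, 1, 3, 7, 5, 18, 12, 22, 20, 10, 13, 4, 19, 14, 9, 6, 17, 16, 11, 15, 8, 21, 23],
   [3, 0, 1, 2, 7, 5, 6, 10, 20, 22, 12, 11, 4, 16, 17, 21, 18, 14, 19, 13, 15, 8, 9, 23],
   [4, 0, 1, 2, 12, 5, 16, 10, 15, 22, 7, 13, 3, 6, 18, 21, 17, 19, 14, 11, 20, 8, 23, 9],
   [7, 0, 1, 2, 3, 5, 18, 10, 23, 22, 4, 14, 12, 17, 16, 21, 6, 11, 13, 19, 9, 8, 15, 20],
   [10, 0, 1, 3, 4, 5, 14, 12, 21, 20, 2, 16, 7, 6, 18, 9, 19, 11, 13, 17, 23, 8, 22, 15],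
   [12, 0, 1, 2, 4, 5, 17, 10, 9, 22, 3, 19, 7, 18, 6, 21, 16, 13, 11, 14, 23, 8, 20, 15]]

def trRest : List (ℕ × ℕ × List (List ℕ)) :=
  [(1, 5278,
    [[0, 1, 2, 3, 4, 5, 6, 7, 8, 9, 10, 11, 12, 13, 14, 15, 16, 17, 18, 19, 20, 21, 22, 23],
     [0, 2, 1, 3, 12, 5, 19, 7, 22, 15, 10, 16, 4, 18, 17, 9, 11, 14, 13, 6, 20, 21, 8, 23],
     [0, 3, 1, 2, 10, 5, 16, 7, 20, 15, 12, 19, 4, 6, 14, 21, 13, 17, 11, 18, 22, 9, 8, 23],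
     [0, 4, 1, 2, 10, 5, 6, 12, 15, 20, 7, 14, 3, 16, 19, 21, 11, 18, 13, 17, 22, 23, 8, 9],
     [0, 7, 1, 2, 10, 5, 17, 3, 23, 9, 4, 13, 12, 18, 11, 21, 19, 16, 14, 6, 22, 15, 8, 20],
     [0, 10, 1, 3, 12, 5, 6, 4, 21, 23, 2, 13, 7, 14, 11, 9, 17, 18, 16, 19, 20, 22, 8, 15],
     [0, 12, 1, 2, 10, 5, 18, 4, 9, 23, 3, 11, 7, 17, 13, 21, 14, 6, 19, 16, 22, 20, 8, 15]]),
   (2, 5276,
    [[0, 1, 2, 3, 4, 5, 6, 7, 8, 9, 10, 11, 12, 13, 14, 15, 16, 17, 18, 19, 20, 21, 22, 23],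
     [0, 1, 3, 2, 4, 5, 18, 7, 8, 21, 12, 13, 10, 11, 17, 15, 19, 14, 6, 16, 22, 9, 20, 23],
     [0, 1, 4, 2, 3, 5, 17, 12, 8, 21, 7, 11, 10, 13, 18, 20, 14, 19, 16, 6, 22, 23, 15, 9],
     [0, 1, 7, 2, 12, 5, 6, 3, 8, 21, 4, 19, 10, 14, 16, 9, 13, 11, 18, 17, 22, 15, 23, 20],
     [0, 1, 10, 3, 7, 5, 19, 4, 8, 9, 2, 17, 12, 16, 18, 23, 13, 11, 14, 6, 20, 22, 21, 15],
     [0, 1, 12, 2, 7, 5, 16, 4, 8, 21, 3, 14, 10, 19, 6, 23, 11, 13, 17, 18, 22, 20, 9, 15]]),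
   (3, 4248,
    [[0, 1, 2, 3, 4, 5, 6, 7, 8, 9, 10, 11, 12, 13, 14, 15, 16, 17, 18, 19, 20, 21, 22, 23],
     [0, 1, 2, 4, 3, 5, 16, 12, 8, 23, 10, 13, 7, 11, 19, 20, 6, 18, 17, 14, 15, 21, 22, 9],
     [0, 1, 2, 7, 12, 5, 18, 3, 8, 15, 10, 14, 4, 19, 11, 9, 17, 16, 6, 13, 23, 21, 22, 20],
     [0, 1, 2, 12, 7, 5, 17, 4, 8, 20, 10, 19, 3, 14, 13, 23, 18, 6, 16, 11, 9, 21, 22, 15]]),
   (4, 16,
    [[0, 1, 2, 3, 4, 5, 6, 7, 8, 9, 10, 11, 12, 13, 14, 15, 16, 17, 18, 19, 20, 21, 22, 23]]),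
   (7, 128,
    [[0, 1, 2, 3, 4, 5, 6, 7, 8, 9, 10, 11, 12, 13, 14, 15, 16, 17, 18, 19, 20, 21, 22, 23]]),
   (5, 15762208,
    [[0, 1, 2, 3, 4, 5, 6, 7, 8, 9, 10, 11, 12, 13, 14, 15, 16, 17, 18, 19, 20, 21, 22, 23],
     [0, 1, 2, 3, 4, 8, 18, 7, 5, 20, 10, 13, 12, 11, 19, 23, 17, 16, 6, 14, 9, 22, 21, 15],
     [0, 1, 2, 3, 4, 9, 14, 7, 20, 5, 10, 17, 12, 16, 6, 21, 13, 11, 19, 18, 8, 15, 23, 22],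
     [0, 1, 2, 3, 4, 15, 13, 7, 23, 21, 10, 18, 12, 6, 16, 5, 14, 19, 11, 17, 22, 9, 20, 8],
     [0, 1, 2, 3, 4, 20, 19, 7, 9, 8, 10, 16, 12, 17, 18, 22, 11, 13, 14, 6, 5, 23, 15, 21],
     [0, 1, 2, 3, 4, 21, 16, 7, 22, 15, 10, 19, 12, 14, 13, 9, 6, 18, 17, 11, 23, 5, 8, 20],
     [0, 1, 2, 3, 4, 22, 17, 7, 21, 23, 10, 14, 12, 19, 11, 20, 18, 6, 16, 13, 15, 8, 5, 9],
     [0, 1, 2, 3, 4, 23, 11, 7, 15, 22, 10, 6, 12, 18, 17, 8, 19, 14, 13, 16, 21, 20, 9, 5]])]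

def trBChain : List (ℕ × ℕ × List (List ℕ)) := (0, 5279, trU0) :: trRest

def trN1Chain : List (ℕ × ℕ × List (List ℕ)) :=
  [(5, 15762208,
    [[0, 1, 2, 3, 4, 5, 6, 7, 8, 9, 10, 11, 12, 13, 14, 15, 16, 17, 18, 19, 20, 21, 22, 23],
     [0, 1, 2, 3, 4, 8, 18, 7, 5, 20, 10, 13, 12, 11, 19, 23, 17, 16, 6, 14, 9, 22, 21, 15],
     [0, 1, 2, 3, 4, 9, 14, 7, 20, 5, 10, 17, 12, 16, 6, 21, 13, 11, 19, 18, 8, 15, 23, 22],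
     [0, 1, 2, 3, 4, 15, 13, 7, 23, 21, 10, 18, 12, 6, 16, 5, 14, 19, 11, 17, 22, 9, 20, 8],
     [0, 1, 2, 3, 4, 20, 19, 7, 9, 8, 10, 16, 12, 17, 18, 22, 11, 13, 14, 6, 5, 23, 15, 21],
     [0, 1, 2, 3, 4, 21, 16, 7, 22, 15, 10, 19, 12, 14, 13, 9, 6, 18, 17, 11, 23, 5, 8, 20],
     [0, 1, 2, 3, 4, 22, 17, 7, 21, 23, 10, 14, 12, 19, 11, 20, 18, 6, 16, 13, 15, 8, 5, 9],
     [0, 1, 2, 3, 4, 23, 11, 7, 15, 22, 10, 6, 12, 18, 17, 8, 19, 14, 13, 16, 21, 20, 9, 5]])]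

def trNL : List (List ℕ) :=
  [[0, 1, 2, 3, 4, 5, 6, 7, 8, 9, 10, 11, 12, 13, 14, 15, 16, 17, 18, 19, 20, 21, 22, 23],
   [0, 1, 2, 3, 4, 8, 18, 7, 5, 20, 10, 13, 12, 11, 19, 23, 17, 16, 6, 14, 9, 22, 21, 15],
   [0, 1, 2, 3, 4, 9, 14, 7, 20, 5, 10, 17, 12, 16, 6, 21, 13, 11, 19, 18, 8, 15, 23, 22],
   [0, 1, 2, 3, 4, 15, 13, 7, 23, 21, 10, 18, 12, 6, 16, 5, 14, 19, 11, 17, 22, 9, 20, 8],
   [0, 1, 2, 3, 4, 20, 19, 7, 9, 8, 10, 16, 12, 17, 18, 22, 11, 13, 14, 6, 5, 23, 15, 21],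
   [0, 1, 2, 3, 4, 21, 16, 7, 22, 15, 10, 19, 12, 14, 13, 9, 6, 18, 17, 11, 23, 5, 8, 20],
   [0, 1, 2, 3, 4, 22, 17, 7, 21, 23, 10, 14, 12, 19, 11, 20, 18, 6, 16, 13, 15, 8, 5, 9],
   [0, 1, 2, 3, 4, 23, 11, 7, 15, 22, 10, 6, 12, 18, 17, 8, 19, 14, 13, 16, 21, 20, 9, 5],
   [1, 0, 10, 12, 7, 5, 18, 4, 8, 9, 2, 13, 3, 11, 19, 15, 17, 16, 6, 14, 20, 21, 22, 23],
   [1, 0, 10, 12, 7, 8, 6, 4, 5, 20, 2, 11, 3, 13, 14, 23, 16, 17, 18, 19, 9, 22, 21, 15],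
   [1, 0, 10, 12, 7, 9, 19, 4, 20, 5, 2, 16, 3, 17, 18, 21, 11, 13, 14, 6, 8, 15, 23, 22],
   [1, 0, 10, 12, 7, 15, 11, 4, 23, 21, 2, 6, 3, 18, 17, 5, 19, 14, 13, 16, 22, 9, 20, 8],
   [1, 0, 10, 12, 7, 20, 14, 4, 9, 8, 2, 17, 3, 16, 6, 22, 13, 11, 19, 18, 5, 23, 15, 21],
   [1, 0, 10, 12, 7, 21, 17, 4, 22, 15, 2, 14, 3, 19, 11, 9, 18, 6, 16, 13, 23, 5, 8, 20],
   [1, 0, 10, 12, 7, 22, 16, 4, 21, 23, 2, 19, 3, 14, 13, 20, 6, 18, 17, 11, 15, 8, 5, 9],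
   [1, 0, 10, 12, 7, 23, 13, 4, 15, 22, 2, 18, 3, 6, 16, 8, 14, 19, 11, 17, 21, 20, 9, 5],
   [2, 10, 0, 4, 3, 5, 17, 12, 8, 9, 1, 14, 7, 19, 11, 15, 18, 6, 16, 13, 20, 21, 22, 23],
   [2, 10, 0, 4, 3, 8, 16, 12, 5, 20, 1, 19, 7, 14, 13, 23, 6, 18, 17, 11, 9, 22, 21, 15],
   [2, 10, 0, 4, 3, 9, 11, 12, 20, 5, 1, 6, 7, 18, 17, 21, 19, 14, 13, 16, 8, 15, 23, 22],
   [2, 10, 0, 4, 3, 15, 19, 12, 23, 21, 1, 16, 7, 17, 18, 5, 11, 13, 14, 6, 22, 9, 20, 8],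
   [2, 10, 0, 4, 3, 20, 13, 12, 9, 8, 1, 18, 7, 6, 16, 22, 14, 19, 11, 17, 5, 23, 15, 21],
   [2, 10, 0, 4, 3, 21, 18, 12, 22, 15, 1, 13, 7, 11, 19, 9, 17, 16, 6, 14, 23, 5, 8, 20],
   [2, 10, 0, 4, 3, 22, 6, 12, 21, 23, 1, 11, 7, 13, 14, 20, 16, 17, 18, 19, 15, 8, 5, 9],
   [2, 10, 0, 4, 3, 23, 14, 12, 15, 22, 1, 17, 7, 16, 6, 8, 13, 11, 19, 18, 21, 20, 9, 5],
   [3, 12, 4, 0, 2, 5, 19, 10, 8, 9, 7, 16, 1, 17, 18, 15, 11, 13, 14, 6, 20, 21, 22, 23],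
   [3, 12, 4, 0, 2, 8, 14, 10, 5, 20, 7, 17, 1, 16, 6, 23, 13, 11, 19, 18, 9, 22, 21, 15],
   [3, 12, 4, 0, 2, 9, 18, 10, 20, 5, 7, 13, 1, 11, 19, 21, 17, 16, 6, 14, 8, 15, 23, 22],
   [3, 12, 4, 0, 2, 15, 17, 10, 23, 21, 7, 14, 1, 19, 11, 5, 18, 6, 16, 13, 22, 9, 20, 8],
   [3, 12, 4, 0, 2, 20, 6, 10, 9, 8, 7, 11, 1, 13, 14, 22, 16, 17, 18, 19, 5, 23, 15, 21],
   [3, 12, 4, 0, 2, 21, 11, 10, 22, 15, 7, 6, 1, 18, 17, 9, 19, 14, 13, 16, 23, 5, 8, 20],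
   [3, 12, 4, 0, 2, 22, 13, 10, 21, 23, 7, 18, 1, 6, 16, 20, 14, 19, 11, 17, 15, 8, 5, 9],
   [3, 12, 4, 0, 2, 23, 16, 10, 15, 22, 7, 19, 1, 14, 13, 8, 6, 18, 17, 11, 21, 20, 9, 5],
   [4, 7, 3, 2, 0, 5, 13, 1, 8, 9, 12, 18, 10, 6, 16, 15, 14, 19, 11, 17, 20, 21, 22, 23],
   [4, 7, 3, 2, 0, 8, 11, 1, 5, 20, 12, 6, 10, 18, 17, 23, 19, 14, 13, 16, 9, 22, 21, 15],
   [4, 7, 3, 2, 0, 9, 16, 1, 20, 5, 12, 19, 10, 14, 13, 21, 6, 18, 17, 11, 8, 15, 23, 22],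
   [4, 7, 3, 2, 0, 15, 6, 1, 23, 21, 12, 11, 10, 13, 14, 5, 16, 17, 18, 19, 22, 9, 20, 8],
   [4, 7, 3, 2, 0, 20, 17, 1, 9, 8, 12, 14, 10, 19, 11, 22, 18, 6, 16, 13, 5, 23, 15, 21],
   [4, 7, 3, 2, 0, 21, 14, 1, 22, 15, 12, 17, 10, 16, 6, 9, 13, 11, 19, 18, 23, 5, 8, 20],
   [4, 7, 3, 2, 0, 22, 19, 1, 21, 23, 12, 16, 10, 17, 18, 20, 11, 13, 14, 6, 15, 8, 5, 9],
   [4, 7, 3, 2, 0, 23, 18, 1, 15, 22, 12, 13, 10, 11, 19, 8, 17, 16, 6, 14, 21, 20, 9, 5],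
   [7, 4, 12, 10, 1, 5, 11, 0, 8, 9, 3, 6, 2, 18, 17, 15, 19, 14, 13, 16, 20, 21, 22, 23],
   [7, 4, 12, 10, 1, 8, 13, 0, 5, 20, 3, 18, 2, 6, 16, 23, 14, 19, 11, 17, 9, 22, 21, 15],
   [7, 4, 12, 10, 1, 9, 17, 0, 20, 5, 3, 14, 2, 19, 11, 21, 18, 6, 16, 13, 8, 15, 23, 22],
   [7, 4, 12, 10, 1, 15, 18, 0, 23, 21, 3, 13, 2, 11, 19, 5, 17, 16, 6, 14, 22, 9, 20, 8],
   [7, 4, 12, 10, 1, 20, 16, 0, 9, 8, 3, 19, 2, 14, 13, 22, 6, 18, 17, 11, 5, 23, 15, 21],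
   [7, 4, 12, 10, 1, 21, 19, 0, 22, 15, 3, 16, 2, 17, 18, 9, 11, 13, 14, 6, 23, 5, 8, 20],
   [7, 4, 12, 10, 1, 22, 14, 0, 21, 23, 3, 17, 2, 16, 6, 20, 13, 11, 19, 18, 15, 8, 5, 9],
   [7, 4, 12, 10, 1, 23, 6, 0, 15, 22, 3, 11, 2, 13, 14, 8, 16, 17, 18, 19, 21, 20, 9, 5],
   [10, 2, 1, 7, 12, 5, 16, 3, 8, 9, 0, 19, 4, 14, 13, 15, 6, 18, 17, 11, 20, 21, 22, 23],
   [10, 2, 1, 7, 12, 8, 17, 3, 5, 20, 0, 14, 4, 19, 11, 23, 18, 6, 16, 13, 9, 22, 21, 15],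
   [10, 2, 1, 7, 12, 9, 13, 3, 20, 5, 0, 18, 4, 6, 16, 21, 14, 19, 11, 17, 8, 15, 23, 22],
   [10, 2, 1, 7, 12, 15, 14, 3, 23, 21, 0, 17, 4, 16, 6, 5, 13, 11, 19, 18, 22, 9, 20, 8],
   [10, 2, 1, 7, 12, 20, 11, 3, 9, 8, 0, 6, 4, 18, 17, 22, 19, 14, 13, 16, 5, 23, 15, 21],
   [10, 2, 1, 7, 12, 21, 6, 3, 22, 15, 0, 11, 4, 13, 14, 9, 16, 17, 18, 19, 23, 5, 8, 20],
   [10, 2, 1, 7, 12, 22, 18, 3, 21, 23, 0, 13, 4, 11, 19, 20, 17, 16, 6, 14, 15, 8, 5, 9],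
   [10, 2, 1, 7, 12, 23, 19, 3, 15, 22, 0, 16, 4, 17, 18, 8, 11, 13, 14, 6, 21, 20, 9, 5],
   [12, 3, 7, 1, 10, 5, 14, 2, 8, 9, 4, 17, 0, 16, 6, 15, 13, 11, 19, 18, 20, 21, 22, 23],
   [12, 3, 7, 1, 10, 8, 19, 2, 5, 20, 4, 16, 0, 17, 18, 23, 11, 13, 14, 6, 9, 22, 21, 15],
   [12, 3, 7, 1, 10, 9, 6, 2, 20, 5, 4, 11, 0, 13, 14, 21, 16, 17, 18, 19, 8, 15, 23, 22],
   [12, 3, 7, 1, 10, 15, 16, 2, 23, 21, 4, 19, 0, 14, 13, 5, 6, 18, 17, 11, 22, 9, 20, 8],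
   [12, 3, 7, 1, 10, 20, 18, 2, 9, 8, 4, 13, 0, 11, 19, 22, 17, 16, 6, 14, 5, 23, 15, 21],
   [12, 3, 7, 1, 10, 21, 13, 2, 22, 15, 4, 18, 0, 6, 16, 9, 14, 19, 11, 17, 23, 5, 8, 20],
   [12, 3, 7, 1, 10, 22, 11, 2, 21, 23, 4, 6, 0, 18, 17, 20, 19, 14, 13, 16, 15, 8, 5, 9],
   [12, 3, 7, 1, 10, 23, 17, 2, 15, 22, 4, 14, 0, 19, 11, 8, 18, 6, 16, 13, 21, 20, 9, 5]]

def trL1 : List (List ℕ) :=
  [[0, 1, 2, 3, 4, 5, 6, 7, 8, 9, 10, 11, 12, 13, 14, 15, 16, 17, 18, 19, 20, 21, 22, 23],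
   [0, 1, 2, 3, 4, 8, 18, 7, 5, 20, 10, 13, 12, 11, 19, 23, 17, 16, 6, 14, 9, 22, 21, 15],
   [0, 1, 2, 3, 4, 9, 14, 7, 20, 5, 10, 17, 12, 16, 6, 21, 13, 11, 19, 18, 8, 15, 23, 22],
   [0, 1, 2, 3, 4, 15, 13, 7, 23, 21, 10, 18, 12, 6, 16, 5, 14, 19, 11, 17, 22, 9, 20, 8],
   [0, 1, 2, 3, 4, 20, 19, 7, 9, 8, 10, 16, 12, 17, 18, 22, 11, 13, 14, 6, 5, 23, 15, 21],
   [0, 1, 2, 3, 4, 21, 16, 7, 22, 15, 10, 19, 12, 14, 13, 9, 6, 18, 17, 11, 23, 5, 8, 20],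
   [0, 1, 2, 3, 4, 22, 17, 7, 21, 23, 10, 14, 12, 19, 11, 20, 18, 6, 16, 13, 15, 8, 5, 9],
   [0, 1, 2, 3, 4, 23, 11, 7, 15, 22, 10, 6, 12, 18, 17, 8, 19, 14, 13, 16, 21, 20, 9, 5]]

def trL2 : List (List ℕ) :=
  [[0, 1, 2, 3, 4, 5, 6, 7, 8, 9, 10, 11, 12, 13, 14, 15, 16, 17, 18, 19, 20, 21, 22, 23],
   [1, 0, 10, 12, 7, 8, 6, 4, 5, 20, 2, 11, 3, 13, 14, 23, 16, 17, 18, 19, 9, 22, 21, 15],
   [2, 10, 0, 4, 3, 22, 6, 12, 21, 23, 1, 11, 7, 13, 14, 20, 16, 17, 18, 19, 15, 8, 5, 9],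
   [3, 12, 4, 0, 2, 20, 6, 10, 9, 8, 7, 11, 1, 13, 14, 22, 16, 17, 18, 19, 5, 23, 15, 21],
   [4, 7, 3, 2, 0, 15, 6, 1, 23, 21, 12, 11, 10, 13, 14, 5, 16, 17, 18, 19, 22, 9, 20, 8],
   [7, 4, 12, 10, 1, 23, 6, 0, 15, 22, 3, 11, 2, 13, 14, 8, 16, 17, 18, 19, 21, 20, 9, 5],
   [10, 2, 1, 7, 12, 21, 6, 3, 22, 15, 0, 11, 4, 13, 14, 9, 16, 17, 18, 19, 23, 5, 8, 20],
   [12, 3, 7, 1, 10, 9, 6, 2, 20, 5, 4, 11, 0, 13, 14, 21, 16, 17, 18, 19, 8, 15, 23, 22]]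

def trL3 : List (List ℕ) :=
  [[0, 1, 2, 3, 4, 5, 6, 7, 8, 9, 10, 11, 12, 13, 14, 15, 16, 17, 18, 19, 20, 21, 22, 23],
   [1, 0, 10, 12, 7, 5, 18, 4, 8, 9, 2, 13, 3, 11, 19, 15, 17, 16, 6, 14, 20, 21, 22, 23],
   [2, 10, 0, 4, 3, 5, 17, 12, 8, 9, 1, 14, 7, 19, 11, 15, 18, 6, 16, 13, 20, 21, 22, 23],
   [3, 12, 4, 0, 2, 5, 19, 10, 8, 9, 7, 16, 1, 17, 18, 15, 11, 13, 14, 6, 20, 21, 22, 23],
   [4, 7, 3, 2, 0, 5, 13, 1, 8, 9, 12, 18, 10, 6, 16, 15, 14, 19, 11, 17, 20, 21, 22, 23],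
   [7, 4, 12, 10, 1, 5, 11, 0, 8, 9, 3, 6, 2, 18, 17, 15, 19, 14, 13, 16, 20, 21, 22, 23],
   [10, 2, 1, 7, 12, 5, 16, 3, 8, 9, 0, 19, 4, 14, 13, 15, 6, 18, 17, 11, 20, 21, 22, 23],
   [12, 3, 7, 1, 10, 5, 14, 2, 8, 9, 4, 17, 0, 16, 6, 15, 13, 11, 19, 18, 20, 21, 22, 23]]

def trG1 : List (List ℕ) :=
  [[0, 1, 2, 3, 4, 8, 18, 7, 5, 20, 10, 13, 12, 11, 19, 23, 17, 16, 6, 14, 9, 22, 21, 15],
   [0, 1, 2, 3, 4, 9, 14, 7, 20, 5, 10, 17, 12, 16, 6, 21, 13, 11, 19, 18, 8, 15, 23, 22],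
   [0, 1, 2, 3, 4, 15, 13, 7, 23, 21, 10, 18, 12, 6, 16, 5, 14, 19, 11, 17, 22, 9, 20, 8]]

def trS3 : List ℕ := [6, 18, 17, 19, 13, 0, 5, 11, 1, 12, 16, 23, 14, 15, 9, 4, 21, 22, 8, 20, 3, 10, 2, 7]

def trS2 : List ℕ := [6, 18, 17, 19, 13, 5, 0, 11, 8, 9, 16, 7, 14, 4, 12, 15, 10, 2, 1, 3, 20, 21, 22, 23]

/-- The masks fixed by the elements fixing the first octad pointwise and the trio octadwise. -/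
def trInv1 : List ℕ := 2 ^ 12 :: 2 ^ 10 :: 2 ^ 7 :: 2 ^ 4 :: 2 ^ 3 :: 2 ^ 2 :: 2 ^ 1 :: 2 ^ 0 :: tr0

/-- Two tables agree on the 24 indices. -/
def eqT (l l' : List ℕ) : Bool := allLt (fun i => l.getD i 0 == l'.getD i 0) 24

def memT (L : List (List ℕ)) (l : List ℕ) : Bool := L.any (eqT l)

/-- The permutations with tables `l` and `t` commute. -/
def commT (l t : List ℕ) : Bool :=
  allLt (fun i => l.getD (t.getD i 0) 0 == t.getD (l.getD i 0) 0) 24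

/-- Some table `n` of `L` satisfies `n ∘ v = u`. -/
def comN (L : List (List ℕ)) (u v : List ℕ) : Bool :=
  L.any (fun n => allLt (fun i => n.getD (v.getD i 0) 0 == u.getD i 0) 24)

def trQa (l : List ℕ) : Bool :=
  (!(trG1.all (commT l)) || memT trNL l) &&
  (!(fixesTab l o0) || memT trL1 l) && (!(fixesTab l a0m) || memT trL2 l) &&
  (!(fixesTab l 15762208) || memT trL3 l)

theorem trU0_eq : trU0 = [trU0.getD 0 [], trU0.getD 1 [], trU0.getD 2 [], trU0.getD 3 [],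
    trU0.getD 4 [], trU0.getD 5 [], trU0.getD 6 [], trU0.getD 7 []] := by decide +kernel

theorem trBChain_gen : chainGen tr0 trBChain = true := by decide +kernel

theorem trBChain_prod : chainProd trBChain = 10752 := by decide +kernel

theorem trN1Chain_ok : chainOK trInv1 trN1Chain = true := by decide +kernel

theorem trN1Chain_prod : chainProd trN1Chain = 8 := by decide +kernel

theorem trN1Chain_inv : chainInv trInv1 trN1Chain = 2 ^ 5 :: trInv1 := by decide +kernel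

theorem trNL_ok : trNL.all (fun n => tabIn tr0 n && sqOne n &&
    (trL1 ++ trL2 ++ trL3).all (commT n)) = true := by decide +kernel

theorem trNL_length : trNL.length = 64 := by decide +kernel

theorem trG1_ok : trG1.all (tabIn trInv1) = true := by decide +kernel

theorem trS3_ok : tabIn [] trS3 = true := by decide +kernel

theorem trS2_ok : tabIn [] trS2 = true := by decide +kernel

theorem trS3_pow : powTab trS3 3 = idTab := by decide +kernel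

theorem trS2_pow : powTab trS2 2 = idTab := by decide +kernel

theorem trS3_pre : preMask trS3 o0 = 15762208 ∧ preMask trS3 a0m = o0 := by decide +kernel

theorem trS2_pre : preMask trS2 o0 = a0m ∧ preMask trS2 a0m = o0 := by decide +kernel

theorem trB_a0 : chainAll trQa trRest (trU0.getD 0 []) = true := by decide +kernel

theorem trB_a1 : chainAll trQa trRest (trU0.getD 1 []) = true := by decide +kernel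

theorem trB_a2 : chainAll trQa trRest (trU0.getD 2 []) = true := by decide +kernel

theorem trB_a3 : chainAll trQa trRest (trU0.getD 3 []) = true := by decide +kernel

theorem trB_a4 : chainAll trQa trRest (trU0.getD 4 []) = true := by decide +kernel

theorem trB_a5 : chainAll trQa trRest (trU0.getD 5 []) = true := by decide +kernel

theorem trB_a6 : chainAll trQa trRest (trU0.getD 6 []) = true := by decide +kernel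

theorem trB_a7 : chainAll trQa trRest (trU0.getD 7 []) = true := by decide +kernel

theorem trGenS3 : trBChain.all (fun c => c.2.2.all (fun l => tabIn tr0 l &&
    comN trNL (mulTab trS3 l) (mulTab l trS3))) = true := by decide +kernel

theorem trGenS2 : trBChain.all (fun c => c.2.2.all (fun l => tabIn tr0 l &&
    comN trNL (mulTab trS2 l) (mulTab l trS2))) = true := by decide +kernel

end Cfsg.Agent.Lib.helper28
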