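import Cfsg.Agent.Lib.helper28.LeechMcL

set_option autoImplicit false

namespace Cfsg.Agent.Lib.helper28.XI

open Cfsg
open Cfsg.Agent.Lib.helper28
open Cfsg.Agent.Lib.helper27
open Cfsg.Agent.Lib.helper28.LC
open scoped Pointwise

/-! The rank 3 action of the McLaughlin configuration: the stabiliser of a point has orbits of
sizes 112 and 162 on the remaining points. -/

def m21Gens : List (List ℕ × ℕ) :=
  [([0, 1, 6, 4, 3, 12, 2, 21, 22, 14, 16, 20, 5, 13, 9, 15, 10, 17, 18, 19, 11, 7, 8, 23], 0x8c09808809808409808009808c01808801808401808001808c09008809008409008009008c01008801008401008001008c08808808808408808008808c00808800808400808000808c08008808008408008008008c00008800008400008000000c09800809800409800009800c01800801800401800001800c09000809000409000009000c01000801000401000001000c08800808800408800008800c00800800800400800000800c08000808000408000008000c000008000004000000000002a62002a60002862002860002a42002a4000284200284000226200226000206200206000224200224000204200204000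2a22002a20002822002820002a02002a00002802002800002222002220002022002020002202002200002002002000000a62000a60000862000860000a42000a40000842000840000262000260000062000060000242000240000042000040000a22000a20000822000820000a02000a00000802000800000222000220000022000020000202000200000002000000071400471400051400451400031400431400011400411400071000471000051000451000031000431000011000411000070400470400050400450400030400430400010400410400070000470000050000450000030000430000010000410000061400461400041400441400021400421400001400401400061000461000041000441000021000421000001000401000060400460400040400440400020400420400000400400400060000460000040000440000020000420000000000400000000105b00105a00105900105800101b00101a00101900101800104b00104a00104900104800100b00100a00100900100800105300105200105100105000101300101200101100101000104300104200104100104000100300100200100100100000005b00005a00005900005800001b00001a00001900001800004b00004a00004900004800000b00000a000009000008000053000052000051000050000013000012000011000010000043000042000041000040000003000002000001000000),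
   ([0, 1, 16, 19, 17, 12, 22, 4, 9, 11, 14, 18, 7, 8, 5, 6, 20, 10, 3, 13, 15, 2, 21, 23], 0xc10848c10048c10840c10040c00848c00048c00840c00040810848810048810840810040800848800048800840800040c10808c10008c10800c10000c00808c00008c00800c0000081080881000881080081000080080880000880080080000041084841004841084041004040084840004840084040004001084801004801084001004000084800004800084000004041080841000841080041000040080840000840080040000001080801000801080001000000080800000800080000000018043418041410043410041418003418001410003410001408043408041400043400041408003408001400003400001418043018041010043010041018003018001010003010001008043008041000043000041008003008001000003000001018042418040410042410040418002418000410002410000408042408040400042400040408002408000400002400000418042018040010042010040018002018000010002010000008042008040000042000040008002008000000002000000002b30002330002a30002230002930002130002830002030002b20002320002a20002220002920002120002820002020000b30000330000a30000230000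930000130000830000030000b20000320000a20000220000920000120000820000020002b10002310002a10002210002910002110002810002010002b00002300002a00002200002900002100002800002000000b10000310000a10000210000910000110000810000010000b00000300000a000002000009000001000008000000000244083244082244081244080044083044082044081044080204083204082204081204080004083004082004081004080244003244002244001244000044003044002044001044000204003204002204001204000004003004002004001004000240083240082240081240080040083040082040081040080200083200082200081200080000083000082000081000080240003240002240001240000040003040002040001040000200003200002200001200000000003000002000001000000)]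

theorem m21Gens_ok : gensOKF [8388608, 1, 2] m21Gens = true := by decide +kernel

theorem m21_count_b16 : countLt (fun n => profF [(16777215, 8), (8388608, 1), (1, 1), (2, 1)] (cwF n)) 4096 = 21 := by decide +kernel

theorem m21_orbit_b16 : profOrbitOK m21Gens 31 8398155 [(16777215, 8), (8388608, 1), (1, 1), (2, 1)] = true := by decide +kernel

theorem m21_count_b8 : countLt (fun n => profF [(16777215, 8), (8388608, 1), (1, 1), (2, 0)] (cwF n)) 4096 = 56 := by decide +kernel

theorem m21_orbit_b8 : profOrbitOK m21Gens 66 8391797 [(16777215, 8), (8388608, 1), (1, 1), (2, 0)] = true := by decide +kernel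

theorem m21_count_d8 : countLt (fun n => profF [(16777215, 8), (8388608, 1), (1, 0), (2, 1)] (cwF n)) 4096 = 56 := by decide +kernel

theorem m21_orbit_d8 : profOrbitOK m21Gens 66 8394986 [(16777215, 8), (8388608, 1), (1, 0), (2, 1)] = true := by decide +kernel

theorem m21_count_d16 : countLt (fun n => profF [(16777215, 8), (8388608, 1), (1, 0), (2, 0)] (cwF n)) 4096 = 120 := by decide +kernel

theorem m21_orbit_d16 : profOrbitOK m21Gens 130 8401364 [(16777215, 8), (8388608, 1), (1, 0), (2, 0)] = true := by decide +kernel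

/-! ### The stabiliser of the three points `none`, `0`, `1` -/

theorem setOf_two : setOf 2 = {pt 1} := by
  ext p
  rw [mem_setOf, Finset.mem_singleton]
  revert p
  decide

theorem inter_single_one (o : Finset GolayPt) (p : GolayPt) : (o ∩ {p}).card = 1 ↔ p ∈ o := by
  constructor
  · intro h
    by_contra hn
    rw [Finset.inter_singleton_of_notMem hn] at h
    simp at h
  · intro h
    rw [Finset.inter_singleton_of_mem h]
    rfl

theorem inter_single_zero (o : Finset GolayPt) (p : GolayPt) : (o ∩ {p}).card = 0 ↔ p ∉ o := by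
  constructor
  · intro h hn
    rw [Finset.inter_singleton_of_mem hn] at h
    simp at h
  · intro h
    rw [Finset.inter_singleton_of_notMem h]
    rfl

theorem m21_fam {root fuel k0 k1 : ℕ} (hroot : root < 2 ^ 24) (hcw : isCW root = true)
    (hbits : profOrbitOK m21Gens fuel root [(16777215, 8), (8388608, 1), (1, k0), (2, k1)] = true)
    {o : Finset GolayPt} (ho : o ∈ octads) (hno : none ∈ o) (h0 : (o ∩ {pt 0}).card = k0)
    (h1 : (o ∩ {pt 1}).card = k1) :
    ∃ σ ∈ M24, σ none = none ∧ σ (pt 0) = pt 0 ∧ σ (pt 1) = pt 1 ∧ σ • setOf root = o := by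
  have hlt : ∀ c ∈ [(16777215, 8), (8388608, 1), (1, k0), (2, k1)], c.1 < 2 ^ 24 := by
    intro c hc
    simp only [List.mem_cons, List.not_mem_nil, or_false] at hc
    rcases hc with rfl | rfl | rfl | rfl <;> norm_num
  obtain ⟨g, hg, hgo⟩ := exists_stabM_smul_root_prof m21Gens_ok hroot hcw hlt hbits ho.1 (by
    intro c hc
    simp only [List.mem_cons, List.not_mem_nil, or_false] at hc
    rcases hc with rfl | rfl | rfl | rfl
    · have := card_inter_full o 1
      rw [one_smul] at this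
      rw [this]
      exact ho.2
    · show (o ∩ setOf 8388608).card = 1
      rw [setOf_top]
      exact (inter_single_one o none).mpr hno
    · show (o ∩ setOf 1).card = k0
      rw [setOf_one]
      exact h0
    · show (o ∩ setOf 2).card = k1
      rw [setOf_two]
      exact h1)
  have hg' : g ∈ stabM [2 ^ 23, 2 ^ 0, 2 ^ 1] := hg
  rw [mem_stabM_cons_pt (by norm_num), mem_stabM_cons_pt (by norm_num),
    mem_stabM_cons_pt (by norm_num)] at hg'
  exact ⟨g, hg.1, hg'.2, hg'.1.2, hg'.1.1.2, hgo⟩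

/-! ### The reference triple -/

/-- The vector `4 e_∞ + 4 e_1`. -/
def a1 : GolayPt → ℤ := pat 4 {none, pt 1}

theorem a1_props : a1 ∈ leechLattice ∧ sqNorm a1 = 32 ∧ dotInt t0 a1 = 24 ∧ a1 none = 4 :=
  pA_props (a := pt 1) (by decide)

/-- The vector `4 e_∞ + 4 e_1` as a lattice element. -/
def A1 : ↥leechLattice := ⟨a1, a1_props.1⟩

theorem smul_pair1 {σ : Equiv.Perm GolayPt} (h1 : σ none = none) (h2 : σ (pt 1) = pt 1) :
    σ • ({none, pt 1} : Finset GolayPt) = {none, pt 1} := by
  rw [Finset.smul_finset_insert, Finset.smul_finset_singleton, Equiv.Perm.smul_def,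
    Equiv.Perm.smul_def, h1, h2]

theorem perm_a1 {σ : Equiv.Perm GolayPt} (h1 : σ none = none) (h2 : σ (pt 1) = pt 1) :
    (fun i => a1 (σ i)) = a1 := by
  have e := pat_smul σ {none, pt 1} 4
  rw [smul_pair1 h1 h2] at e
  exact e

theorem a1_apply : ∀ j : GolayPt, a1 j = if j = none then 4 else if j = pt 1 then 4 else 0 := by
  decide +kernel

theorem dot_pair (q : GolayPt) (hq : q ≠ none) (a b : ℤ) (f : GolayPt → ℤ)
    (hf : ∀ j, f j = if j = none then a else if j = q then b else 0) (w : GolayPt → ℤ) :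
    dotInt f w = a * w none + b * w q := by
  unfold dotInt
  have h : ∀ i, f i * w i = (if i = none then a * w i else 0) +
      (if i = q then b * w i else 0) := by
    intro i
    rw [hf]
    by_cases h4 : i = none
    · have h7 : i ≠ q := by rw [h4]; exact hq.symm
      rw [if_pos h4, if_pos h4, if_neg h7, add_zero]
    · by_cases h7 : i = q
      · rw [if_neg h4, if_pos h7, if_neg h4, if_pos h7, zero_add]
      · rw [if_neg h4, if_neg h7, if_neg h4, if_neg h7, zero_mul, add_zero]
  rw [Finset.sum_congr rfl (fun i _ => h i), Finset.sum_add_distrib, Finset.sum_ite_eq',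
    Finset.sum_ite_eq', if_pos (Finset.mem_univ _), if_pos (Finset.mem_univ _)]

theorem dot_a1 (w : GolayPt → ℤ) : dotInt a1 w = 4 * w none + 4 * w (pt 1) :=
  dot_pair (pt 1) (by decide) 4 4 a1 a1_apply w

theorem a1_mem_XM : a1 ∈ XM :=
  (mem_XM a1).mpr ⟨a1_props.1, a1_props.2.1, a1_props.2.2.1, pA_x0 (by decide) (by decide)⟩

theorem inv3 {σ : Equiv.Perm GolayPt} (h : σ none = none) (h0 : σ (pt 0) = pt 0)
    (h1 : σ (pt 1) = pt 1) : ∀ b ∈ [X0, A1], (fun i => (b : GolayPt → ℤ) (σ i)) = b := by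
  intro b hb
  simp only [List.mem_cons, List.not_mem_nil, or_false] at hb
  rcases hb with rfl | rfl
  · exact perm_x0 h h0
  · exact perm_a1 h h1

/-! ### Families -/

theorem fam3B {root fuel k1 : ℕ} (hroot : root < 2 ^ 24) (hcw : isCW root = true)
    (hbits : profOrbitOK m21Gens fuel root [(16777215, 8), (8388608, 1), (1, 1), (2, k1)] = true)
    {o : Finset GolayPt} (ho : o ∈ octads) (hno : none ∈ o) (h0 : pt 0 ∈ o)
    (h1 : (o ∩ {pt 1}).card = k1) (hLm : pat 2 o ∈ leechLattice) :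
    RelL [X0, A1] (pat 2 o) (pat 2 (setOf root)) := by
  obtain ⟨σ, hσ, hσn, hσ0, hσ1, hσo⟩ := m21_fam hroot hcw hbits ho hno
    ((inter_single_one o (pt 0)).mpr h0) h1
  have h := relL_perm (L := [X0, A1]) hLm hσ hσn (inv3 hσn hσ0 hσ1)
  have e : (fun i => pat 2 o (σ i)) = pat 2 (setOf root) := by
    rw [← hσo]
    exact pat_smul σ _ 2
  rw [e] at h
  exact h

theorem fam3D {root fuel k1 : ℕ} (hroot : root < 2 ^ 24) (hcw : isCW root = true)
    (hbits : profOrbitOK m21Gens fuel root [(16777215, 8), (8388608, 1), (1, 0), (2, k1)] = true)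
    {o : Finset GolayPt} (ho : o ∈ octads) (hno : none ∈ o) (h0 : pt 0 ∉ o)
    (h1 : (o ∩ {pt 1}).card = k1) (hLm : tw o (pt1 (-3) {none}) ∈ leechLattice) :
    RelL [X0, A1] (tw o (pt1 (-3) {none})) (tw (setOf root) (pt1 (-3) {none})) := by
  obtain ⟨σ, hσ, hσn, hσ0, hσ1, hσo⟩ := m21_fam hroot hcw hbits ho hno
    ((inter_single_zero o (pt 0)).mpr h0) h1
  have h := relL_perm (L := [X0, A1]) hLm hσ hσn (inv3 hσn hσ0 hσ1)
  have e : (fun i => tw o (pt1 (-3) {none}) (σ i)) = tw (setOf root) (pt1 (-3) {none}) := by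
    have e0 := tw_pt1_smul σ (setOf root) {none} (-3)
    rw [hσo, Finset.smul_finset_singleton, Equiv.Perm.smul_def, hσn] at e0
    exact e0
  rw [e] at h
  exact h

theorem fam3A {a a' : GolayPt} (ha : a ≠ none) (ha0 : a ≠ pt 0) (ha1 : a ≠ pt 1)
    (ha' : a' ≠ none) (ha0' : a' ≠ pt 0) (ha1' : a' ≠ pt 1)
    (hLm : pat 4 {none, a} ∈ leechLattice) :
    RelL [X0, A1] (pat 4 {none, a}) (pat 4 {none, a'}) := by
  obtain ⟨σ, hσ, hmap⟩ := exists_mem_M24_map_list [none, pt 0, pt 1, a'] [none, pt 0, pt 1, a]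
    (by simp [ha'.symm, ha0'.symm, ha1'.symm]; decide)
    (by simp [ha.symm, ha0.symm, ha1.symm]; decide) rfl (by norm_num)
  simp only [List.map_cons, List.map_nil, List.cons.injEq, and_true] at hmap
  obtain ⟨hσn, hσ0, hσ1, hσa⟩ := hmap
  have h := relL_perm (L := [X0, A1]) hLm hσ hσn (inv3 hσn hσ0 hσ1)
  have e : (fun i => pat 4 {none, a} (σ i)) = pat 4 {none, a'} := by
    have e0 := pat_smul σ {none, a'} 4
    rw [Finset.smul_finset_insert, Finset.smul_finset_singleton, Equiv.Perm.smul_def,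
      Equiv.Perm.smul_def, hσn, hσa] at e0
    exact e0
  rw [e] at h
  exact h

/-! ### The fusing element -/

def tblN : List ℕ :=
  [0, 1, 2, 23, 22, 17, 7, 4, 18, 19, 16, 21, 13, 9, 14, 8, 11, 5, 20, 12, 15, 10, 6, 3]

theorem tblN_good : tabGood tblN = true := by decide +kernel
theorem tblN_ok : tabOK tblN = true := by decide +kernel

def sgN : Equiv.Perm GolayPt := tabPerm tblN tblN_good

theorem sgN_mem : sgN ∈ M24 := tabPerm_mem_M24 _ _ tblN_ok

theorem mixN_t0 : mixFun sgN ∅ t0 = t0 := by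
  funext k
  revert k
  decide +kernel

theorem mixN_x0 : mixFun sgN ∅ x0 = x0 := by
  funext k
  revert k
  decide +kernel

theorem mixN_a1 : mixFun sgN ∅ a1 = a1 := by
  funext k
  revert k
  decide +kernel

theorem mixN_1 : mixFun sgN ∅ (pat 4 {none, pt 3}) none = 2 := by decide +kernel

theorem mixN_2 : mixFun sgN ∅ (pat 4 {none, pt 4}) none = 3 := by decide +kernel

theorem mixN_3 : mixFun sgN ∅ (pat 2 (setOf 8391797)) none = 3 := by decide +kernel

theorem relN {w : GolayPt → ℤ} (hw : w ∈ leechLattice) :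
    RelL [X0, A1] w (mixFun sgN ∅ w) := by
  apply relL_mix hw empty_mem_supports sgN_mem mixN_t0
  intro b hb
  simp only [List.mem_cons, List.not_mem_nil, or_false] at hb
  rcases hb with rfl | rfl
  · exact mixN_x0
  · exact mixN_a1


/-! ### Classification relative to the triple -/

theorem dotA_A {a : GolayPt} (ha : a ≠ none) (ha1 : a ≠ pt 1) :
    dotInt a1 (pat 4 {none, a}) = 16 := by
  rw [dot_a1, (pA_props ha).2.2.2]
  unfold pat
  rw [if_neg (by
    rw [Finset.mem_insert, Finset.mem_singleton]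
    rintro (h | h)
    · exact absurd h (by decide)
    · exact ha1 h.symm)]
  norm_num

theorem dotA_B {o : Finset GolayPt} (hno : none ∈ o) :
    dotInt a1 (pat 2 o) = if pt 1 ∈ o then 16 else 8 := by
  rw [dot_a1]
  unfold pat
  rw [if_pos hno]
  split_ifs <;> norm_num

theorem dotA_D {o : Finset GolayPt} (ho : o ∈ octads) (hno : none ∈ o) :
    dotInt a1 (tw o (pt1 (-3) {none})) = if pt 1 ∈ o then 8 else 16 := by
  rw [dot_a1, (pD_props ho hno).2.2.2, tw_pt1_apply,
    if_neg (by decide : (pt 1 : GolayPt) ≠ none)]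
  split_ifs <;> norm_num

theorem rootB16_cw : isCW 8398155 = true := by decide +kernel
theorem rootB8_cw : isCW 8391797 = true := by decide +kernel
theorem rootD8_cw : isCW 8394986 = true := by decide +kernel
theorem rootD16_cw : isCW 8401364 = true := by decide +kernel

theorem rel3_root {y : GolayPt → ℤ} (hy : y ∈ XM) (hne : y ≠ a1) :
    (y none = 4 ∧ dotInt a1 y = 16 ∧ RelL [X0, A1] y (pat 4 {none, pt 3})) ∨
    (y none = 2 ∧ dotInt a1 y = 16 ∧ RelL [X0, A1] y (pat 2 (setOf 8398155))) ∨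
    (y none = 2 ∧ dotInt a1 y = 8 ∧ RelL [X0, A1] y (pat 2 (setOf 8391797))) ∨
    (y none = 3 ∧ dotInt a1 y = 8 ∧
      RelL [X0, A1] y (tw (setOf 8394986) (pt1 (-3) {none}))) ∨
    (y none = 3 ∧ dotInt a1 y = 16 ∧
      RelL [X0, A1] y (tw (setOf 8401364) (pt1 (-3) {none}))) := by
  rw [mem_XM] at hy
  obtain ⟨hL, hn, hd, hr⟩ := hy
  rcases McL_cases hL hn hd hr with ⟨hv, a, ha, ha0, rfl⟩ | ⟨hv, o, ho, hno, h0, rfl⟩ |
    ⟨hv, o, ho, hno, h0, rfl⟩
  · have ha1 : a ≠ pt 1 := by
      rintro rfl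
      exact hne rfl
    left
    exact ⟨hv, dotA_A ha ha1, fam3A ha ha0 ha1 (by decide) (by decide) (by decide) hL⟩
  · by_cases h1 : pt 1 ∈ o
    · right; left
      exact ⟨hv, by rw [dotA_B hno, if_pos h1], fam3B (by decide) rootB16_cw m21_orbit_b16 ho hno
        h0 ((inter_single_one o (pt 1)).mpr h1) hL⟩
    · right; right; left
      exact ⟨hv, by rw [dotA_B hno, if_neg h1], fam3B (by decide) rootB8_cw m21_orbit_b8 ho hno
        h0 ((inter_single_zero o (pt 1)).mpr h1) hL⟩
  · by_cases h1 : pt 1 ∈ o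
    · right; right; right; left
      exact ⟨hv, by rw [dotA_D ho hno, if_pos h1], fam3D (by decide) rootD8_cw m21_orbit_d8 ho
        hno h0 ((inter_single_one o (pt 1)).mpr h1) hL⟩
    · right; right; right; right
      exact ⟨hv, by rw [dotA_D ho hno, if_neg h1], fam3D (by decide) rootD16_cw m21_orbit_d16 ho
        hno h0 ((inter_single_zero o (pt 1)).mpr h1) hL⟩

theorem rel3_XM {y z : GolayPt → ℤ} (hy : y ∈ XM) (h : RelL [X0, A1] y z) :
    z ∈ XM ∧ dotInt a1 z = dotInt a1 y := by
  rw [mem_XM] at hy ⊢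
  exact ⟨⟨relL_right h, (relL_norm h).trans hy.2.1, (relL_dot0 h).trans hy.2.2.1,
    (relL_dotB h (b := X0) (by simp)).trans hy.2.2.2⟩, relL_dotB h (b := A1) (by simp)⟩

theorem pA_mem_XM {a : GolayPt} (ha : a ≠ none) (ha0 : a ≠ pt 0) : pat 4 {none, a} ∈ XM :=
  (mem_XM _).mpr ⟨(pA_props ha).1, (pA_props ha).2.1, (pA_props ha).2.2.1, pA_x0 ha ha0⟩

theorem rep8_oct : setOf 8391797 ∈ octads := setOf_mem_octads (by decide +kernel)

theorem rep8_pts : none ∈ setOf 8391797 ∧ pt 0 ∈ setOf 8391797 ∧ pt 1 ∉ setOf 8391797 := by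
  simp only [mem_setOf]
  decide

theorem rep8_mem_XM : pat 2 (setOf 8391797) ∈ XM :=
  (mem_XM _).mpr ⟨(pB_props rep8_oct rep8_pts.1).1, (pB_props rep8_oct rep8_pts.1).2.1,
    (pB_props rep8_oct rep8_pts.1).2.2.1, pB_x0 rep8_pts.1 rep8_pts.2.1⟩

theorem fuse3_1 : RelL [X0, A1] (pat 4 {none, pt 3}) (pat 2 (setOf 8398155)) := by
  have hm := pA_mem_XM (a := pt 3) (by decide) (by decide)
  have h := relN ((mem_XM _).mp hm).1
  obtain ⟨hz, hdz⟩ := rel3_XM hm h
  have hne : mixFun sgN ∅ (pat 4 {none, pt 3}) ≠ a1 := by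
    intro e
    have := congrFun e none
    rw [mixN_1, a1_props.2.2.2] at this
    norm_num at this
  rw [dotA_A (by decide) (by decide)] at hdz
  rcases rel3_root hz hne with ⟨hv, -, -⟩ | ⟨-, -, r⟩ | ⟨-, hd, -⟩ | ⟨hv, -, -⟩ | ⟨hv, -, -⟩
  · rw [mixN_1] at hv; norm_num at hv
  · exact relL_trans h r
  · omega
  · rw [mixN_1] at hv; norm_num at hv
  · rw [mixN_1] at hv; norm_num at hv

theorem fuse3_2 : RelL [X0, A1] (pat 4 {none, pt 4}) (tw (setOf 8401364) (pt1 (-3) {none})) := by
  have hm := pA_mem_XM (a := pt 4) (by decide) (by decide)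
  have h := relN ((mem_XM _).mp hm).1
  obtain ⟨hz, hdz⟩ := rel3_XM hm h
  have hne : mixFun sgN ∅ (pat 4 {none, pt 4}) ≠ a1 := by
    intro e
    have := congrFun e none
    rw [mixN_2, a1_props.2.2.2] at this
    norm_num at this
  rw [dotA_A (by decide) (by decide)] at hdz
  rcases rel3_root hz hne with ⟨hv, -, -⟩ | ⟨hv, -, -⟩ | ⟨hv, -, -⟩ | ⟨-, hd, -⟩ | ⟨-, -, r⟩
  · rw [mixN_2] at hv; norm_num at hv
  · rw [mixN_2] at hv; norm_num at hv
  · rw [mixN_2] at hv; norm_num at hv
  · omega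
  · exact relL_trans h r

theorem fuse3_3 :
    RelL [X0, A1] (pat 2 (setOf 8391797)) (tw (setOf 8394986) (pt1 (-3) {none})) := by
  have hm := rep8_mem_XM
  have h := relN ((mem_XM _).mp hm).1
  obtain ⟨hz, hdz⟩ := rel3_XM hm h
  have hne : mixFun sgN ∅ (pat 2 (setOf 8391797)) ≠ a1 := by
    intro e
    have := congrFun e none
    rw [mixN_3, a1_props.2.2.2] at this
    norm_num at this
  rw [dotA_B rep8_pts.1, if_neg rep8_pts.2.2] at hdz
  rcases rel3_root hz hne with ⟨hv, -, -⟩ | ⟨hv, -, -⟩ | ⟨hv, -, -⟩ | ⟨-, -, r⟩ | ⟨-, hd, -⟩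
  · rw [mixN_3] at hv; norm_num at hv
  · rw [mixN_3] at hv; norm_num at hv
  · rw [mixN_3] at hv; norm_num at hv
  · exact relL_trans h r
  · omega

theorem rel3_main {y : GolayPt → ℤ} (hy : y ∈ XM) (hne : y ≠ a1) :
    (dotInt a1 y = 16 ∧ RelL [X0, A1] y (pat 4 {none, pt 3})) ∨
    (dotInt a1 y = 8 ∧ RelL [X0, A1] y (pat 2 (setOf 8391797))) := by
  rcases rel3_root hy hne with ⟨-, hd, r⟩ | ⟨-, hd, r⟩ | ⟨-, hd, r⟩ | ⟨-, hd, r⟩ | ⟨-, hd, r⟩
  · exact Or.inl ⟨hd, r⟩
  · exact Or.inl ⟨hd, relL_trans r (relL_symm fuse3_1)⟩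
  · exact Or.inr ⟨hd, r⟩
  · exact Or.inr ⟨hd, relL_trans r (relL_symm fuse3_3)⟩
  · exact Or.inl ⟨hd, relL_trans r (relL_trans (relL_symm fuse3_2)
      (fam3A (by decide) (by decide) (by decide) (by decide) (by decide) (by decide)
        (pA_props (by decide)).1))⟩

/-! ### Counts -/

theorem card_split1 (s : Finset (Finset GolayPt)) :
    (s.filter (fun d => pt 1 ∈ d)).card + (s.filter (fun d => pt 1 ∉ d)).card = s.card :=
  Finset.card_filter_add_card_filter_not _

theorem ncard_oct_b16 :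
    {o : Finset GolayPt | o ∈ octads ∧ none ∈ o ∧ pt 0 ∈ o ∧ pt 1 ∈ o}.ncard = 21 := by
  have key : ∀ o : Finset GolayPt, (o ∈ octads ∧ none ∈ o ∧ pt 0 ∈ o ∧ pt 1 ∈ o) ↔
      (o ∈ supports (golayCode : Set (GolayPt → ZMod 2)) ∧
        HasProf (profSets 1 [(16777215, 8), (8388608, 1), (1, 1), (2, 1)]) o) := by
    intro o
    rw [profSets_cons, profSets_cons, profSets_cons, profSets_cons, profSets_nil, hasProf_cons,
      hasProf_cons, hasProf_cons, hasProf_cons, card_inter_full, one_smul, one_smul, one_smul,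
      setOf_top, setOf_one, setOf_two, inter_single_one, inter_single_one, inter_single_one]
    exact ⟨fun ⟨⟨h1, h2⟩, h3, h4, h5⟩ => ⟨h1, h2, h3, h4, h5, hasProf_nil _⟩,
      fun ⟨h1, h2, h3, h4, h5, _⟩ => ⟨⟨h1, h2⟩, h3, h4, h5⟩⟩
  have hlt : ∀ c ∈ [(16777215, 8), (8388608, 1), (1, 1), (2, 1)], c.1 < 2 ^ 24 := by
    intro c hc
    simp only [List.mem_cons, List.not_mem_nil, or_false] at hc
    rcases hc with rfl | rfl | rfl | rfl <;> decide
  rw [Set.ext key]
  exact (ncard_prof M24.one_mem _ hlt).trans m21_count_b16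

theorem ncard_oct_d8 :
    {o : Finset GolayPt | o ∈ octads ∧ none ∈ o ∧ pt 0 ∉ o ∧ pt 1 ∈ o}.ncard = 56 := by
  have key : ∀ o : Finset GolayPt, (o ∈ octads ∧ none ∈ o ∧ pt 0 ∉ o ∧ pt 1 ∈ o) ↔
      (o ∈ supports (golayCode : Set (GolayPt → ZMod 2)) ∧
        HasProf (profSets 1 [(16777215, 8), (8388608, 1), (1, 0), (2, 1)]) o) := by
    intro o
    rw [profSets_cons, profSets_cons, profSets_cons, profSets_cons, profSets_nil, hasProf_cons,
      hasProf_cons, hasProf_cons, hasProf_cons, card_inter_full, one_smul, one_smul, one_smul,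
      setOf_top, setOf_one, setOf_two, inter_single_one, inter_single_one, inter_single_zero]
    exact ⟨fun ⟨⟨h1, h2⟩, h3, h4, h5⟩ => ⟨h1, h2, h3, h4, h5, hasProf_nil _⟩,
      fun ⟨h1, h2, h3, h4, h5, _⟩ => ⟨⟨h1, h2⟩, h3, h4, h5⟩⟩
  have hlt : ∀ c ∈ [(16777215, 8), (8388608, 1), (1, 0), (2, 1)], c.1 < 2 ^ 24 := by
    intro c hc
    simp only [List.mem_cons, List.not_mem_nil, or_false] at hc
    rcases hc with rfl | rfl | rfl | rfl <;> decide
  rw [Set.ext key]
  exact (ncard_prof M24.one_mem _ hlt).trans m21_count_d8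

theorem card_b16 : (octI0.filter (fun o => pt 1 ∈ o)).card = 21 := by
  rw [← ncard_oct_b16, ← Set.ncard_coe_finset]
  congr 1
  ext o
  rw [Finset.mem_coe, Finset.mem_filter, mem_octI0, Set.mem_ofPred_eq]
  exact ⟨fun ⟨⟨h1, h2, h3⟩, h4⟩ => ⟨h1, h2, h3, h4⟩, fun ⟨h1, h2, h3, h4⟩ => ⟨⟨h1, h2, h3⟩, h4⟩⟩

theorem card_b8 : (octI0.filter (fun o => pt 1 ∉ o)).card = 56 := by
  have := card_split1 octI0
  rw [card_b16, card_octI0] at this
  omega

theorem card_d8 : (octI1.filter (fun o => pt 1 ∈ o)).card = 56 := by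
  rw [← ncard_oct_d8, ← Set.ncard_coe_finset]
  congr 1
  ext o
  rw [Finset.mem_coe, Finset.mem_filter, mem_octI1, Set.mem_ofPred_eq]
  exact ⟨fun ⟨⟨h1, h2, h3⟩, h4⟩ => ⟨h1, h2, h3, h4⟩, fun ⟨h1, h2, h3, h4⟩ => ⟨⟨h1, h2, h3⟩, h4⟩⟩

theorem card_d16 : (octI1.filter (fun o => pt 1 ∉ o)).card = 120 := by
  have := card_split1 octI1
  rw [card_d8, card_octI1] at this
  omega

theorem card_imgB (s : Finset (Finset GolayPt)) :
    (s.image (fun o => pat 2 o)).card = s.card := by
  apply Finset.card_image_of_injOn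
  intro o _ o' _ h
  exact pat_inj (v := 2) (by norm_num) h

theorem card_imgD (s : Finset (Finset GolayPt)) :
    (s.image (fun o => tw o (pt1 (-3) {none}))).card = s.card := by
  apply Finset.card_image_of_injOn
  intro d _ d' _ h
  have h' : tw d (pt1 (-3) {none}) = tw d' (pt1 (-3) {none}) := h
  rw [← resSet_tw (pt1_mod (v := -3) (by decide) {none}) d, h',
    resSet_tw (pt1_mod (v := -3) (by decide) {none}) d']

theorem card_imgA (s : Finset GolayPt) (hs : none ∉ s) :
    (s.image (fun a => pat 4 {none, a})).card = s.card := by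
  apply Finset.card_image_of_injOn
  intro a ha a' ha' h
  rw [Finset.mem_coe] at ha ha'
  have h2 : ({none, a} : Finset GolayPt) = {none, a'} := pat_inj (v := 4) (by norm_num) h
  have : a ∈ ({none, a'} : Finset GolayPt) := by
    rw [← h2]
    simp
  rw [Finset.mem_insert, Finset.mem_singleton] at this
  rcases this with h | h
  · rw [h] at ha
    exact absurd ha hs
  · exact h

/-- The points at inner product 8 from the reference point. -/
noncomputable def Y8 : Finset (GolayPt → ℤ) := XM.filter (fun y => dotInt a1 y = 8)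

/-- The further points at inner product 16 from the reference point. -/
noncomputable def Y16 : Finset (GolayPt → ℤ) := XM.filter (fun y => y ≠ a1 ∧ dotInt a1 y = 16)

theorem mem_Y8 (y : GolayPt → ℤ) : y ∈ Y8 ↔ y ∈ XM ∧ dotInt a1 y = 8 := by
  unfold Y8
  rw [Finset.mem_filter]

theorem mem_Y16 (y : GolayPt → ℤ) : y ∈ Y16 ↔ y ∈ XM ∧ y ≠ a1 ∧ dotInt a1 y = 16 := by
  unfold Y16
  rw [Finset.mem_filter]

theorem Y8_mem_lattice : ∀ y ∈ Y8, y ∈ leechLattice :=
  fun y hy => XM_mem_lattice y ((mem_Y8 y).mp hy).1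

theorem Y16_mem_lattice : ∀ y ∈ Y16, y ∈ leechLattice :=
  fun y hy => XM_mem_lattice y ((mem_Y16 y).mp hy).1

theorem y8_fibA : Y8.filter (fun x => x none = 4) = ∅ := by
  rw [Finset.filter_eq_empty_iff]
  intro y hy hv
  rw [mem_Y8, mem_XM] at hy
  obtain ⟨⟨hL, hn, hd, hr⟩, hda⟩ := hy
  rcases McL_cases hL hn hd hr with ⟨-, a, ha, ha0, rfl⟩ | ⟨h, -⟩ | ⟨h, -⟩
  · by_cases ha1 : a = pt 1
    · subst ha1
      revert hda
      decide +kernel
    · rw [dotA_A ha ha1] at hda
      norm_num at hda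
  · omega
  · omega

theorem y8_fibB : Y8.filter (fun x => x none = 2) =
    (octI0.filter (fun o => pt 1 ∉ o)).image (fun o => pat 2 o) := by
  ext y
  rw [Finset.mem_filter, Finset.mem_image, mem_Y8, mem_XM]
  constructor
  · rintro ⟨⟨⟨hL, hn, hd, hr⟩, hda⟩, hv⟩
    rcases McL_cases hL hn hd hr with ⟨h, -⟩ | ⟨-, o, ho, hno, h0, rfl⟩ | ⟨h, -⟩
    · omega
    · refine ⟨o, ?_, rfl⟩
      rw [Finset.mem_filter, mem_octI0]
      refine ⟨⟨ho, hno, h0⟩, ?_⟩
      intro h1
      rw [dotA_B hno, if_pos h1] at hda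
      norm_num at hda
    · omega
  · rintro ⟨o, ho, rfl⟩
    rw [Finset.mem_filter, mem_octI0] at ho
    obtain ⟨⟨ho, hno, h0⟩, h1⟩ := ho
    obtain ⟨p1, p2, p3, p4⟩ := pB_props ho hno
    exact ⟨⟨⟨p1, p2, p3, pB_x0 hno h0⟩, by rw [dotA_B hno, if_neg h1]⟩, p4⟩

theorem y8_fibD : Y8.filter (fun x => x none = 3) =
    (octI1.filter (fun o => pt 1 ∈ o)).image (fun o => tw o (pt1 (-3) {none})) := by
  ext y
  rw [Finset.mem_filter, Finset.mem_image, mem_Y8, mem_XM]
  constructor
  · rintro ⟨⟨⟨hL, hn, hd, hr⟩, hda⟩, hv⟩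
    rcases McL_cases hL hn hd hr with ⟨h, -⟩ | ⟨h, -⟩ | ⟨-, o, ho, hno, h0, rfl⟩
    · omega
    · omega
    · refine ⟨o, ?_, rfl⟩
      rw [Finset.mem_filter, mem_octI1]
      refine ⟨⟨ho, hno, h0⟩, ?_⟩
      by_contra h1
      rw [dotA_D ho hno, if_neg h1] at hda
      norm_num at hda
  · rintro ⟨o, ho, rfl⟩
    rw [Finset.mem_filter, mem_octI1] at ho
    obtain ⟨⟨ho, hno, h0⟩, h1⟩ := ho
    obtain ⟨p1, p2, p3, p4⟩ := pD_props ho hno
    exact ⟨⟨⟨p1, p2, p3, pD_x0 ho hno h0⟩, by rw [dotA_D ho hno, if_pos h1]⟩, p4⟩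

theorem card_Y8 : Y8.card = 112 := by
  rw [card_fib3 Y8 4 2 3 (by decide) (by decide) (by decide)
    (fun x hx => XM_vals ((mem_Y8 x).mp hx).1), y8_fibA, y8_fibB, y8_fibD, Finset.card_empty,
    card_imgB, card_imgD, card_b8, card_d8]

theorem y16_fibA : Y16.filter (fun x => x none = 4) =
    (pts22.erase (pt 1)).image (fun a => pat 4 {none, a}) := by
  ext y
  rw [Finset.mem_filter, Finset.mem_image, mem_Y16, mem_XM]
  constructor
  · rintro ⟨⟨⟨hL, hn, hd, hr⟩, hne, hda⟩, hv⟩
    rcases McL_cases hL hn hd hr with ⟨-, a, ha, ha0, rfl⟩ | ⟨h, -⟩ | ⟨h, -⟩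
    · refine ⟨a, ?_, rfl⟩
      rw [Finset.mem_erase, mem_pts22]
      refine ⟨?_, ha, ha0⟩
      rintro rfl
      exact hne rfl
    · omega
    · omega
  · rintro ⟨a, ha, rfl⟩
    rw [Finset.mem_erase, mem_pts22] at ha
    obtain ⟨ha1, ha, ha0⟩ := ha
    obtain ⟨p1, p2, p3, p4⟩ := pA_props ha
    refine ⟨⟨⟨p1, p2, p3, pA_x0 ha ha0⟩, ?_, dotA_A ha ha1⟩, p4⟩
    intro e
    have e2 := congrFun e (pt 1)
    rw [a1_apply, if_neg (by decide), if_pos rfl] at e2
    unfold pat at e2
    rw [if_neg (by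
      rw [Finset.mem_insert, Finset.mem_singleton]
      rintro (h | h)
      · exact absurd h (by decide)
      · exact ha1 h.symm)] at e2
    norm_num at e2

theorem y16_fibB : Y16.filter (fun x => x none = 2) =
    (octI0.filter (fun o => pt 1 ∈ o)).image (fun o => pat 2 o) := by
  ext y
  rw [Finset.mem_filter, Finset.mem_image, mem_Y16, mem_XM]
  constructor
  · rintro ⟨⟨⟨hL, hn, hd, hr⟩, hne, hda⟩, hv⟩
    rcases McL_cases hL hn hd hr with ⟨h, -⟩ | ⟨-, o, ho, hno, h0, rfl⟩ | ⟨h, -⟩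
    · omega
    · refine ⟨o, ?_, rfl⟩
      rw [Finset.mem_filter, mem_octI0]
      refine ⟨⟨ho, hno, h0⟩, ?_⟩
      by_contra h1
      rw [dotA_B hno, if_neg h1] at hda
      norm_num at hda
    · omega
  · rintro ⟨o, ho, rfl⟩
    rw [Finset.mem_filter, mem_octI0] at ho
    obtain ⟨⟨ho, hno, h0⟩, h1⟩ := ho
    obtain ⟨p1, p2, p3, p4⟩ := pB_props ho hno
    refine ⟨⟨⟨p1, p2, p3, pB_x0 hno h0⟩, ?_, by rw [dotA_B hno, if_pos h1]⟩, p4⟩
    intro e
    have e2 := congrFun e none
    rw [p4, a1_props.2.2.2] at e2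
    norm_num at e2

theorem y16_fibD : Y16.filter (fun x => x none = 3) =
    (octI1.filter (fun o => pt 1 ∉ o)).image (fun o => tw o (pt1 (-3) {none})) := by
  ext y
  rw [Finset.mem_filter, Finset.mem_image, mem_Y16, mem_XM]
  constructor
  · rintro ⟨⟨⟨hL, hn, hd, hr⟩, hne, hda⟩, hv⟩
    rcases McL_cases hL hn hd hr with ⟨h, -⟩ | ⟨h, -⟩ | ⟨-, o, ho, hno, h0, rfl⟩
    · omega
    · omega
    · refine ⟨o, ?_, rfl⟩
      rw [Finset.mem_filter, mem_octI1]
      refine ⟨⟨ho, hno, h0⟩, ?_⟩
      intro h1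
      rw [dotA_D ho hno, if_pos h1] at hda
      norm_num at hda
  · rintro ⟨o, ho, rfl⟩
    rw [Finset.mem_filter, mem_octI1] at ho
    obtain ⟨⟨ho, hno, h0⟩, h1⟩ := ho
    obtain ⟨p1, p2, p3, p4⟩ := pD_props ho hno
    refine ⟨⟨⟨p1, p2, p3, pD_x0 ho hno h0⟩, ?_, by rw [dotA_D ho hno, if_neg h1]⟩, p4⟩
    intro e
    have e2 := congrFun e none
    rw [p4, a1_props.2.2.2] at e2
    norm_num at e2

theorem card_pts21 : (pts22.erase (pt 1)).card = 21 := by decide

theorem none_not_mem_pts21 : none ∉ pts22.erase (pt 1) := by decide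

theorem card_Y16 : Y16.card = 162 := by
  rw [card_fib3 Y16 4 2 3 (by decide) (by decide) (by decide)
    (fun x hx => XM_vals ((mem_Y16 x).mp hx).1), y16_fibA, y16_fibB, y16_fibD,
    card_imgA _ none_not_mem_pts21, card_imgB, card_imgD, card_pts21, card_b16, card_d16]


/-! ### General position -/

/-- Statement S1581. -/
theorem mcl_rank3 (u v x : ↥leechLattice) (hu : sqNorm (u : GolayPt → ℤ) = 48)
    (hv : sqNorm (v : GolayPt → ℤ) = 32 ∧
      sqNorm ((u : GolayPt → ℤ) - (v : GolayPt → ℤ)) = 32)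
    (hx : x ∈ {x : ↥leechLattice | sqNorm (x : GolayPt → ℤ) = 32 ∧
      sqNorm ((u : GolayPt → ℤ) - (x : GolayPt → ℤ)) = 32 ∧
      dotInt (v : GolayPt → ℤ) (x : GolayPt → ℤ) = 16}) :
    {y : ↥leechLattice | y ∈ {x : ↥leechLattice | sqNorm (x : GolayPt → ℤ) = 32 ∧
      sqNorm ((u : GolayPt → ℤ) - (x : GolayPt → ℤ)) = 32 ∧
      dotInt (v : GolayPt → ℤ) (x : GolayPt → ℤ) = 16} ∧
      dotInt (x : GolayPt → ℤ) (y : GolayPt → ℤ) = 8}.ncard = 112 ∧
    {y : ↥leechLattice | y ∈ {x : ↥leechLattice | sqNorm (x : GolayPt → ℤ) = 32 ∧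
      sqNorm ((u : GolayPt → ℤ) - (x : GolayPt → ℤ)) = 32 ∧
      dotInt (v : GolayPt → ℤ) (x : GolayPt → ℤ) = 16} ∧ y ≠ x ∧
      dotInt (x : GolayPt → ℤ) (y : GolayPt → ℤ) = 16}.ncard = 162 ∧
    ∀ y ∈ {x : ↥leechLattice | sqNorm (x : GolayPt → ℤ) = 32 ∧
      sqNorm ((u : GolayPt → ℤ) - (x : GolayPt → ℤ)) = 32 ∧
      dotInt (v : GolayPt → ℤ) (x : GolayPt → ℤ) = 16},
    ∀ y' ∈ {x : ↥leechLattice | sqNorm (x : GolayPt → ℤ) = 32 ∧
      sqNorm ((u : GolayPt → ℤ) - (x : GolayPt → ℤ)) = 32 ∧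
      dotInt (v : GolayPt → ℤ) (x : GolayPt → ℤ) = 16},
    y ≠ x → y' ≠ x → dotInt (x : GolayPt → ℤ) (y : GolayPt → ℤ) =
      dotInt (x : GolayPt → ℤ) (y' : GolayPt → ℤ) →
    ∃ g : ↥Co0, g • u = u ∧ g • v = v ∧ g • x = x ∧ g • y = y' := by
  obtain ⟨k0, hk01, hk02⟩ := mcl_frame u v hu hv
  have hx0 := (mcl_key u v hu k0 hk01 hk02 x).mp hx
  have hx0' := (mem_XM _).mp hx0
  have r := rel_McL hx0'.1 hx0'.2.1 hx0'.2.2.1 hx0'.2.2.2
  have ra := rel_McL a1_props.1 a1_props.2.1 a1_props.2.2.1 (pA_x0 (by decide) (by decide))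
  obtain ⟨_, _, n, hn1, hn2, hn⟩ := relL_trans r (relL_symm ra)
  have hn' : n • (k0 • x) = A1 := hn
  have hk1 : (n * k0) • u = T0 := by rw [mul_smul, hk01, hn1]
  have hk2 : (n * k0) • v = X0 := by
    rw [mul_smul, hk02, hn2 X0 (List.mem_singleton_self _)]
  have hk3 : (n * k0) • x = A1 := by rw [mul_smul, hn']
  generalize n * k0 = k at hk1 hk2 hk3
  have key := mcl_key u v hu k hk1 hk2
  have dkey : ∀ y : ↥leechLattice, dotInt (x : GolayPt → ℤ) (y : GolayPt → ℤ) =
      dotInt a1 ((k • y : ↥leechLattice) : GolayPt → ℤ) := by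
    intro y
    have e := co0_dot k x y
    rw [hk3] at e
    exact e.symm
  have hneq : ∀ y : ↥leechLattice, ((k • y : ↥leechLattice) : GolayPt → ℤ) = a1 ↔ y = x := by
    intro y
    constructor
    · intro e
      exact MulAction.injective k ((Subtype.ext e : k • y = A1).trans hk3.symm)
    · rintro rfl
      rw [hk3]
      rfl
  refine ⟨?_, ?_, ?_⟩
  · have h8 : ∀ y : ↥leechLattice, y ∈ {y : ↥leechLattice |
        y ∈ {x : ↥leechLattice | sqNorm (x : GolayPt → ℤ) = 32 ∧
        sqNorm ((u : GolayPt → ℤ) - (x : GolayPt → ℤ)) = 32 ∧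
        dotInt (v : GolayPt → ℤ) (x : GolayPt → ℤ) = 16} ∧
        dotInt (x : GolayPt → ℤ) (y : GolayPt → ℤ) = 8} ↔
        ((k • y : ↥leechLattice) : GolayPt → ℤ) ∈ Y8 := by
      intro y
      rw [Set.mem_ofPred_eq, mem_Y8, dkey y]
      exact and_congr_left' (key y)
    exact (ncard_smul_val k _ Y8 Y8_mem_lattice h8).trans card_Y8
  · have h16 : ∀ y : ↥leechLattice, y ∈ {y : ↥leechLattice |
        y ∈ {x : ↥leechLattice | sqNorm (x : GolayPt → ℤ) = 32 ∧
        sqNorm ((u : GolayPt → ℤ) - (x : GolayPt → ℤ)) = 32 ∧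
        dotInt (v : GolayPt → ℤ) (x : GolayPt → ℤ) = 16} ∧ y ≠ x ∧
        dotInt (x : GolayPt → ℤ) (y : GolayPt → ℤ) = 16} ↔
        ((k • y : ↥leechLattice) : GolayPt → ℤ) ∈ Y16 := by
      intro y
      rw [Set.mem_ofPred_eq, mem_Y16, dkey y]
      exact and_congr (key y) (and_congr_left' (not_congr (hneq y).symm))
    exact (ncard_smul_val k _ Y16 Y16_mem_lattice h16).trans card_Y16
  · intro y hy y' hy' hne hne' hd
    have hm := (key y).mp hy
    have hm' := (key y').mp hy'
    have hq : ((k • y : ↥leechLattice) : GolayPt → ℤ) ≠ a1 := fun e => hne ((hneq y).mp e)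
    have hq' : ((k • y' : ↥leechLattice) : GolayPt → ℤ) ≠ a1 := fun e => hne' ((hneq y').mp e)
    rw [dkey y, dkey y'] at hd
    have R : RelL [X0, A1] ((k • y : ↥leechLattice) : GolayPt → ℤ)
        ((k • y' : ↥leechLattice) : GolayPt → ℤ) := by
      rcases rel3_main hm hq with ⟨d1, r1⟩ | ⟨d1, r1⟩ <;>
        rcases rel3_main hm' hq' with ⟨d2, r2⟩ | ⟨d2, r2⟩
      · exact relL_trans r1 (relL_symm r2)
      · omega
      · omega
      · exact relL_trans r1 (relL_symm r2)
    obtain ⟨_, _, m, hm1, hm2, hm3⟩ := R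
    have hm3' : m • (k • y) = k • y' := hm3
    refine ⟨k⁻¹ * m * k, ?_, ?_, ?_, ?_⟩
    · rw [mul_smul, mul_smul, hk1, hm1, ← hk1, inv_smul_smul]
    · rw [mul_smul, mul_smul, hk2, hm2 X0 (by simp), ← hk2, inv_smul_smul]
    · rw [mul_smul, mul_smul, hk3, hm2 A1 (by simp), ← hk3, inv_smul_smul]
    · rw [mul_smul, mul_smul, hm3', inv_smul_smul]

end Cfsg.Agent.Lib.helper28.XI
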