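import Cfsg.Agent.Lib.helper28.LeechMcL3

set_option autoImplicit false

namespace Cfsg.Agent.Lib.helper28.XI

open Cfsg
open Cfsg.Agent.Lib.helper28
open Cfsg.Agent.Lib.helper27
open Cfsg.Agent.Lib.helper28.LC
open scoped Pointwise

/-! The action of the stabiliser of a norm 48 vector and a minimal summand on the 2025 minimal
vectors `y` with `t0 · y = -16` and `x0 · y = 0`: transitivity and the three nontrivial orbits of
a point stabiliser. -/

def m22Gens : List (List ℕ × ℕ) :=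
  [([0, 16, 11, 9, 3, 17, 6, 15, 10, 12, 21, 18, 20, 22, 19, 4, 8, 2, 13, 1, 7, 14, 5, 23], 0x807c00807400803c00803400806c00806400802c00802400807800807000803800803000806800806000802800802000805c00805400801c00801400804c00804400800c00800400805800805000801800801000804800804000800800800000007c00007400003c00003400006c00006400002c00002400007800007000003800003000006800006000002800002000005c00005400001c00001400004c00004400000c000004000058000050000018000010000048000040000008000000002402a22400a22002a22000a20402a20400a20002a20000a22402222400222002222000220402220400220002220000222402a02400a02002a02000a00402a00400a00002a00000a024022024002020022020002004022004002000022000002024028224008220028220008204028204008200028200008224020224000220020220000204020204000200020200000224028024008020028020008004028004008000028000008024020024000020020020000004020004000000020000000011014c11010c01014c01010c10014c10010c00014c00010c1101441101040101440101041001441001040001440001041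1004c11000c01004c01000c10004c10000c00004c00000c1100441100040100440100041000441000040000440000041101481101080101480101081001481001080001480001081101401101000101400101001001401001000001400001001100481100080100480100081000481000080000480000081100401100000100400100001000401000000000400000004a80114a80104280114280104880114880104080114080104a80014a80004280014280004880014880004080014080004a00114a00104200114200104800114800104000114000104a00014a00004200014200004800014800004000014000000a80110a80100280110280100880110880100080110080100a80010a80000280010280000880010880000080010080000a00110a00100200110200100800110800100000110000100a00010a0000020001020000080001080000000001000000),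
   ([0, 17, 9, 1, 19, 4, 7, 21, 22, 8, 10, 13, 3, 11, 6, 5, 16, 12, 20, 15, 18, 14, 2, 23], 0x9401908401909401808401809001908001909001808001809401108401109401008401009001108001109001008001009400908400909400808400809000908000909000808000809400108400109400008400009000108000109000008000001401900401901401800401801001900001901001800001801401100401101401000401001001100001101001000001001400900400901400800400801000900000901000800000801400100400101400000400001000100000101000000000002b08022908022b00022900020b08020908020b00020900022308022108022300022100020308020108020300020100022a08022808022a00022800020a08020808020a00020800022208022008022200022000020208020008020200020000022b08002908002b00002900000b08000908000b00000900002308002108002300002100000308000108000300000100002a08002808002a00002800000a08000808000a00000800002208002008002200002000000208000008000200000000000066440026440066040026040064440024440064040024040066400026400066000026000064400024400064000024000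06244002244006204002204006044002044006004002004006240002240006200002200006040002040006000002000004644000644004604000604004444000444004404000404004640000640004600000600004440000440004400000400004244000244004204000204004044000044004004000004004240000240004200000200004040000040004000000000409029409028409021409020009029009028009021009020408029408028408021408020008029008028008021008020409009409008409001409000009009009008009001009000408009408008408001408000008009008008008001008000401029401028401021401020001029001028001021001020400029400028400021400020000029000028000021000020401009401008401001401000001009001008001001001000400009400008400001400000000009000008000001000000)]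

theorem m22Gens_ok : gensOKF [8388608, 1] m22Gens = true := by decide +kernel

theorem m22_count_c330 : countLt (fun n => profF [(16777215, 8), (8388608, 0), (1, 0)] (cwF n)) 4096 = 330 := by decide +kernel

theorem m22_orbit_c330 : profOrbitOK m22Gens 340 10558 [(16777215, 8), (8388608, 0), (1, 0)] = true := by decide +kernel

theorem m22_count_c176 : countLt (fun n => profF [(16777215, 8), (8388608, 0), (1, 1)] (cwF n)) 4096 = 176 := by decide +kernel

theorem m22_orbit_c176 : profOrbitOK m22Gens 186 5279 [(16777215, 8), (8388608, 0), (1, 1)] = true := by decide +kernel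

theorem m22_count_e616 : countLt (fun n => profF [(16777215, 12), (8388608, 0), (1, 0)] (cwF n)) 4096 = 616 := by decide +kernel

theorem m22_orbit_e616 : profOrbitOK m22Gens 626 57274 [(16777215, 12), (8388608, 0), (1, 0)] = true := by decide +kernel

theorem m22_count_e672 : countLt (fun n => profF [(16777215, 12), (8388608, 0), (1, 1)] (cwF n)) 4096 = 672 := by decide +kernel

theorem m22_orbit_e672 : profOrbitOK m22Gens 682 28637 [(16777215, 12), (8388608, 0), (1, 1)] = true := by decide +kernel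

/-! ### Octads with marked points -/

theorem extend5 {o : Finset GolayPt} (ho : o ∈ octads) (l : List GolayPt) (hl : l.Nodup)
    (h5 : l.length ≤ 5) (hlo : ∀ x ∈ l, x ∈ o) :
    ∃ t : List GolayPt, (l ++ t).Nodup ∧ (l ++ t).length = 5 ∧ ∀ x ∈ l ++ t, x ∈ o := by
  have hsub : l.toFinset ⊆ o := by
    intro x hx
    exact hlo x (List.mem_toFinset.mp hx)
  have hc : (o \ l.toFinset).card = 8 - l.length := by
    rw [Finset.card_sdiff_of_subset hsub, ho.2, List.toFinset_card_of_nodup hl]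
  obtain ⟨t, ht, htc⟩ := Finset.exists_subset_card_eq (s := o \ l.toFinset) (n := 5 - l.length)
    (by rw [hc]; omega)
  refine ⟨t.toList, ?_, ?_, ?_⟩
  · rw [List.nodup_append]
    refine ⟨hl, t.nodup_toList, ?_⟩
    intro a ha b hb hab
    rw [Finset.mem_toList] at hb
    have := Finset.mem_sdiff.mp (ht hb)
    exact this.2 (List.mem_toFinset.mpr (hab ▸ ha))
  · rw [List.length_append, Finset.length_toList, htc]
    omega
  · intro x hx
    rw [List.mem_append, Finset.mem_toList] at hx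
    rcases hx with hx | hx
    · exact hlo x hx
    · exact (Finset.mem_sdiff.mp (ht hx)).1

/-- The group of the code is transitive on octads with up to five marked points and a marked
point outside. -/
theorem exists_M24_octad_lists_out {o o' : Finset GolayPt} (ho : o ∈ octads) (ho' : o' ∈ octads)
    (l l' : List GolayPt) (hl : l.Nodup) (hl' : l'.Nodup) (hlen : l'.length = l.length)
    (h5 : l.length ≤ 5) (hlo : ∀ x ∈ l, x ∈ o) (hlo' : ∀ x ∈ l', x ∈ o') {q q' : GolayPt}
    (hq : q ∉ o) (hq' : q' ∉ o') :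
    ∃ σ ∈ M24, l'.map σ = l ∧ σ • o' = o ∧ σ q' = q := by
  obtain ⟨t, hn, hlen5, hmem⟩ := extend5 ho l hl h5 hlo
  obtain ⟨t', hn', hlen5', hmem'⟩ := extend5 ho' l' hl' (by rw [hlen]; exact h5) hlo'
  obtain ⟨σ, hσ, hmap⟩ := exists_mem_M24_map_list (l' ++ t') (l ++ t) hn' hn
    (by rw [hlen5, hlen5']) (by rw [hlen5'])
  rw [List.map_append] at hmap
  have hmap1 : l'.map σ = l := (List.append_inj hmap (by rw [List.length_map, hlen])).1
  have hF : (l ++ t).toFinset.card = 5 := by rw [List.toFinset_card_of_nodup hn, hlen5]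
  have hFo : (l ++ t).toFinset ⊆ o := fun x hx => hmem x (List.mem_toFinset.mp hx)
  have hσo : σ • o' = o := by
    apply (octads_isSteinerSystem.2 _ hF).unique ⟨smul_mem_octads hσ ho', ?_⟩ ⟨ho, hFo⟩
    intro x hx
    rw [List.mem_toFinset, ← hmap, ← List.map_append, List.mem_map] at hx
    obtain ⟨y, hy, rfl⟩ := hx
    have := Finset.smul_mem_smul_finset (a := σ) (hmem' y hy)
    rw [Equiv.Perm.smul_def] at this
    exact this
  have hz : σ q' ∉ o := by
    intro h
    rw [← hσo, ← Equiv.Perm.smul_def, Finset.smul_mem_smul_finset_iff] at h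
    exact hq' h
  obtain ⟨g, hg, hgz⟩ := fixer_five_trans hF ho hFo (p := σ q') (q := q)
    (fun h => hz (hFo h)) (fun h => hq (hFo h)) ⟨fun h => absurd h hz, fun h => absurd h hq⟩
  rw [mem_fixer] at hg
  refine ⟨g * σ, M24.mul_mem hg.1 hσ, ?_, ?_, ?_⟩
  · have : l'.map (g * σ) = (l'.map σ).map g := by
      rw [List.map_map]
      rfl
    rw [this, hmap1]
    conv_rhs => rw [← List.map_id l]
    apply List.map_congr_left
    intro x hx
    exact hg.2 x (List.mem_toFinset.mpr (List.mem_append_left t hx))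
  · rw [mul_smul, hσo]
    apply (octads_isSteinerSystem.2 _ hF).unique ⟨smul_mem_octads hg.1 ho, ?_⟩ ⟨ho, hFo⟩
    intro x hx
    have := Finset.smul_mem_smul_finset (a := g) (hFo hx)
    rw [Equiv.Perm.smul_def, hg.2 x hx] at this
    exact this
  · show g (σ q') = q
    exact hgz

/-- The group of the code is transitive on octads with up to five marked points. -/
theorem exists_M24_octad_lists {o o' : Finset GolayPt} (ho : o ∈ octads) (ho' : o' ∈ octads)
    (l l' : List GolayPt) (hl : l.Nodup) (hl' : l'.Nodup) (hlen : l'.length = l.length)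
    (h5 : l.length ≤ 5) (hlo : ∀ x ∈ l, x ∈ o) (hlo' : ∀ x ∈ l', x ∈ o') :
    ∃ σ ∈ M24, l'.map σ = l ∧ σ • o' = o := by
  obtain ⟨t, hn, hlen5, hmem⟩ := extend5 ho l hl h5 hlo
  obtain ⟨t', hn', hlen5', hmem'⟩ := extend5 ho' l' hl' (by rw [hlen]; exact h5) hlo'
  obtain ⟨σ, hσ, hmap⟩ := exists_mem_M24_map_list (l' ++ t') (l ++ t) hn' hn
    (by rw [hlen5, hlen5']) (by rw [hlen5'])
  rw [List.map_append] at hmap
  have hmap1 : l'.map σ = l := (List.append_inj hmap (by rw [List.length_map, hlen])).1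
  have hF : (l ++ t).toFinset.card = 5 := by rw [List.toFinset_card_of_nodup hn, hlen5]
  have hFo : (l ++ t).toFinset ⊆ o := fun x hx => hmem x (List.mem_toFinset.mp hx)
  refine ⟨σ, hσ, hmap1, ?_⟩
  apply (octads_isSteinerSystem.2 _ hF).unique ⟨smul_mem_octads hσ ho', ?_⟩ ⟨ho, hFo⟩
  intro x hx
  rw [List.mem_toFinset, ← hmap, ← List.map_append, List.mem_map] at hx
  obtain ⟨y, hy, rfl⟩ := hx
  have := Finset.smul_mem_smul_finset (a := σ) (hmem' y hy)
  rw [Equiv.Perm.smul_def] at this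
  exact this

/-! ### The stabiliser of the two points `none`, `0` -/

theorem m22_fam {root fuel w k0 k1 : ℕ} (hroot : root < 2 ^ 24) (hcw : isCW root = true)
    (hbits : profOrbitOK m22Gens fuel root [(16777215, w), (8388608, k0), (1, k1)] = true)
    {o : Finset GolayPt} (ho : o ∈ supports (golayCode : Set (GolayPt → ZMod 2)))
    (hw : o.card = w) (h0 : (o ∩ {none}).card = k0) (h1 : (o ∩ {pt 0}).card = k1) :
    ∃ σ ∈ M24, σ none = none ∧ σ (pt 0) = pt 0 ∧ σ • setOf root = o := by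
  have hlt : ∀ c ∈ [(16777215, w), (8388608, k0), (1, k1)], c.1 < 2 ^ 24 := by
    intro c hc
    simp only [List.mem_cons, List.not_mem_nil, or_false] at hc
    rcases hc with rfl | rfl | rfl <;> norm_num
  obtain ⟨g, hg, hgo⟩ := exists_stabM_smul_root_prof m22Gens_ok hroot hcw hlt hbits ho (by
    intro c hc
    simp only [List.mem_cons, List.not_mem_nil, or_false] at hc
    rcases hc with rfl | rfl | rfl
    · have := card_inter_full o 1
      rw [one_smul] at this
      rw [this]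
      exact hw
    · show (o ∩ setOf 8388608).card = k0
      rw [setOf_top]
      exact h0
    · show (o ∩ setOf 1).card = k1
      rw [setOf_one]
      exact h1)
  have hg' : g ∈ stabM [2 ^ 23, 2 ^ 0] := hg
  rw [mem_stabM_cons_pt (by norm_num), mem_stabM_cons_pt (by norm_num)] at hg'
  exact ⟨g, hg.1, hg'.2, hg'.1.2, hgo⟩


/-! ### Families under the stabiliser of `none` and `0` -/

theorem relL_mono {L L' : List ↥leechLattice} {x y : GolayPt → ℤ} (h : RelL L x y)
    (hL : ∀ b ∈ L', b ∈ L) : RelL L' x y := by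
  obtain ⟨hx, hy, g, hg0, hgb, hg⟩ := h
  exact ⟨hx, hy, g, hg0, fun b hb => hgb b (hL b hb), hg⟩

/-- The shape `(2^2, (-2)^6)` on an octad through `none` and `0`, with `+2` at `0` and `b`. -/
def vB (o : Finset GolayPt) (b : GolayPt) : GolayPt → ℤ := tw (o \ {pt 0, b}) (pat 2 o)

/-- The shape `(-2)^8` on an octad. -/
def vC (o : Finset GolayPt) : GolayPt → ℤ := tw o (pat 2 o)

/-- The shape `(-3, 1^7, (-1)^16)` with `1` on the octad and `-3` at `k`. -/
def vD (o : Finset GolayPt) (k : GolayPt) : GolayPt → ℤ := tw oᶜ (pt1 (-3) {k})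

theorem famQB {o o' : Finset GolayPt} (ho : o ∈ octads) (ho' : o' ∈ octads) (hno : none ∈ o)
    (h0 : pt 0 ∈ o) (hno' : none ∈ o') (h0' : pt 0 ∈ o') {b b' : GolayPt} (hb : b ∈ o)
    (hbn : b ≠ none) (hb0 : b ≠ pt 0) (hb' : b' ∈ o') (hbn' : b' ≠ none) (hb0' : b' ≠ pt 0)
    (hLm : vB o b ∈ leechLattice) : RelL [R1, X0] (vB o b) (vB o' b') := by
  obtain ⟨σ, hσ, hmap, hσo⟩ := exists_M24_octad_lists ho ho' [none, pt 0, b] [none, pt 0, b']
    (by simp [hbn.symm, hb0.symm]; decide) (by simp [hbn'.symm, hb0'.symm]; decide) rfl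
    (by norm_num) (by
      intro x hx
      simp only [List.mem_cons, List.not_mem_nil, or_false] at hx
      rcases hx with rfl | rfl | rfl <;> assumption) (by
      intro x hx
      simp only [List.mem_cons, List.not_mem_nil, or_false] at hx
      rcases hx with rfl | rfl | rfl <;> assumption)
  simp only [List.map_cons, List.map_nil, List.cons.injEq, and_true] at hmap
  obtain ⟨hσn, hσ0, hσb⟩ := hmap
  have h := relL_perm (L := [R1, X0]) hLm hσ hσn (fun c hc => inv22_RX c hc σ hσn hσ0)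
  have e : (fun i => vB o b (σ i)) = vB o' b' := by
    have e0 := tw_pat_smul σ (o' \ {pt 0, b'}) o' 2
    rw [Finset.smul_finset_sdiff, hσo, Finset.smul_finset_insert, Finset.smul_finset_singleton,
      Equiv.Perm.smul_def, Equiv.Perm.smul_def, hσ0, hσb] at e0
    exact e0
  rw [e] at h
  exact h

theorem rootC_cw : isCW 10558 = true := by decide +kernel

theorem famQC {o : Finset GolayPt} (ho : o ∈ octads) (hno : none ∉ o) (h0 : pt 0 ∉ o)
    (hLm : vC o ∈ leechLattice) : RelL [R1, X0] (vC o) (vC (setOf 10558)) := by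
  obtain ⟨σ, hσ, hσn, hσ0, hσo⟩ := m22_fam (by decide) rootC_cw m22_orbit_c330 ho.1 ho.2
    ((inter_single_zero o none).mpr hno) ((inter_single_zero o (pt 0)).mpr h0)
  have h := relL_perm (L := [R1, X0]) hLm hσ hσn (fun c hc => inv22_RX c hc σ hσn hσ0)
  have e : (fun i => vC o (σ i)) = vC (setOf 10558) := by
    have e0 := tw_pat_smul σ (setOf 10558) (setOf 10558) 2
    rw [hσo] at e0
    exact e0
  rw [e] at h
  exact h

theorem famQD {o o' : Finset GolayPt} (ho : o ∈ octads) (ho' : o' ∈ octads) (hno : none ∉ o)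
    (h0 : pt 0 ∈ o) (hno' : none ∉ o') (h0' : pt 0 ∈ o') {k k' : GolayPt} (hk : k ∈ o)
    (hk0 : k ≠ pt 0) (hk' : k' ∈ o') (hk0' : k' ≠ pt 0)
    (hLm : vD o k ∈ leechLattice) : RelL [R1, X0] (vD o k) (vD o' k') := by
  obtain ⟨σ, hσ, hmap, hσo, hσn⟩ := exists_M24_octad_lists_out ho ho' [pt 0, k] [pt 0, k']
    (by simp [hk0.symm]) (by simp [hk0'.symm]) rfl
    (by norm_num) (by
      intro x hx
      simp only [List.mem_cons, List.not_mem_nil, or_false] at hx
      rcases hx with rfl | rfl <;> assumption) (by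
      intro x hx
      simp only [List.mem_cons, List.not_mem_nil, or_false] at hx
      rcases hx with rfl | rfl <;> assumption) hno hno'
  simp only [List.map_cons, List.map_nil, List.cons.injEq, and_true] at hmap
  obtain ⟨hσ0, hσk⟩ := hmap
  have h := relL_perm (L := [R1, X0]) hLm hσ hσn (fun c hc => inv22_RX c hc σ hσn hσ0)
  have e : (fun i => vD o k (σ i)) = vD o' k' := by
    have e0 := tw_pt1_smul σ o'ᶜ {k'} (-3)
    rw [smul_compl_finset, hσo, Finset.smul_finset_singleton, Equiv.Perm.smul_def, hσk] at e0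
    exact e0
  rw [e] at h
  exact h

/-! ### Classification -/

/-- The 2025 vectors of the configuration for the reference pair. -/
noncomputable def YQ : Finset (GolayPt → ℤ) := XF.filter (fun y => dotInt x0 y = 0)

theorem mem_YQ (y : GolayPt → ℤ) :
    y ∈ YQ ↔ y ∈ leechLattice ∧ sqNorm y = 32 ∧ dotInt t0 y = -16 ∧ dotInt x0 y = 0 := by
  unfold YQ
  rw [Finset.mem_filter, mem_XF, and_assoc, and_assoc]

theorem YQ_mem_lattice : ∀ y ∈ YQ, y ∈ leechLattice := fun y hy => ((mem_YQ y).mp hy).1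

theorem YQ_cases {y : GolayPt → ℤ} (hy : y ∈ YQ) :
    (y none = -4 ∧ y = r1) ∨
    (y none = -2 ∧ ∃ o ∈ octads, none ∈ o ∧ pt 0 ∈ o ∧ ∃ b ∈ o, b ≠ none ∧ b ≠ pt 0 ∧
      y = vB o b) ∨
    (y none = 0 ∧ ∃ o ∈ octads, none ∉ o ∧ pt 0 ∉ o ∧ y = vC o) ∨
    (y none = -1 ∧ ∃ o ∈ octads, none ∉ o ∧ pt 0 ∈ o ∧ ∃ k ∈ o, k ≠ pt 0 ∧ y = vD o k) := by
  rw [mem_YQ] at hy
  obtain ⟨hL, hn, hd, hr⟩ := hy
  rw [dot_x0] at hr
  rcases X_cases hL hn hd with ⟨hv, a, ha, rfl⟩ | ⟨hv, o, ho, hno, a, b, hao, hbo, hab, han, hbn, rfl⟩ |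
    ⟨hv, o, ho, hno, rfl⟩ | ⟨hv, o, ho, hno, k, hk, rfl⟩ | ⟨hv, d, hd', hnd, rfl⟩
  · left
    refine ⟨hv, ?_⟩
    rw [hv] at hr
    have h0 : tw {none} (pat 4 {none, a}) (pt 0) = 4 := by omega
    have hm : pt 0 ∈ ({none, a} : Finset GolayPt) := by
      by_contra hm
      rw [tw_pat_not_mem 4 _ hm] at h0
      norm_num at h0
    rw [Finset.mem_insert, Finset.mem_singleton] at hm
    rcases hm with hm | hm
    · exact absurd hm (by decide)
    · rw [← hm]
      rfl
  · right; left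
    rw [hv] at hr
    have h0 : tw (o \ {a, b}) (pat 2 o) (pt 0) = 2 := by omega
    have h0o : pt 0 ∈ o := by
      by_contra hm
      rw [tw_pat_not_mem 2 _ hm] at h0
      norm_num at h0
    have h0ab : pt 0 ∈ ({a, b} : Finset GolayPt) := by
      by_contra hm
      unfold tw pat at h0
      rw [if_pos (Finset.mem_sdiff.mpr ⟨h0o, hm⟩), if_pos h0o] at h0
      norm_num at h0
    rw [Finset.mem_insert, Finset.mem_singleton] at h0ab
    refine ⟨hv, o, ho, hno, h0o, ?_⟩
    rcases h0ab with h | h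
    · exact ⟨b, hbo, hbn, fun e => hab (h.symm.trans e.symm), by rw [← h]; rfl⟩
    · exact ⟨a, hao, han, fun e => hab (e.trans h), by rw [← h, Finset.pair_comm]; rfl⟩
  · right; right; left
    rw [hv] at hr
    have h0 : tw o (pat 2 o) (pt 0) = 0 := by omega
    refine ⟨hv, o, ho, hno, ?_, rfl⟩
    intro hm
    rcases tw_pat_mem 2 o hm with h | h <;> rw [h] at h0 <;> norm_num at h0
  · right; right; right
    rw [hv] at hr
    have h0 : tw oᶜ (pt1 (-3) {k}) (pt 0) = 1 := by omega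
    rw [tw_pt1_apply] at h0
    have h0o : pt 0 ∈ o := by
      by_contra hm
      rw [if_pos (Finset.mem_compl.mpr hm)] at h0
      split_ifs at h0 <;> norm_num at h0
    have hk0 : k ≠ pt 0 := by
      intro e
      rw [if_neg (by rw [Finset.mem_compl]; exact fun h => h h0o), if_pos e.symm] at h0
      norm_num at h0
    exact ⟨hv, o, ho, hno, h0o, k, hk, hk0, rfl⟩
  · exfalso
    rw [hv] at hr
    have h0 : tw d (pt1 (-3) {none}) (pt 0) = 3 := by omega
    rw [tw_pt1_apply, if_neg (by decide : (pt 0 : GolayPt) ≠ none)] at h0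
    split_ifs at h0 <;> norm_num at h0

/-! ### Representatives and the fusing element -/

/-- The octad `{0, 2, 4, 5, 6, 10, 11, ∞}`. -/
def oQ : Finset GolayPt := setOf 8391797

theorem oQ_mem : oQ ∈ octads := rep8_oct

theorem oQ_pts : none ∈ oQ ∧ pt 0 ∈ oQ ∧ pt 4 ∈ oQ ∧ pt 5 ∈ oQ := by
  unfold oQ
  simp only [mem_setOf]
  decide

theorem rootC_oct : setOf 10558 ∈ octads := setOf_mem_octads (by decide +kernel)

theorem rootC_pts : none ∉ setOf 10558 ∧ pt 0 ∉ setOf 10558 := by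
  simp only [mem_setOf]
  decide

theorem o0_pt1 : pt 1 ∈ setOf o0 := by
  rw [mem_setOf]
  decide

def tblQ : List ℕ :=
  [0, 23, 1, 3, 6, 5, 15, 10, 11, 22, 13, 12, 8, 7, 14, 4, 19, 17, 18, 20, 16, 9, 21, 2]

theorem tblQ_good : tabGood tblQ = true := by decide +kernel
theorem tblQ_ok : tabOK tblQ = true := by decide +kernel

def sgQ : Equiv.Perm GolayPt := tabPerm tblQ tblQ_good

theorem sgQ_mem : sgQ ∈ M24 := tabPerm_mem_M24 _ _ tblQ_ok

theorem mixQ_t0 : mixFun sgQ ∅ t0 = t0 := by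
  funext k
  revert k
  decide +kernel

theorem mixQ_x0 : mixFun sgQ ∅ x0 = x0 := by
  funext k
  revert k
  decide +kernel

theorem mixQ_1 : mixFun sgQ ∅ r1 none = -2 := by decide +kernel

theorem mixQ_2 : mixFun sgQ ∅ (vB oQ (pt 5)) none = 0 := by decide +kernel

theorem mixQ_3 : mixFun sgQ ∅ (vB oQ (pt 4)) none = -1 := by decide +kernel

theorem relQ {w : GolayPt → ℤ} (hw : w ∈ leechLattice) : RelL [X0] w (mixFun sgQ ∅ w) := by
  apply relL_mix hw empty_mem_supports sgQ_mem mixQ_t0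
  intro b hb
  rw [List.mem_singleton] at hb
  subst hb
  exact mixQ_x0

theorem rel_YQ {y z : GolayPt → ℤ} (hy : y ∈ YQ) (h : RelL [X0] y z) : z ∈ YQ := by
  rw [mem_YQ] at hy ⊢
  exact ⟨relL_right h, (relL_norm h).trans hy.2.1, (relL_dot0 h).trans hy.2.2.1,
    (relL_dotB h (b := X0) (by simp)).trans hy.2.2.2⟩

theorem r1_mem_YQ : r1 ∈ YQ :=
  (mem_YQ r1).mpr ⟨r1_mem.1, r1_mem.2, r1_dot, by decide +kernel⟩

theorem vB_mem_YQ : ∀ b ∈ [pt 4, pt 5], vB oQ b ∈ YQ := by
  intro b hb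
  have hs : vB oQ b ∈ E1 := by
    unfold E1
    rw [mem_clsE]
    refine ⟨oQ, (mem_octadFinset _).mpr oQ_mem, oQ \ {pt 0, b}, ?_, rfl⟩
    rw [mem_par]
    refine ⟨Finset.sdiff_subset, ?_⟩
    simp only [List.mem_cons, List.not_mem_nil, or_false] at hb
    rcases hb with rfl | rfl <;> decide +kernel
  have hp := E1_props hs
  rw [mem_YQ]
  refine ⟨hp.1, hp.2.1, ?_, ?_⟩
  · simp only [List.mem_cons, List.not_mem_nil, or_false] at hb
    rcases hb with rfl | rfl <;> decide +kernel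
  · simp only [List.mem_cons, List.not_mem_nil, or_false] at hb
    rcases hb with rfl | rfl <;> decide +kernel

/-- Every vector of the configuration is related to its family representative by a coordinate
permutation fixing `none` and `0`. -/
theorem relQ_root {y : GolayPt → ℤ} (hy : y ∈ YQ) :
    (y none = -4 ∧ y = r1) ∨
    (y none = -2 ∧ RelL [R1, X0] y (vB oQ (pt 5))) ∨
    (y none = 0 ∧ RelL [R1, X0] y (vC (setOf 10558))) ∨
    (y none = -1 ∧ RelL [R1, X0] y (vD (setOf o0) (pt 1))) := by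
  have hL := YQ_mem_lattice y hy
  rcases YQ_cases hy with ⟨hv, h⟩ | ⟨hv, o, ho, hno, h0, b, hb, hbn, hb0, rfl⟩ |
    ⟨hv, o, ho, hno, h0, rfl⟩ | ⟨hv, o, ho, hno, h0, k, hk, hk0, rfl⟩
  · exact Or.inl ⟨hv, h⟩
  · right; left
    exact ⟨hv, famQB ho oQ_mem hno h0 oQ_pts.1 oQ_pts.2.1 hb hbn hb0 oQ_pts.2.2.2 (by decide)
      (by decide) hL⟩
  · right; right; left
    exact ⟨hv, famQC ho hno h0 hL⟩
  · right; right; right
    exact ⟨hv, famQD ho setOf_o0_mem_octads hno h0 o0_pts.1 o0_pts.2 hk hk0 o0_pt1 (by decide) hL⟩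

theorem weak {x y : GolayPt → ℤ} (h : RelL [R1, X0] x y) : RelL [X0] x y :=
  relL_mono h (by
    intro b hb
    rw [List.mem_singleton] at hb
    subst hb
    simp)

theorem fuseQ_1 : RelL [X0] r1 (vB oQ (pt 5)) := by
  have h := relQ r1_mem.1
  have hz := rel_YQ r1_mem_YQ h
  rcases relQ_root hz with ⟨hv, -⟩ | ⟨-, r⟩ | ⟨hv, -⟩ | ⟨hv, -⟩
  · rw [mixQ_1] at hv; norm_num at hv
  · exact relL_trans h (weak r)
  · rw [mixQ_1] at hv; norm_num at hv
  · rw [mixQ_1] at hv; norm_num at hv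

theorem fuseQ_2 : RelL [X0] (vB oQ (pt 5)) (vC (setOf 10558)) := by
  have hm := vB_mem_YQ (pt 5) (by simp)
  have h := relQ (YQ_mem_lattice _ hm)
  have hz := rel_YQ hm h
  rcases relQ_root hz with ⟨hv, -⟩ | ⟨hv, -⟩ | ⟨-, r⟩ | ⟨hv, -⟩
  · rw [mixQ_2] at hv; norm_num at hv
  · rw [mixQ_2] at hv; norm_num at hv
  · exact relL_trans h (weak r)
  · rw [mixQ_2] at hv; norm_num at hv

theorem fuseQ_3 : RelL [X0] (vB oQ (pt 4)) (vD (setOf o0) (pt 1)) := by
  have hm := vB_mem_YQ (pt 4) (by simp)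
  have h := relQ (YQ_mem_lattice _ hm)
  have hz := rel_YQ hm h
  rcases relQ_root hz with ⟨hv, -⟩ | ⟨hv, -⟩ | ⟨hv, -⟩ | ⟨-, r⟩
  · rw [mixQ_3] at hv; norm_num at hv
  · rw [mixQ_3] at hv; norm_num at hv
  · rw [mixQ_3] at hv; norm_num at hv
  · exact relL_trans h (weak r)

/-- The stabiliser of the reference pair is transitive on the configuration. -/
theorem relQ_main {y : GolayPt → ℤ} (hy : y ∈ YQ) : RelL [X0] y r1 := by
  have hB : RelL [X0] (vB oQ (pt 5)) r1 := relL_symm fuseQ_1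
  rcases relQ_root hy with ⟨-, h⟩ | ⟨-, r⟩ | ⟨-, r⟩ | ⟨-, r⟩
  · rw [h]
    exact relL_symm (relL_trans fuseQ_1 hB)
  · exact relL_trans (weak r) hB
  · exact relL_trans (weak r) (relL_trans (relL_symm fuseQ_2) hB)
  · have h45 : RelL [R1, X0] (vB oQ (pt 4)) (vB oQ (pt 5)) :=
      famQB oQ_mem oQ_mem oQ_pts.1 oQ_pts.2.1 oQ_pts.1 oQ_pts.2.1 oQ_pts.2.2.1 (by decide)
        (by decide) oQ_pts.2.2.2 (by decide) (by decide) (YQ_mem_lattice _ (vB_mem_YQ (pt 4) (by simp)))
    exact relL_trans (weak r) (relL_trans (relL_symm fuseQ_3) (relL_trans (weak h45) hB))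


/-! ### Counts -/

/-- The octads avoiding `none` and `0`. -/
def octNN : Finset (Finset GolayPt) := octN.filter (fun o => pt 0 ∉ o)

/-- The octads through `0` avoiding `none`. -/
def octN0 : Finset (Finset GolayPt) := octN.filter (fun o => pt 0 ∈ o)

theorem mem_octNN (o : Finset GolayPt) : o ∈ octNN ↔ o ∈ octads ∧ none ∉ o ∧ pt 0 ∉ o := by
  unfold octNN
  rw [Finset.mem_filter, mem_octN, and_assoc]

theorem mem_octN0 (o : Finset GolayPt) : o ∈ octN0 ↔ o ∈ octads ∧ none ∉ o ∧ pt 0 ∈ o := by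
  unfold octN0
  rw [Finset.mem_filter, mem_octN, and_assoc]

theorem ncard_oct_c330 :
    {o : Finset GolayPt | o ∈ octads ∧ none ∉ o ∧ pt 0 ∉ o}.ncard = 330 := by
  have key : ∀ o : Finset GolayPt, (o ∈ octads ∧ none ∉ o ∧ pt 0 ∉ o) ↔
      (o ∈ supports (golayCode : Set (GolayPt → ZMod 2)) ∧
        HasProf (profSets 1 [(16777215, 8), (8388608, 0), (1, 0)]) o) := by
    intro o
    rw [profSets_cons, profSets_cons, profSets_cons, profSets_nil, hasProf_cons,
      hasProf_cons, hasProf_cons, card_inter_full, one_smul, one_smul,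
      setOf_top, setOf_one, inter_single_zero, inter_single_zero]
    exact ⟨fun ⟨⟨h1, h2⟩, h3, h4⟩ => ⟨h1, h2, h3, h4, hasProf_nil _⟩,
      fun ⟨h1, h2, h3, h4, _⟩ => ⟨⟨h1, h2⟩, h3, h4⟩⟩
  have hlt : ∀ c ∈ [(16777215, 8), (8388608, 0), (1, 0)], c.1 < 2 ^ 24 := by
    intro c hc
    simp only [List.mem_cons, List.not_mem_nil, or_false] at hc
    rcases hc with rfl | rfl | rfl <;> decide
  rw [Set.ext key]
  exact (ncard_prof M24.one_mem _ hlt).trans m22_count_c330

theorem card_octNN : octNN.card = 330 := by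
  rw [← ncard_oct_c330, ← Set.ncard_coe_finset]
  congr 1
  ext o
  rw [Finset.mem_coe, mem_octNN, Set.mem_ofPred_eq]

theorem sub_of_split' {a b n : ℕ} (h1 : a + b = n) (m k : ℕ) (hb : b = k) (hn : n = m + k) :
    a = m := by omega

theorem card_octN0 : octN0.card = 176 :=
  sub_of_split' (card_split0 octN) 176 330 card_octNN card_octN

theorem vB_props {o : Finset GolayPt} (ho : o ∈ octads) (hno : none ∈ o) (h0 : pt 0 ∈ o)
    {b : GolayPt} (hb : b ∈ o) (hbn : b ≠ none) (hb0 : b ≠ pt 0) :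
    vB o b ∈ YQ ∧ vB o b none = -2 := by
  have hq : ({pt 0, b} : Finset GolayPt) ⊆ o.erase none := by
    intro j hj
    rw [Finset.mem_insert, Finset.mem_singleton] at hj
    rcases hj with rfl | rfl
    · exact Finset.mem_erase.mpr ⟨by decide, h0⟩
    · exact Finset.mem_erase.mpr ⟨hbn, hb⟩
  obtain ⟨h1, h2, h3, h4⟩ := P2 ho hno hq (Finset.card_pair hb0.symm)
  refine ⟨(mem_YQ _).mpr ⟨h1, h2, h3, ?_⟩, h4⟩
  have h5 : tw (o \ {pt 0, b}) (pat 2 o) (pt 0) = 2 := by
    unfold tw pat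
    rw [if_neg (by
      rw [Finset.mem_sdiff]
      rintro ⟨-, h⟩
      exact h (Finset.mem_insert_self _ _)), if_pos h0]
  show dotInt x0 (tw (o \ {pt 0, b}) (pat 2 o)) = 0
  rw [dot_x0, h4, h5]
  norm_num

theorem vC_props {o : Finset GolayPt} (ho : o ∈ octads) (hno : none ∉ o) (h0 : pt 0 ∉ o) :
    vC o ∈ YQ ∧ vC o none = 0 := by
  obtain ⟨h1, h2, h3, h4⟩ := P3 ho hno
  refine ⟨(mem_YQ _).mpr ⟨h1, h2, h3, ?_⟩, h4⟩
  show dotInt x0 (tw o (pat 2 o)) = 0
  rw [dot_x0, h4, tw_pat_not_mem 2 o h0]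
  norm_num

theorem vD_props {o : Finset GolayPt} (ho : o ∈ octads) (hno : none ∉ o) (h0 : pt 0 ∈ o)
    {k : GolayPt} (hk : k ∈ o) (hk0 : k ≠ pt 0) : vD o k ∈ YQ ∧ vD o k none = -1 := by
  obtain ⟨h1, h2, h3, h4⟩ := P4 ho hno hk
  refine ⟨(mem_YQ _).mpr ⟨h1, h2, h3, ?_⟩, h4⟩
  show dotInt x0 (tw oᶜ (pt1 (-3) {k})) = 0
  rw [dot_x0, h4, tw_pt1_apply, if_neg (by rw [Finset.mem_compl]; exact fun h => h h0),
    if_neg (fun e => hk0 e.symm)]
  norm_num

noncomputable def QB : Finset (GolayPt → ℤ) :=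
  cls octI0 (fun o => (o.erase none).erase (pt 0)) (fun o b => vB o b)

noncomputable def QC : Finset (GolayPt → ℤ) := octNN.image vC

noncomputable def QD : Finset (GolayPt → ℤ) :=
  cls octN0 (fun o => o.erase (pt 0)) (fun o k => vD o k)

theorem card_QB : QB.card = 462 := by
  have hinj : ∀ o ∈ octI0, ∀ b ∈ (o.erase none).erase (pt 0), ∀ o' ∈ octI0,
      ∀ b' ∈ (o'.erase none).erase (pt 0), vB o b = vB o' b' → o = o' ∧ b = b' := by
    intro o ho b hb o' ho' b' hb' h
    rw [mem_octI0] at ho ho'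
    rw [Finset.mem_erase, Finset.mem_erase] at hb hb'
    obtain ⟨h1, h2⟩ := tw_pat_inj (v := 2) (by norm_num) Finset.sdiff_subset Finset.sdiff_subset h
    subst h1
    refine ⟨rfl, ?_⟩
    have hs : ({pt 0, b} : Finset GolayPt) ⊆ o := by
      intro j hj
      rw [Finset.mem_insert, Finset.mem_singleton] at hj
      rcases hj with rfl | rfl
      · exact ho.2.2
      · exact hb.2.2
    have hs' : ({pt 0, b'} : Finset GolayPt) ⊆ o := by
      intro j hj
      rw [Finset.mem_insert, Finset.mem_singleton] at hj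
      rcases hj with rfl | rfl
      · exact ho.2.2
      · exact hb'.2.2
    have h3 : ({pt 0, b} : Finset GolayPt) = {pt 0, b'} := by
      rw [← Finset.sdiff_sdiff_eq_self hs, h2, Finset.sdiff_sdiff_eq_self hs']
    have : b ∈ ({pt 0, b'} : Finset GolayPt) := by
      rw [← h3]
      simp
    rw [Finset.mem_insert, Finset.mem_singleton] at this
    rcases this with h | h
    · exact absurd h hb.1
    · exact h
  have hK : ∀ o ∈ octI0, ((o.erase none).erase (pt 0)).card = 6 := by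
    intro o ho
    rw [mem_octI0] at ho
    rw [Finset.card_erase_of_mem (Finset.mem_erase.mpr ⟨by decide, ho.2.2⟩),
      Finset.card_erase_of_mem ho.2.1, ho.1.2]
  unfold QB
  rw [card_cls _ _ _ hinj 6 hK, card_octI0]

theorem card_QC : QC.card = 330 := by
  unfold QC
  rw [Finset.card_image_of_injOn, card_octNN]
  intro o _ o' _ h
  exact (tw_pat_inj (v := 2) (by norm_num) (Finset.Subset.refl _) (Finset.Subset.refl _) h).1

theorem card_QD : QD.card = 1232 := by
  have hinj : ∀ o ∈ octN0, ∀ k ∈ o.erase (pt 0), ∀ o' ∈ octN0, ∀ k' ∈ o'.erase (pt 0),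
      vD o k = vD o' k' → o = o' ∧ k = k' := by
    intro o _ k _ o' _ k' _ h
    have h' : tw oᶜ (pt1 (-3) {k}) = tw o'ᶜ (pt1 (-3) {k'}) := h
    have hcc : oᶜ = o'ᶜ := by
      rw [← resSet_tw (pt1_mod (v := -3) (by decide) {k}) oᶜ, h',
        resSet_tw (pt1_mod (v := -3) (by decide) {k'}) o'ᶜ]
    have hoo : o = o' := compl_injective hcc
    subst hoo
    refine ⟨rfl, ?_⟩
    have h2 : pt1 (-3) {k} = pt1 (-3) {k'} := by
      rw [← tw_tw oᶜ (pt1 (-3) {k}), h', tw_tw]
    exact pt1_inj h2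
  have hK : ∀ o ∈ octN0, (o.erase (pt 0)).card = 7 := by
    intro o ho
    rw [mem_octN0] at ho
    rw [Finset.card_erase_of_mem ho.2.2, ho.1.2]
  unfold QD
  rw [card_cls _ _ _ hinj 7 hK, card_octN0]

theorem r1_none : r1 none = -4 := by decide +kernel

theorem qfib1 : YQ.filter (fun x => x none = -4) = {r1} := by
  ext y
  rw [Finset.mem_filter, Finset.mem_singleton]
  constructor
  · rintro ⟨hy, hv⟩
    rcases YQ_cases hy with ⟨-, h⟩ | ⟨h, -⟩ | ⟨h, -⟩ | ⟨h, -⟩
    · exact h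
    all_goals omega
  · rintro rfl
    exact ⟨r1_mem_YQ, r1_none⟩

theorem qfib2 : YQ.filter (fun x => x none = -2) = QB := by
  ext y
  unfold QB
  rw [Finset.mem_filter, mem_cls]
  constructor
  · rintro ⟨hy, hv⟩
    rcases YQ_cases hy with ⟨h, -⟩ | ⟨-, o, ho, hno, h0, b, hb, hbn, hb0, rfl⟩ | ⟨h, -⟩ | ⟨h, -⟩
    · omega
    · exact ⟨o, (mem_octI0 o).mpr ⟨ho, hno, h0⟩, b,
        Finset.mem_erase.mpr ⟨hb0, Finset.mem_erase.mpr ⟨hbn, hb⟩⟩, rfl⟩
    all_goals omega
  · rintro ⟨o, ho, b, hb, rfl⟩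
    rw [mem_octI0] at ho
    rw [Finset.mem_erase, Finset.mem_erase] at hb
    exact vB_props ho.1 ho.2.1 ho.2.2 hb.2.2 hb.2.1 hb.1

theorem qfib3 : YQ.filter (fun x => x none = 0) = QC := by
  ext y
  unfold QC
  rw [Finset.mem_filter, Finset.mem_image]
  constructor
  · rintro ⟨hy, hv⟩
    rcases YQ_cases hy with ⟨h, -⟩ | ⟨h, -⟩ | ⟨-, o, ho, hno, h0, rfl⟩ | ⟨h, -⟩
    · omega
    · omega
    · exact ⟨o, (mem_octNN o).mpr ⟨ho, hno, h0⟩, rfl⟩
    · omega
  · rintro ⟨o, ho, rfl⟩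
    rw [mem_octNN] at ho
    exact vC_props ho.1 ho.2.1 ho.2.2

theorem qfib4 : YQ.filter (fun x => x none = -1) = QD := by
  ext y
  unfold QD
  rw [Finset.mem_filter, mem_cls]
  constructor
  · rintro ⟨hy, hv⟩
    rcases YQ_cases hy with ⟨h, -⟩ | ⟨h, -⟩ | ⟨h, -⟩ | ⟨-, o, ho, hno, h0, k, hk, hk0, rfl⟩
    · omega
    · omega
    · omega
    · exact ⟨o, (mem_octN0 o).mpr ⟨ho, hno, h0⟩, k, Finset.mem_erase.mpr ⟨hk0, hk⟩, rfl⟩
  · rintro ⟨o, ho, k, hk, rfl⟩
    rw [mem_octN0] at ho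
    rw [Finset.mem_erase] at hk
    exact vD_props ho.1 ho.2.1 ho.2.2 hk.2 hk.1

theorem YQ_vals {y : GolayPt → ℤ} (hy : y ∈ YQ) :
    y none = -4 ∨ y none = -2 ∨ y none = 0 ∨ y none = -1 := by
  rcases YQ_cases hy with ⟨h, -⟩ | ⟨h, -⟩ | ⟨h, -⟩ | ⟨h, -⟩
  · exact Or.inl h
  · exact Or.inr (Or.inl h)
  · exact Or.inr (Or.inr (Or.inl h))
  · exact Or.inr (Or.inr (Or.inr h))

theorem qfib5 : YQ.filter (fun x => x none = -3) = ∅ := by
  rw [Finset.filter_eq_empty_iff]
  intro y hy hv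
  rcases YQ_vals hy with h | h | h | h <;> omega

theorem card_YQ : YQ.card = 2025 := by
  have hvals : ∀ x ∈ YQ, x none = -4 ∨ x none = -2 ∨ x none = 0 ∨ x none = -1 ∨ x none = -3 := by
    intro x hx
    rcases YQ_vals hx with h | h | h | h
    · exact Or.inl h
    · exact Or.inr (Or.inl h)
    · exact Or.inr (Or.inr (Or.inl h))
    · exact Or.inr (Or.inr (Or.inr (Or.inl h)))
  rw [card_fib5 YQ hvals, qfib1, qfib2, qfib3, qfib4, qfib5, Finset.card_singleton, card_QB,
    card_QC, card_QD, Finset.card_empty]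

/-- Two vectors of the configuration other than `r1` with the same value at `none` are related
by a coordinate permutation fixing `none` and `0`. -/
theorem relQ_fam {y z : GolayPt → ℤ} (hy : y ∈ YQ) (hz : z ∈ YQ) (hne : y none ≠ -4)
    (h : y none = z none) : RelL [R1, X0] y z := by
  rcases relQ_root hy with ⟨hv, -⟩ | ⟨hv, r⟩ | ⟨hv, r⟩ | ⟨hv, r⟩
  · exact absurd hv hne
  all_goals
    rcases relQ_root hz with ⟨hv', -⟩ | ⟨hv', r'⟩ | ⟨hv', r'⟩ | ⟨hv', r'⟩
    all_goals first | exact relL_trans r (relL_symm r') | omega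

/-! ### General position -/

theorem fix_vw (g : ↥Co0) (v w : ↥leechLattice) (h1 : g • (-(v + w)) = -(v + w))
    (h2 : g • (-v) = -v) : g • v = v ∧ g • w = w := by
  have hv : g • v = v := by
    rw [SC.smul_neg'] at h2
    exact neg_injective h2
  refine ⟨hv, ?_⟩
  rw [SC.smul_neg', co0_add, hv] at h1
  exact add_left_cancel (neg_injective h1)

theorem fix_neg (g : ↥Co0) (v w : ↥leechLattice) (h1 : g • v = v) (h2 : g • w = w) :
    g • (-(v + w)) = -(v + w) ∧ g • (-v) = -v := by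
  constructor
  · rw [SC.smul_neg', co0_add, h1, h2]
  · rw [SC.smul_neg', h1]

theorem q_dots (v w : ↥leechLattice) (k : ↥Co0) (hk1 : k • (-(v + w)) = T0)
    (hk2 : k • (-v) = X0) (x : ↥leechLattice) :
    dotInt t0 ((k • x : ↥leechLattice) : GolayPt → ℤ) =
      -(dotInt (v : GolayPt → ℤ) (x : GolayPt → ℤ) + dotInt (w : GolayPt → ℤ) (x : GolayPt → ℤ)) ∧
    dotInt x0 ((k • x : ↥leechLattice) : GolayPt → ℤ) =
      -dotInt (v : GolayPt → ℤ) (x : GolayPt → ℤ) := by
  have e1 := co0_dot k (-(v + w)) x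
  rw [hk1, dot_neg_sum'] at e1
  have e2 := co0_dot k (-v) x
  rw [hk2] at e2
  refine ⟨e1, e2.trans ?_⟩
  show dotInt (-(v : GolayPt → ℤ)) (x : GolayPt → ℤ) = _
  rw [dot_comm, dotInt_neg_right, dot_comm]

theorem q_key (v w : ↥leechLattice) (k : ↥Co0) (hk1 : k • (-(v + w)) = T0)
    (hk2 : k • (-v) = X0) (x : ↥leechLattice) :
    (sqNorm (x : GolayPt → ℤ) = 32 ∧ dotInt (v : GolayPt → ℤ) (x : GolayPt → ℤ) = 0 ∧
      dotInt (w : GolayPt → ℤ) (x : GolayPt → ℤ) = 16) ↔
      ((k • x : ↥leechLattice) : GolayPt → ℤ) ∈ YQ := by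
  rw [mem_YQ]
  obtain ⟨e1, e2⟩ := q_dots v w k hk1 hk2 x
  have e3 := co0_norm k x
  rw [e1, e2, e3]
  constructor
  · rintro ⟨h1, h2, h3⟩
    exact ⟨(k • x).2, h1, by omega, by omega⟩
  · rintro ⟨-, h1, h2, h3⟩
    exact ⟨h1, by omega, by omega⟩

theorem q_none (v x : ↥leechLattice) (k : ↥Co0) (hk2 : k • (-v) = X0) (hk3 : k • x = R1)
    (z : ↥leechLattice) :
    8 * ((k • z : ↥leechLattice) : GolayPt → ℤ) none =
      -dotInt (v : GolayPt → ℤ) (z : GolayPt → ℤ) -
        dotInt (x : GolayPt → ℤ) (z : GolayPt → ℤ) := by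
  have e2 := co0_dot k (-v) z
  rw [hk2] at e2
  have e2' : dotInt x0 ((k • z : ↥leechLattice) : GolayPt → ℤ) =
      -dotInt (v : GolayPt → ℤ) (z : GolayPt → ℤ) := by
    refine e2.trans ?_
    show dotInt (-(v : GolayPt → ℤ)) (z : GolayPt → ℤ) = _
    rw [dot_comm, dotInt_neg_right, dot_comm]
  have e3 := co0_dot k x z
  rw [hk3] at e3
  have e3' : dotInt r1 ((k • z : ↥leechLattice) : GolayPt → ℤ) =
      dotInt (x : GolayPt → ℤ) (z : GolayPt → ℤ) := e3
  rw [dot_x0] at e2'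
  rw [dot_r1] at e3'
  omega

theorem q_orbit (v w x : ↥leechLattice) (k : ↥Co0) (hk1 : k • (-(v + w)) = T0)
    (hk2 : k • (-v) = X0) (hk3 : k • x = R1) (y : ↥leechLattice)
    (hy : ((k • y : ↥leechLattice) : GolayPt → ℤ) ∈ YQ) (c : ℤ)
    (hc : ((k • y : ↥leechLattice) : GolayPt → ℤ) none = c) (hc4 : c ≠ -4) :
    (MulAction.orbit ↥(MulAction.stabilizer ↥Co0 v ⊓ MulAction.stabilizer ↥Co0 w ⊓
      MulAction.stabilizer ↥Co0 x) y).ncard = (YQ.filter (fun z => z none = c)).card := by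
  apply ncard_smul_val k _ _ (fun z hz => YQ_mem_lattice z (Finset.mem_filter.mp hz).1)
  intro z
  rw [MulAction.mem_orbit_iff, Finset.mem_filter]
  constructor
  · rintro ⟨⟨g, hg⟩, rfl⟩
    rw [Subgroup.mem_inf, Subgroup.mem_inf, MulAction.mem_stabilizer_iff,
      MulAction.mem_stabilizer_iff, MulAction.mem_stabilizer_iff] at hg
    obtain ⟨⟨hgv, hgw⟩, hgx⟩ := hg
    show ((k • (g • y) : ↥leechLattice) : GolayPt → ℤ) ∈ YQ ∧
      ((k • (g • y) : ↥leechLattice) : GolayPt → ℤ) none = c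
    have d1 := co0_dot g v y
    rw [hgv] at d1
    have d2 := co0_dot g w y
    rw [hgw] at d2
    have d3 := co0_dot g x y
    rw [hgx] at d3
    have d4 := co0_norm g y
    obtain ⟨p1, p2, p3⟩ := (q_key v w k hk1 hk2 y).mpr hy
    refine ⟨(q_key v w k hk1 hk2 (g • y)).mp ⟨d4.trans p1, d1.trans p2, d2.trans p3⟩, ?_⟩
    have n1 := q_none v x k hk2 hk3 (g • y)
    have n2 := q_none v x k hk2 hk3 y
    rw [d1, d3] at n1
    omega
  · rintro ⟨hz, hzc⟩
    obtain ⟨_, _, n, hn1, hn2, hn3⟩ := relQ_fam hy hz (by rw [hc]; exact hc4) (by rw [hc, hzc])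
    have hn3' : n • (k • y) = k • z := hn3
    have g1 : (k⁻¹ * n * k) • (-(v + w)) = -(v + w) := by
      rw [mul_smul, mul_smul, hk1, hn1, ← hk1, inv_smul_smul]
    have g2 : (k⁻¹ * n * k) • (-v) = -v := by
      rw [mul_smul, mul_smul, hk2, hn2 X0 (by simp), ← hk2, inv_smul_smul]
    have g3 : (k⁻¹ * n * k) • x = x := by
      rw [mul_smul, mul_smul, hk3, hn2 R1 (by simp), ← hk3, inv_smul_smul]
    obtain ⟨g4, g5⟩ := fix_vw _ v w g1 g2
    refine ⟨⟨k⁻¹ * n * k, ?_⟩, ?_⟩
    · rw [Subgroup.mem_inf, Subgroup.mem_inf, MulAction.mem_stabilizer_iff,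
        MulAction.mem_stabilizer_iff, MulAction.mem_stabilizer_iff]
      exact ⟨⟨g4, g5⟩, g3⟩
    · show (k⁻¹ * n * k) • y = z
      rw [mul_smul, mul_smul, hn3', inv_smul_smul]


/-- Statement S1634. -/
theorem mcl_2025 (v w : ↥Cfsg.leechLattice) (hv : Cfsg.sqNorm (v : Cfsg.GolayPt → ℤ) = 32) (hw : Cfsg.sqNorm (w : Cfsg.GolayPt → ℤ) = 32) (hvw : Cfsg.dotInt (v : Cfsg.GolayPt → ℤ) (w : Cfsg.GolayPt → ℤ) = -8) : {x : ↥Cfsg.leechLattice | Cfsg.sqNorm (x : Cfsg.GolayPt → ℤ) = 32 ∧ Cfsg.dotInt (v : Cfsg.GolayPt → ℤ) (x : Cfsg.GolayPt → ℤ) = 0 ∧ Cfsg.dotInt (w : Cfsg.GolayPt → ℤ) (x : Cfsg.GolayPt → ℤ) = 16}.ncard = 2025 ∧ (∀ x ∈ {x : ↥Cfsg.leechLattice | Cfsg.sqNorm (x : Cfsg.GolayPt → ℤ) = 32 ∧ Cfsg.dotInt (v : Cfsg.GolayPt → ℤ) (x : Cfsg.GolayPt → ℤ) = 0 ∧ Cfsg.dotInt (w : Cfsg.GolayPt → ℤ) (x : Cfsg.GolayPt → ℤ) = 16}, ∀ x' ∈ {x : ↥Cfsg.leechLattice | Cfsg.sqNorm (x : Cfsg.GolayPt → ℤ) = 32 ∧ Cfsg.dotInt (v : Cfsg.GolayPt → ℤ) (x : Cfsg.GolayPt →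 ℤ) = 0 ∧ Cfsg.dotInt (w : Cfsg.GolayPt → ℤ) (x : Cfsg.GolayPt → ℤ) = 16}, ∃ g : ↥Cfsg.Co0, g • v = v ∧ g • w = w ∧ g • x = x') ∧ ∀ x ∈ {x : ↥Cfsg.leechLattice | Cfsg.sqNorm (x : Cfsg.GolayPt → ℤ) = 32 ∧ Cfsg.dotInt (v : Cfsg.GolayPt → ℤ) (x : Cfsg.GolayPt → ℤ) = 0 ∧ Cfsg.dotInt (w : Cfsg.GolayPt → ℤ) (x : Cfsg.GolayPt → ℤ) = 16}, ∃ y₁ ∈ {x : ↥Cfsg.leechLattice | Cfsg.sqNorm (x : Cfsg.GolayPt → ℤ) = 32 ∧ Cfsg.dotInt (v : Cfsg.GolayPt → ℤ) (x : Cfsg.GolayPt → ℤ) = 0 ∧ Cfsg.dotInt (w : Cfsg.GolayPt → ℤ) (x : Cfsg.GolayPt → ℤ) = 16}, ∃ y₂ ∈ {x : ↥Cfsg.leechLattice | Cfsg.sqNorm (x : Cfsg.GolayPt → ℤ) = 32 ∧ Cfsg.dotInt (v : Cfsg.GolayPt → ℤ) (x : Cfsg.GolayPt → ℤ) = 0 ∧ Cfsg.dotInt (w : Cfsg.GolayPt → ℤ) (x : Cfsg.GolayPt → ℤ) = 16}, ∃ y₃ ∈ {x : ↥Cfsg.leechLattice | Cfsg.sqNorm (x : Cfsg.GolayPt → ℤ) = 32 ∧ Cfsg.dotInt (v : Cfsg.GolayPt → ℤ) (x : Cfsg.GolayPt → ℤ) = 0 ∧ Cfsg.dotInt (w : Cfsg.GolayPt → ℤ) (x : Cfsg.GolayPt → ℤ) = 16}, (MulAction.orbit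 ↥(MulAction.stabilizer ↥Cfsg.Co0 v ⊓ MulAction.stabilizer ↥Cfsg.Co0 w ⊓ MulAction.stabilizer ↥Cfsg.Co0 x) y₁).ncard = 330 ∧ (MulAction.orbit ↥(MulAction.stabilizer ↥Cfsg.Co0 v ⊓ MulAction.stabilizer ↥Cfsg.Co0 w ⊓ MulAction.stabilizer ↥Cfsg.Co0 x) y₂).ncard = 462 ∧ (MulAction.orbit ↥(MulAction.stabilizer ↥Cfsg.Co0 v ⊓ MulAction.stabilizer ↥Cfsg.Co0 w ⊓ MulAction.stabilizer ↥Cfsg.Co0 x) y₃).ncard = 1232 := by
  have hu : sqNorm ((-(v + w) : ↥leechLattice) : GolayPt → ℤ) = 48 := by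
    show sqNorm (-((v : GolayPt → ℤ) + (w : GolayPt → ℤ))) = 48
    rw [sqNorm_neg, sqNorm_add, hv, hw, hvw]
    norm_num
  have hv' : sqNorm ((-v : ↥leechLattice) : GolayPt → ℤ) = 32 ∧
      sqNorm (((-(v + w) : ↥leechLattice) : GolayPt → ℤ) -
        ((-v : ↥leechLattice) : GolayPt → ℤ)) = 32 := by
    constructor
    · show sqNorm (-(v : GolayPt → ℤ)) = 32
      rw [sqNorm_neg, hv]
    · have e : ((-(v + w) : ↥leechLattice) : GolayPt → ℤ) -
          ((-v : ↥leechLattice) : GolayPt → ℤ) = -(w : GolayPt → ℤ) := by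
        show -((v : GolayPt → ℤ) + (w : GolayPt → ℤ)) - -(v : GolayPt → ℤ) = -(w : GolayPt → ℤ)
        abel
      rw [e, sqNorm_neg, hw]
  obtain ⟨k0, hk01, hk02⟩ := mcl_frame (-(v + w)) (-v) hu hv'
  have key0 := q_key v w k0 hk01 hk02
  refine ⟨?_, ?_, ?_⟩
  · have key : ∀ x : ↥leechLattice, x ∈ {x : ↥leechLattice | sqNorm (x : GolayPt → ℤ) = 32 ∧
        dotInt (v : GolayPt → ℤ) (x : GolayPt → ℤ) = 0 ∧
        dotInt (w : GolayPt → ℤ) (x : GolayPt → ℤ) = 16} ↔
        ((k0 • x : ↥leechLattice) : GolayPt → ℤ) ∈ YQ := by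
      intro x
      rw [Set.mem_ofPred_eq]
      exact key0 x
    exact (ncard_smul_val k0 _ YQ YQ_mem_lattice key).trans card_YQ
  · intro x hx x' hx'
    have r := relQ_main ((key0 x).mp hx)
    have r' := relQ_main ((key0 x').mp hx')
    obtain ⟨_, _, n, hn1, hn2, hn3⟩ := relL_trans r (relL_symm r')
    have hn3' : n • (k0 • x) = k0 • x' := hn3
    have g1 : (k0⁻¹ * n * k0) • (-(v + w)) = -(v + w) := by
      rw [mul_smul, mul_smul, hk01, hn1, ← hk01, inv_smul_smul]
    have g2 : (k0⁻¹ * n * k0) • (-v) = -v := by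
      rw [mul_smul, mul_smul, hk02, hn2 X0 (by simp), ← hk02, inv_smul_smul]
    obtain ⟨g4, g5⟩ := fix_vw _ v w g1 g2
    refine ⟨k0⁻¹ * n * k0, g4, g5, ?_⟩
    rw [mul_smul, mul_smul, hn3', inv_smul_smul]
  · intro x hx
    obtain ⟨_, _, n, hn1, hn2, hn3⟩ := relQ_main ((key0 x).mp hx)
    have hn3' : n • (k0 • x) = R1 := hn3
    have hk1 : (n * k0) • (-(v + w)) = T0 := by rw [mul_smul, hk01, hn1]
    have hk2 : (n * k0) • (-v) = X0 := by rw [mul_smul, hk02, hn2 X0 (by simp)]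
    have hk3 : (n * k0) • x = R1 := by rw [mul_smul, hn3']
    generalize n * k0 = k at hk1 hk2 hk3
    have key := q_key v w k hk1 hk2
    have pC := vC_props rootC_oct rootC_pts.1 rootC_pts.2
    have pB := vB_props oQ_mem oQ_pts.1 oQ_pts.2.1 oQ_pts.2.2.2 (by decide) (by decide)
    have pD := vD_props setOf_o0_mem_octads o0_pts.1 o0_pts.2 o0_pt1 (by decide)
    have eC : k • (k⁻¹ • (⟨vC (setOf 10558), YQ_mem_lattice _ pC.1⟩ : ↥leechLattice)) =
        ⟨vC (setOf 10558), YQ_mem_lattice _ pC.1⟩ := smul_inv_smul _ _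
    have eB : k • (k⁻¹ • (⟨vB oQ (pt 5), YQ_mem_lattice _ pB.1⟩ : ↥leechLattice)) =
        ⟨vB oQ (pt 5), YQ_mem_lattice _ pB.1⟩ := smul_inv_smul _ _
    have eD : k • (k⁻¹ • (⟨vD (setOf o0) (pt 1), YQ_mem_lattice _ pD.1⟩ : ↥leechLattice)) =
        ⟨vD (setOf o0) (pt 1), YQ_mem_lattice _ pD.1⟩ := smul_inv_smul _ _
    refine ⟨k⁻¹ • ⟨vC (setOf 10558), YQ_mem_lattice _ pC.1⟩, (key _).mpr (by rw [eC]; exact pC.1),
      k⁻¹ • ⟨vB oQ (pt 5), YQ_mem_lattice _ pB.1⟩, (key _).mpr (by rw [eB]; exact pB.1),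
      k⁻¹ • ⟨vD (setOf o0) (pt 1), YQ_mem_lattice _ pD.1⟩, (key _).mpr (by rw [eD]; exact pD.1),
      ?_, ?_, ?_⟩
    · refine (q_orbit v w x k hk1 hk2 hk3 _ (by rw [eC]; exact pC.1) 0 (by rw [eC]; exact pC.2)
        (by norm_num)).trans ?_
      rw [qfib3, card_QC]
    · refine (q_orbit v w x k hk1 hk2 hk3 _ (by rw [eB]; exact pB.1) (-2) (by rw [eB]; exact pB.2)
        (by norm_num)).trans ?_
      rw [qfib2, card_QB]
    · refine (q_orbit v w x k hk1 hk2 hk3 _ (by rw [eD]; exact pD.1) (-1) (by rw [eD]; exact pD.2)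
        (by norm_num)).trans ?_
      rw [qfib4, card_QD]

end Cfsg.Agent.Lib.helper28.XI
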